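import Cfsg.Agent.Lib.BlockApps.SameHeightZeroSets
import Cfsg.Agent.Lib.Glauberman.CoprimeDegree
import Cfsg.Agent.Lib.CharsMore.Clifford
import Cfsg.Agent.Lib.Coprime.Action

/-!
# Degrees prime to `p` and to `q` in the principal blocks; commuting Sylow subgroups
-/

set_option autoImplicit false
set_option linter.unusedSectionVars false
set_option linter.style.haveILetI false

namespace CfsgLib.BlockApps.CommSyl

open Cfsg CfsgLib.Chars CfsgLib.Blocks
open scoped Pointwise

universe u

/-- The characters of degree prime to `p` have degree prime to `q`. -/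
def DegHyp (p q : ℕ) (G : Type u) [Group G] : Prop :=
  ∀ χ : IrrCharacter G, ¬ p ∣ charDegree (χ : G → ℂ) → ¬ q ∣ charDegree (χ : G → ℂ)

variable {G : Type u} [Group G] [Finite G] {p q : ℕ} [hp : Fact p.Prime] [hq : Fact q.Prime]

theorem degHyp_quotient (N : Subgroup G) [N.Normal] (h : DegHyp p q G) : DegHyp p q (G ⧸ N) :=
  fun ψ hψ => h ⟨fun g => (ψ : G ⧸ N → ℂ) g, isIrrCharacter_inflate N ψ.2⟩ hψ

/-- The index of the inertia group below an extension to a subgroup of index prime to `p`. -/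
theorem not_dvd_inertia_index [Fintype G] (h : DegHyp p q G) (O : Subgroup G) [O.Normal] (θ : IrrCharacter O)
    (hθp : ¬ p ∣ charDegree (θ : O → ℂ)) (H : Subgroup G) (hOH : O ≤ H) (hH : ¬ p ∣ H.index)
    (φ : IrrCharacter H) (hφ : ∀ n : O, (φ : H → ℂ) ⟨n, hOH n.2⟩ = (θ : O → ℂ) n) :
    ¬ q ∣ (CharsMore.inertia O (θ : O → ℂ)).index := by
  classical
  haveI := Fintype.ofFinite H
  haveI := Fintype.ofFinite O
  have hdeg : charDegree (φ : H → ℂ) = charDegree (θ : O → ℂ) := by
    have e : ((charDegree (φ : H → ℂ) : ℕ) : ℂ) = ((charDegree (θ : O → ℂ) : ℕ) : ℂ) := by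
      rw [← CharApps.deg_eq, ← CharApps.deg_eq, ← hφ 1]
      rfl
    exact_mod_cast e
  obtain ⟨χ, hχ, hin⟩ := Blocks.PPrimeKernel.exists_over_degree H φ hH (hdeg ▸ hθp)
  have h1 : classInner (fun h : H => (χ : G → ℂ) h) (φ : H → ℂ) ≠ 0 := by
    rw [← inner_conj]
    simpa using hin
  have h2 := Blocks.constituent_trans H (Subgroup.inclusion hOH) (χ := χ) (ψ := φ) h1 (φ := θ) (by
    rw [show (fun k : O => (φ : H → ℂ) (Subgroup.inclusion hOH k)) = (θ : O → ℂ) from funext hφ,
      inner_irr_self]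
    exact one_ne_zero)
  have h3 := CharsMore.clifford_degree O χ.2 θ.2 h2
  obtain ⟨m, hm⟩ := inner_irr_right_nat (isCharacter_restrict O (isCharacter_of_irr χ.2)) θ
  rw [hm, CharApps.deg_eq, CharApps.deg_eq] at h3
  have h4 : charDegree (χ : G → ℂ) = m * (CharsMore.inertia O (θ : O → ℂ)).index *
      charDegree (θ : O → ℂ) := by exact_mod_cast h3
  intro hd
  exact h χ hχ (h4 ▸ dvd_mul_of_dvd_left (dvd_mul_of_dvd_right hd m) _)

/-- A `q`-subgroup lies in a normal subgroup of index prime to `q`. -/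
theorem le_of_isPGroup (R : Subgroup G) [R.Normal] (hR : ¬ q ∣ R.index) {Q : Subgroup G}
    (hQ : IsPGroup q Q) : Q ≤ R := by
  intro x hx
  obtain ⟨j, hj⟩ := hQ ⟨x, hx⟩
  rw [← QuotientGroup.eq_one_iff, ← orderOf_eq_one_iff]
  refine Nat.eq_one_of_dvd_coprimes ((hq.out.coprime_iff_not_dvd.2 hR).pow_left j)
    (orderOf_dvd_of_pow_eq_one ?_) ?_
  · rw [← QuotientGroup.mk_pow, show x ^ q ^ j = 1 from congrArg Subtype.val hj,
      QuotientGroup.mk_one]
  · rw [Subgroup.index_eq_card]
    exact orderOf_dvd_natCard _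

/-- An invariant Sylow subgroup inside a subgroup of index prime to `q`. -/
theorem exists_sylow_inv {A K : Subgroup G} (hAK : A ≤ Subgroup.normalizer (K : Set G))
    (hcop : (Nat.card A).Coprime (Nat.card K)) (hA : Group.IsSolvable A) (hK : ¬ q ∣ K.index) :
    ∃ Q : Sylow q G, (Q : Subgroup G) ≤ K ∧ A ≤ Subgroup.normalizer ((Q : Subgroup G) : Set G) := by
  obtain ⟨Q₀, hQ₀⟩ := Coprime.exists_invariant_sylow (p := q) hAK hcop (Or.inl hA)
  have hi : ¬ q ∣ ((Q₀ : Subgroup K).map K.subtype).index := by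
    rw [Subgroup.index_map_subtype]
    exact hq.out.not_dvd_mul Q₀.not_dvd_index hK
  exact ⟨(Q₀.2.map K.subtype).toSylow hi, Subgroup.map_subtype_le _, hQ₀⟩

/-- Invariant Sylow subgroups coincide when the fixed points normalise one of them. -/
theorem sylow_unique {A R : Subgroup G} (hAR : A ≤ Subgroup.normalizer (R : Set G))
    (hcop : (Nat.card A).Coprime (Nat.card R)) (hA : Group.IsSolvable A) (Q Q' : Sylow q G)
    (hQR : (Q : Subgroup G) ≤ R) (hQ'R : (Q' : Subgroup G) ≤ R)
    (hQ : A ≤ Subgroup.normalizer ((Q : Subgroup G) : Set G))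
    (hQ' : A ≤ Subgroup.normalizer ((Q' : Subgroup G) : Set G))
    (hC : R ⊓ Subgroup.centralizer (A : Set G) ≤ Subgroup.normalizer ((Q : Subgroup G) : Set G)) :
    (Q' : Subgroup G) = Q := by
  obtain ⟨k, hk⟩ := MulAction.exists_smul_eq R (Q.subtype hQR) (Q'.subtype hQ'R)
  have h1 := congrArg (fun S : Sylow q R => (S : Subgroup R).map R.subtype) hk
  simp only [Sylow.coe_subgroup_smul, Sylow.coe_subtype] at h1
  have h2 : MulAut.conj (k : G) • (Q : Subgroup G) = (Q' : Subgroup G) := by
    have h3 := Coprime.conj_smul_map R.subtype k ((Q : Subgroup G).subgroupOf R)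
    rw [Subgroup.map_subgroupOf_eq_of_le hQR] at h3
    rw [Subgroup.map_subgroupOf_eq_of_le hQ'R] at h1
    exact h3.trans h1
  obtain ⟨c, hc, hcQ⟩ := Coprime.exists_centralizing_conj_eq hAR hcop (Or.inl hA) hQ hQ'
    ⟨k, k.2, h2⟩
  rw [← hcQ]
  exact Coprime.conj_smul_eq_self_of_mem_normalizer (hC hc)

/-- Jordan: a subgroup meeting every class is everything. -/
theorem eq_top_of_meets_classes (D : Subgroup G) (h : ∀ g : G, ∃ k : G, k⁻¹ * g * k ∈ D) :
    D = ⊤ := by
  classical
  haveI := Fintype.ofFinite G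
  haveI := Fintype.ofFinite (G ⧸ D)
  haveI : Fintype (MulAction.orbitRel.Quotient G (G ⧸ D)) := Fintype.ofFinite _
  by_contra hne
  have hfix : ∀ g : G, 1 ≤ Fintype.card (MulAction.fixedBy (G ⧸ D) g) := by
    intro g
    obtain ⟨k, hk⟩ := h g
    refine Fintype.card_pos_iff.2 ⟨⟨(k : G ⧸ D), ?_⟩⟩
    show g • (k : G ⧸ D) = (k : G ⧸ D)
    rw [MulAction.Quotient.smul_mk, QuotientGroup.eq, smul_eq_mul,
      show (g * k)⁻¹ * k = (k⁻¹ * g * k)⁻¹ by group]
    exact D.inv_mem hk
  have hone : 1 < Fintype.card (MulAction.fixedBy (G ⧸ D) (1 : G)) := by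
    have : MulAction.fixedBy (G ⧸ D) (1 : G) = Set.univ :=
      Set.eq_univ_of_forall fun x => one_smul G x
    rw [← Nat.card_eq_fintype_card, this, Nat.card_congr (Equiv.Set.univ _), ← Subgroup.index_eq_card]
    have h0 : D.index ≠ 0 := Subgroup.index_ne_zero_of_finite
    have h1 : D.index ≠ 1 := fun e => hne (Subgroup.index_eq_one.1 e)
    omega
  have hsum := MulAction.sum_card_fixedBy_eq_card_orbits_mul_card_group G (G ⧸ D)
  have h1 : Fintype.card (MulAction.orbitRel.Quotient G (G ⧸ D)) ≤ 1 := by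
    rw [Fintype.card_le_one_iff]
    intro a b
    induction a using Quotient.inductionOn' with | h a => ?_
    induction b using Quotient.inductionOn' with | h b => ?_
    exact Quotient.sound' (MulAction.exists_smul_eq G b a)
  have h2 : ∑ _g : G, 1 < ∑ g : G, Fintype.card (MulAction.fixedBy (G ⧸ D) g) :=
    Finset.sum_lt_sum (fun g _ => hfix g) ⟨1, Finset.mem_univ _, hone⟩
  rw [hsum] at h2
  simp only [Finset.sum_const, Finset.card_univ, smul_eq_mul, mul_one] at h2
  exact lt_irrefl _ (lt_of_lt_of_le h2 ((Nat.mul_le_mul_right _ h1).trans (one_mul _).le))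

/-- Fixed points of `P` centralise `Q` when all `P`-invariant characters are `Q`-invariant. -/
theorem inf_centralizer_le {O S T : Subgroup G} (hST : S ≤ T)
    (hSO : S ≤ Subgroup.normalizer (O : Set G)) (hTO : T ≤ Subgroup.normalizer (O : Set G))
    (hcopS : (Nat.card O).Coprime (Nat.card S)) (hcop : (Nat.card O).Coprime (Nat.card T))
    (hS : Group.IsSolvable S) (hT : Group.IsSolvable T)
    (hinv : ∀ θ : IrrCharacter O, Glauberman.InvBy S O (θ : O → ℂ) →
      Glauberman.InvBy T O (θ : O → ℂ)) :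
    O ⊓ Subgroup.centralizer (S : Set G) ≤ Subgroup.centralizer (T : Set G) := by
  classical
  set C := O ⊓ Subgroup.centralizer (S : Set G)
  set D := O ⊓ Subgroup.centralizer (T : Set G)
  have hDC : D ≤ C := inf_le_inf_left _ (Subgroup.centralizer_le hST)
  have hcard : Nat.card (ConjClasses C) = Nat.card (ConjClasses D) := by
    rw [← Glauberman.card_inv_classes hSO hcopS hS, ← Glauberman.card_inv_irr_eq_classes hSO hcopS hS,
      ← Glauberman.card_inv_classes hTO hcop hT, ← Glauberman.card_inv_irr_eq_classes hTO hcop hT]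
    refine Nat.card_congr (Equiv.subtypeEquivRight fun θ => ⟨hinv θ, fun hθ s hs => hθ s (hST hs)⟩)
  let ι : D →* C := Subgroup.inclusion hDC
  let f : ConjClasses D → ConjClasses C := fun K => Quotient.liftOn K
    (fun d => ConjClasses.mk (ι d))
    fun a b hab => ConjClasses.mk_eq_mk_iff_isConj.2 (MonoidHom.map_isConj ι hab)
  have hinj : Function.Injective f := by
    intro K₁ K₂ e
    obtain ⟨a, rfl⟩ := ConjClasses.mk_surjective K₁
    obtain ⟨b, rfl⟩ := ConjClasses.mk_surjective K₂
    obtain ⟨k, hk⟩ := isConj_iff.1 (ConjClasses.mk_eq_mk_iff_isConj.1 e)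
    letI : MulAction G G := MulAction.compHom _ (MulAut.conj : G →* MulAut G)
    have hfix : ∀ d : D, ∀ t ∈ T, t * (d : G) * t⁻¹ = d := fun d t ht => by
      rw [Subgroup.mem_centralizer_iff.1 d.2.2 t ht, mul_inv_cancel_right]
    obtain ⟨c, hc, hca⟩ := Coprime.exists_centralizing_smul_eq (A := T) (K := O) hTO hcop.symm
      (Or.inl hT) (x := (a : G)) (y := (b : G)) (hfix a) (hfix b)
      ⟨(k : G), k.2.1, congrArg Subtype.val hk⟩
    exact ConjClasses.mk_eq_mk_iff_isConj.2 (isConj_iff.2 ⟨⟨c, hc⟩, Subtype.ext hca⟩)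
  have hsurj : Function.Surjective f :=
    (Nat.bijective_iff_injective_and_card f).2 ⟨hinj, hcard.symm⟩ |>.2
  have htop : D.subgroupOf C = ⊤ := by
    refine eq_top_of_meets_classes _ fun c => ?_
    obtain ⟨K, hK⟩ := hsurj (ConjClasses.mk c)
    obtain ⟨d, rfl⟩ := ConjClasses.mk_surjective K
    obtain ⟨k, hk⟩ := isConj_iff.1 (ConjClasses.mk_eq_mk_iff_isConj.1 hK)
    refine ⟨k, Subgroup.mem_subgroupOf.2 ?_⟩
    rw [← hk, show k⁻¹ * (k * ι d * k⁻¹) * k = ι d by group]
    exact d.2
  rw [Subgroup.subgroupOf_eq_top] at htop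
  exact htop.trans inf_le_right

/-- A Sylow `q`-subgroup normalised by a Sylow `p`-subgroup and its fixed points. -/
theorem exists_sylow_normalized (n : ℕ) : ∀ {G : Type u} [Group G] [Finite G],
    Nat.card G ≤ n → DegHyp p q G → ∀ (R : Subgroup G) [R.Normal], IsPSolvable q R →
    ¬ p ∣ Nat.card R → ¬ q ∣ R.index → ∀ P : Sylow p G, ∃ Q : Sylow q G,
      (P : Subgroup G) ≤ Subgroup.normalizer ((Q : Subgroup G) : Set G) ∧
      R ⊓ Subgroup.centralizer ((P : Subgroup G) : Set G) ≤
        Subgroup.normalizer ((Q : Subgroup G) : Set G) := by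
  induction n with
  | zero =>
    intro G _ _ hG
    exact absurd (Nat.card_pos (α := G)) (by omega)
  | succ n ih =>
    intro G _ _ hG h R _ hqs hpR hqR P
    classical
    haveI := Fintype.ofFinite G
    by_cases hR : R = ⊥
    · obtain ⟨Q⟩ : Nonempty (Sylow q G) := inferInstance
      have hQ : (Q : Subgroup G) = ⊥ := le_bot_iff.1 (hR ▸ le_of_isPGroup R hqR Q.2)
      have : Subgroup.normalizer ((Q : Subgroup G) : Set G) = ⊤ := by
        rw [hQ, Subgroup.normalizer_eq_top_iff]
        infer_instance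
      exact ⟨Q, this ▸ le_top, this ▸ le_top⟩
    haveI : Nontrivial R := (Subgroup.nontrivial_iff_ne_bot R).2 hR
    obtain ⟨a, ha⟩ := IsPGroup.iff_card.1 P.2
    have hcopP : ∀ {K : Subgroup G}, K ≤ R →
        (Nat.card (P : Subgroup G)).Coprime (Nat.card K) := fun hK =>
      ha ▸ ((hp.out.coprime_iff_not_dvd.2 fun hd =>
        hpR (hd.trans (Subgroup.card_dvd_of_le hK))).pow_left a)
    haveI := P.2.isNilpotent
    have hPsol : Group.IsSolvable (P : Subgroup G) := inferInstance
    obtain ⟨O, hOn, hOne, hOR, hOq⟩ : ∃ O : Subgroup G, O.Normal ∧ O ≠ ⊥ ∧ O ≤ R ∧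
        (IsPGroup q O ∨ ¬ q ∣ Nat.card O) := by
      rcases PLocal.pCore_ne_bot_or_pPrimeCore_ne_bot hqs with h' | h'
      · exact ⟨(pCore q R).map R.subtype, Base.normal_map_subtype _,
          by rwa [Ne, Subgroup.map_eq_bot_iff_of_injective _ R.subtype_injective],
          Subgroup.map_subtype_le _, Or.inl ((Base.isPGroup_pCore q R).map _)⟩
      · exact ⟨(pPrimeCore q R).map R.subtype, Base.normal_map_subtype _,
          by rwa [Ne, Subgroup.map_eq_bot_iff_of_injective _ R.subtype_injective],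
          Subgroup.map_subtype_le _, Or.inr (by
            rw [Subgroup.card_subtype]; exact Base.not_dvd_card_pPrimeCore q R)⟩
    haveI := hOn
    set π := QuotientGroup.mk' O
    have hπ : Function.Surjective π := QuotientGroup.mk'_surjective O
    set R' := R.map π
    haveI : R'.Normal := Subgroup.Normal.map inferInstance π hπ
    have hlt : Nat.card (G ⧸ O) ≤ n := by
      have h1 := O.index_mul_card
      rw [Subgroup.index_eq_card] at h1
      have h2 : 2 ≤ Nat.card O := by
        haveI : Nontrivial O := (Subgroup.nontrivial_iff_ne_bot O).2 hOne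
        exact Finite.one_lt_card
      have h3 : 0 < Nat.card (G ⧸ O) := Nat.card_pos
      nlinarith
    obtain ⟨Q', hQ'P, hQ'C⟩ := ih hlt (degHyp_quotient O h) R' (PLocal.isPSolvable_map π hqs)
      (fun hd => hpR (hd.trans (Subgroup.card_map_dvd R π)))
      (fun hd => hqR (hd.trans (Subgroup.index_map_dvd R hπ))) (P.mapSurjective hπ)
    set M := (Q' : Subgroup (G ⧸ O)).comap π with hMdef
    have hMi : ¬ q ∣ M.index := by
      rw [hMdef, Subgroup.index_comap_of_surjective _ hπ]
      exact Q'.not_dvd_index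
    have hnormM : ∀ {x : G}, π x ∈ Subgroup.normalizer ((Q' : Subgroup (G ⧸ O)) : Set (G ⧸ O)) →
        x ∈ Subgroup.normalizer (M : Set G) := fun {x} hx => by
      rw [Subgroup.mem_normalizer_iff] at hx ⊢
      intro y
      simp only [hMdef, Subgroup.mem_comap, map_mul, map_inv]
      exact hx (π y)
    have hPM : (P : Subgroup G) ≤ Subgroup.normalizer (M : Set G) := fun x hx =>
      hnormM (hQ'P ⟨x, hx, rfl⟩)
    have hCM : R ⊓ Subgroup.centralizer ((P : Subgroup G) : Set G) ≤
        Subgroup.normalizer (M : Set G) := fun x hx => hnormM (hQ'C ⟨⟨x, hx.1, rfl⟩, Subgroup.mem_centralizer_iff.2 (by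
      rintro _ ⟨y, hy, rfl⟩
      rw [← map_mul, ← map_mul, Subgroup.mem_centralizer_iff.1 hx.2 y hy])⟩)
    have hMR : M ≤ R := by
      rw [hMdef, ← Subgroup.comap_map_eq_self (show π.ker ≤ R by
        rw [QuotientGroup.ker_mk']; exact hOR)]
      exact Subgroup.comap_mono (le_of_isPGroup R'
        (fun hd => hqR (hd.trans (Subgroup.index_map_dvd R hπ))) Q'.2)
    rcases hOq with hOq | hOq
    · -- `O` is a `q`-group
      have hMq : IsPGroup q M := by
        have := Q'.2.comap_of_ker_isPGroup π (by rw [QuotientGroup.ker_mk']; exact hOq)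
        exact this
      exact ⟨hMq.toSylow hMi, hPM, hCM⟩
    -- `O` is a `q'`-group
    obtain ⟨Q₀, hQ₀M, hQ₀P⟩ := exists_sylow_inv (q := q) hPM (hcopP hMR) hPsol hMi
    have hQ₀O : (Q₀ : Subgroup G) ≤ Subgroup.normalizer (O : Set G) :=
      Subgroup.normalizer_eq_top (H := O) ▸ le_top
    have hmapQ : ∀ S : Sylow q G, (P : Subgroup G) ≤ Subgroup.normalizer ((S : Subgroup G) : Set G) →
        (S : Subgroup G).map π = Q' := by
      intro S hS
      refine sylow_unique (A := ((P.mapSurjective hπ : Sylow p (G ⧸ O)) : Subgroup (G ⧸ O)))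
        (R := R') (Subgroup.normalizer_eq_top (H := R') ▸ le_top) ?_ ?_ Q' (S.mapSurjective hπ)
        (le_of_isPGroup R' (fun hd => hqR (hd.trans (Subgroup.index_map_dvd R hπ))) Q'.2)
        (Subgroup.map_mono (le_of_isPGroup R hqR S.2)) hQ'P ?_ hQ'C
      · refine (Nat.Coprime.coprime_dvd_left (Subgroup.card_map_dvd (P : Subgroup G) π) ?_)
        exact (hcopP le_rfl).coprime_dvd_right (Subgroup.card_map_dvd R π)
      · exact Coprime.isSolvable_map π hPsol
      · rintro _ ⟨x, hx, rfl⟩
        exact Subgroup.le_normalizer_map π ⟨x, hS hx, rfl⟩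
    have hMeq : ∀ S : Sylow q G,
        (P : Subgroup G) ≤ Subgroup.normalizer ((S : Subgroup G) : Set G) →
        (S : Subgroup G) ⊔ O = M := fun S hS => by
      rw [hMdef, ← hmapQ S hS, Subgroup.comap_map_eq, QuotientGroup.ker_mk']
    -- the invariant characters of `O`
    have hQfix : ∀ θ : IrrCharacter O, Glauberman.InvBy (P : Subgroup G) O (θ : O → ℂ) →
        (Q₀ : Subgroup G) ≤ CharsMore.inertia O (θ : O → ℂ) := by
      intro θ hθ
      have hOI : O ≤ CharsMore.inertia O (θ : O → ℂ) :=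
        CharsMore.le_inertia O (isClassFunction_irr θ)
      have hPI : (P : Subgroup G) ≤ CharsMore.inertia O (θ : O → ℂ) := fun g hg =>
        (CharsMore.mem_inertia O).2 fun m => hθ g hg m _ (by simp)
      set H := O ⊔ (P : Subgroup G) with hH
      have hHp : ¬ p ∣ H.index :=
        fun hd => P.not_dvd_index (hd.trans (Subgroup.index_dvd_of_le le_sup_right))
      haveI : (O.subgroupOf H).Normal := Subgroup.Normal.subgroupOf hOn H
      let e : O.subgroupOf H ≃* O := Subgroup.subgroupOfEquivOfLe le_sup_left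
      haveI := Fintype.ofFinite (O.subgroupOf H)
      have hidx : (O.subgroupOf H).index ∣ Nat.card (P : Subgroup G) := by
        rw [hH, sup_comm]
        change O.relIndex ((P : Subgroup G) ⊔ O) ∣ _
        rw [Subgroup.relIndex_sup_right]
        exact Subgroup.relIndex_dvd_card _ _
      have hinvH : ∀ (g : H) (m : O.subgroupOf H),
          (θ : O → ℂ) (e (CharsMore.conjBy (O.subgroupOf H) g m)) = (θ : O → ℂ) (e m) := by
        intro g m
        have hg : (g : G) ∈ CharsMore.inertia O (θ : O → ℂ) := (sup_le hOI hPI) g.2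
        rw [← (CharsMore.mem_inertia O).1 hg (e m)]
        rfl
      obtain ⟨χ, hχ, hχθ⟩ := Glauberman.exists_ext_of_coprime_card (O.subgroupOf H)
        (by
          rw [Nat.card_congr e.toEquiv]
          exact ((hcopP hOR).symm).coprime_dvd_right hidx)
        ⟨fun m => (θ : O → ℂ) (e m), isIrrCharacter_comp e.toMonoidHom e.surjective θ.2⟩ hinvH
      haveI := Fintype.ofFinite O
      have hθp : ¬ p ∣ charDegree (θ : O → ℂ) := by
        intro hd
        obtain ⟨d, -, hd1, hdvd⟩ := irr_degree_dvd_card θ.2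
        rw [CharApps.deg_eq] at hd1
        have : charDegree (θ : O → ℂ) = d := by exact_mod_cast hd1
        exact hpR ((hd.trans (this ▸ hdvd)).trans (Subgroup.card_dvd_of_le hOR))
      have hI := not_dvd_inertia_index h O θ hθp H le_sup_left hHp ⟨χ, hχ⟩
        (fun m => hχθ ⟨⟨m, le_sup_left (b := (P : Subgroup G)) m.2⟩, m.2⟩)
      set I := CharsMore.inertia O (θ : O → ℂ)
      have hIR : ¬ q ∣ (I ⊓ R).index := by
        intro hd
        rcases hq.out.dvd_mul.1 (hd.trans (by
          rw [← Subgroup.relIndex_mul_index (inf_le_left : I ⊓ R ≤ I), Subgroup.inf_relIndex_left]))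
          with h1 | h1
        · exact hqR (h1.trans (Subgroup.relIndex_dvd_index_of_normal R I))
        · exact hI h1
      obtain ⟨S, hSIR, hSP⟩ := exists_sylow_inv (q := q) (A := (P : Subgroup G)) (K := I ⊓ R)
        (Coprime.le_normalizer_inf_inf (hPI.trans Subgroup.le_normalizer)
          (Subgroup.normalizer_eq_top (H := R) ▸ le_top))
        (hcopP inf_le_right) hPsol hIR
      calc (Q₀ : Subgroup G) ≤ M := hQ₀M
        _ = (S : Subgroup G) ⊔ O := (hMeq S hSP).symm
        _ ≤ I := sup_le (hSIR.trans inf_le_left) hOI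
    set T := (P : Subgroup G) ⊔ (Q₀ : Subgroup G) with hT
    obtain ⟨b, hb⟩ := IsPGroup.iff_card.1 Q₀.2
    have hcopT : (Nat.card O).Coprime (Nat.card T) := by
      refine Nat.Coprime.coprime_dvd_right (Coprime.card_sup_dvd hQ₀P) ?_
      refine Nat.Coprime.mul_right (hcopP hOR).symm ?_
      rw [hb]
      exact ((hq.out.coprime_iff_not_dvd.2 hOq).pow_left b).symm
    have hTsol : Group.IsSolvable T := by
      haveI : ((Q₀ : Subgroup G).subgroupOf T).Normal :=
        Subgroup.normal_subgroupOf_of_le_normalizer (sup_le hQ₀P Subgroup.le_normalizer)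
      haveI := Q₀.2.isNilpotent
      haveI hs₁ : Group.IsSolvable ((Q₀ : Subgroup G).subgroupOf T) :=
        Coprime.isSolvable_subgroupOf T inferInstance
      have hd : ((Q₀ : Subgroup G).subgroupOf T).index ∣ Nat.card (P : Subgroup G) := by
        change (Q₀ : Subgroup G).relIndex T ∣ _
        rw [hT, sup_comm, Subgroup.relIndex, Subgroup.subgroupOf]
        have := Coprime.card_sup_dvd hQ₀P
        have h1 := Subgroup.relIndex_mul_relIndex ⊥ (Q₀ : Subgroup G)
          ((Q₀ : Subgroup G) ⊔ (P : Subgroup G)) bot_le le_sup_left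
        rw [Subgroup.relIndex_bot_left, Subgroup.relIndex_bot_left] at h1
        rw [sup_comm, ← h1, mul_comm (Nat.card (P : Subgroup G))] at this
        exact Nat.dvd_of_mul_dvd_mul_left Nat.card_pos this
      have hTP : IsPGroup p (T ⧸ (Q₀ : Subgroup G).subgroupOf T) := by
        rw [Subgroup.index_eq_card, ha] at hd
        obtain ⟨k, -, hk⟩ := (Nat.dvd_prime_pow hp.out).1 hd
        exact IsPGroup.of_card hk
      haveI := hTP.isNilpotent
      exact Group.isSolvable_of_ker_le_range ((Q₀ : Subgroup G).subgroupOf T).subtype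
        (QuotientGroup.mk' ((Q₀ : Subgroup G).subgroupOf T))
        (by rw [QuotientGroup.ker_mk', Subgroup.range_subtype])
    have hPN : ∀ {A : Subgroup G}, A ≤ Subgroup.normalizer (O : Set G) :=
      fun {A} => Subgroup.normalizer_eq_top (H := O) ▸ le_top
    have hkey : O ⊓ Subgroup.centralizer ((P : Subgroup G) : Set G) ≤
        Subgroup.centralizer (T : Set G) := by
      refine inf_centralizer_le (S := (P : Subgroup G)) le_sup_left hPN hPN (hcopP hOR).symm hcopT
        hPsol hTsol fun θ hθ s hs g g' e => ?_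
      have hle : T ≤ CharsMore.inertia O (θ : O → ℂ) :=
        sup_le (fun x hx => (CharsMore.mem_inertia O).2 fun m => hθ x hx m _ (by simp)) (hQfix θ hθ)
      rw [← (CharsMore.mem_inertia O).1 (hle hs) g]
      exact congrArg (θ : O → ℂ) (Subtype.ext (e.trans (CharsMore.coe_conjBy O s g).symm))
    refine ⟨Q₀, hQ₀P, fun x hx => ?_⟩
    have hxM := hCM hx
    have hxN : MulAut.conj x • (Q₀ : Subgroup G) ≤ M := by
      refine le_trans (Subgroup.pointwise_smul_le_pointwise_smul_iff.2 hQ₀M) (le_of_eq ?_)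
      exact Coprime.conj_smul_eq_self_of_mem_normalizer hxM
    have hxP : (P : Subgroup G) ≤
        Subgroup.normalizer ((MulAut.conj x • (Q₀ : Subgroup G) : Subgroup G) : Set G) := by
      rw [Coprime.le_normalizer_iff_conj_smul]
      intro y hy
      rw [← mul_smul, ← map_mul, Subgroup.mem_centralizer_iff.1 hx.2 y hy, map_mul, mul_smul,
        Coprime.le_normalizer_iff_conj_smul.1 hQ₀P y hy]
    have hC : M ⊓ Subgroup.centralizer ((P : Subgroup G) : Set G) ≤
        Subgroup.normalizer ((Q₀ : Subgroup G) : Set G) := by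
      intro c hc
      rw [← hMeq Q₀ hQ₀P] at hc
      obtain ⟨u, hu, o, ho, rfl⟩ := (Coprime.mem_sup_iff_of_le_normalizer hQ₀O).1 hc.1
      refine mul_mem (Subgroup.le_normalizer hu) (Subgroup.centralizer_le_normalizer _ ?_)
      have hcen : o ∈ Subgroup.centralizer ((P : Subgroup G) : Set G) := by
        rw [Subgroup.mem_centralizer_iff]
        intro y hy
        have h1 := Subgroup.mem_centralizer_iff.1 hc.2 y hy
        have hu' : u⁻¹ * (y * u * y⁻¹) ∈ (Q₀ : Subgroup G) :=
          mul_mem (inv_mem hu) ((Subgroup.mem_normalizer_iff.1 (hQ₀P hy) u).1 hu)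
        have ho' : o * (y * o * y⁻¹)⁻¹ ∈ O := mul_mem ho (inv_mem (hOn.conj_mem o ho y))
        have e : u⁻¹ * (y * u * y⁻¹) = o * (y * o * y⁻¹)⁻¹ := by
          have h2 : y * (u * o) * y⁻¹ = u * o := by rw [h1, mul_inv_cancel_right]
          calc u⁻¹ * (y * u * y⁻¹) = u⁻¹ * (y * (u * o) * y⁻¹) * (y * o * y⁻¹)⁻¹ := by group
            _ = o * (y * o * y⁻¹)⁻¹ := by rw [h2]; group
        have hcopQO : (Nat.card (Q₀ : Subgroup G)).Coprime (Nat.card O) := by
          rw [hb]; exact (hq.out.coprime_iff_not_dvd.2 hOq).pow_left b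
        have h3 : o * (y * o * y⁻¹)⁻¹ ∈ ((Q₀ : Subgroup G) ⊓ O : Subgroup G) := ⟨e ▸ hu', ho'⟩
        rw [Coprime.inf_eq_bot_of_coprime hcopQO, Subgroup.mem_bot, mul_inv_eq_one] at h3
        calc y * o = y * o * y⁻¹ * y := by group
          _ = o * y := by rw [← h3]
      exact Subgroup.centralizer_le (show ((Q₀ : Subgroup G) : Set G) ⊆ T from
        fun z hz => le_sup_right (a := (P : Subgroup G)) hz) (hkey ⟨ho, hcen⟩)
    obtain ⟨c, hcM, hceq⟩ : ∃ S : Sylow q G, (S : Subgroup G) = MulAut.conj x • (Q₀ : Subgroup G) ∧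
        (S : Subgroup G) ≤ M := ⟨x • Q₀, Sylow.coe_subgroup_smul, hxN⟩
    have := sylow_unique (A := (P : Subgroup G)) (R := M) hPM (hcopP hMR) hPsol Q₀ c hQ₀M hceq
      hQ₀P (hcM ▸ hxP) hC
    exact Coprime.mem_normalizer_iff_conj_smul.2 (hcM ▸ this)

/-- The core: with trivial `O_{p'}`, the degree hypothesis forces a `q'`-group. -/
theorem core (hpq : p ≠ q) (n : ℕ) : ∀ {G : Type u} [Group G] [Finite G],
    Nat.card G ≤ n → IsPSolvable p G → IsPSolvable q G → pPrimeCore p G = ⊥ → DegHyp p q G →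
    ¬ q ∣ Nat.card G := by
  induction n with
  | zero =>
    intro G _ _ hG
    exact absurd (Nat.card_pos (α := G)) (by omega)
  | succ n ih =>
    intro G _ _ hG hps hqs hO h hdvd
    classical
    haveI := Fintype.ofFinite G
    haveI : Nontrivial G := Finite.one_lt_card_iff_nontrivial.1
      (lt_of_lt_of_le hq.out.one_lt (Nat.le_of_dvd Nat.card_pos hdvd))
    have hp0 : pCore p G ≠ ⊥ :=
      (PLocal.pCore_ne_bot_or_pPrimeCore_ne_bot hps).resolve_right (not_not.2 hO)
    set N := (Subgroup.center (pCore p G)).map (pCore p G).subtype with hN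
    haveI hNn : N.Normal := Base.normal_map_subtype _
    have hNp : IsPGroup p N := ((Base.isPGroup_pCore p G).to_subgroup _).map _
    have hNab : ∀ a ∈ N, ∀ b ∈ N, a * b = b * a := by
      rintro _ ⟨a, ha, rfl⟩ _ ⟨b, -, rfl⟩
      exact congrArg Subtype.val (Subgroup.mem_center_iff.1 ha b).symm
    haveI : IsMulCommutative N := ⟨⟨fun a b => Subtype.ext (hNab a a.2 b b.2)⟩⟩
    have hNne : N ≠ ⊥ := by
      haveI : Nontrivial (pCore p G) := (Subgroup.nontrivial_iff_ne_bot _).2 hp0
      haveI := IsPGroup.center_nontrivial (Base.isPGroup_pCore p G)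
      rw [hN, Ne, Subgroup.map_eq_bot_iff_of_injective _ (pCore p G).subtype_injective]
      exact (Subgroup.nontrivial_iff_ne_bot _).1 inferInstance
    set π := QuotientGroup.mk' N
    have hπ : Function.Surjective π := QuotientGroup.mk'_surjective N
    set K' := pPrimeCore p (G ⧸ N)
    have hqK : ¬ q ∣ K'.index := by
      have hlt : Nat.card ((G ⧸ N) ⧸ K') ≤ n := by
        have h1 := N.index_mul_card
        rw [Subgroup.index_eq_card] at h1
        have h2 : 2 ≤ Nat.card N := by
          haveI : Nontrivial N := (Subgroup.nontrivial_iff_ne_bot N).2 hNne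
          exact Finite.one_lt_card
        have h3 : 0 < Nat.card (G ⧸ N) := Nat.card_pos
        have h4 : Nat.card ((G ⧸ N) ⧸ K') ≤ Nat.card (G ⧸ N) :=
          Nat.card_le_card_of_surjective _ (QuotientGroup.mk'_surjective K')
        nlinarith
      rw [Subgroup.index_eq_card]
      exact ih hlt (PLocal.isPSolvable_quotient (PLocal.isPSolvable_quotient hps N) K')
        (PLocal.isPSolvable_quotient (PLocal.isPSolvable_quotient hqs N) K')
        (Base.pPrimeCore_quotient_pPrimeCore p _) (degHyp_quotient K' (degHyp_quotient N h))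
    obtain ⟨P⟩ : Nonempty (Sylow p G) := inferInstance
    have hNP : N ≤ (P : Subgroup G) := (Base.le_pCore hNp).trans (Base.pCore_le_sylow P)
    obtain ⟨a, ha⟩ := IsPGroup.iff_card.1 P.2
    haveI := P.2.isNilpotent
    have hPsol : Group.IsSolvable (P : Subgroup G) := inferInstance
    set P' := P.mapSurjective hπ
    obtain ⟨Q', hQ'P, hQ'C⟩ := exists_sylow_normalized _ le_rfl (degHyp_quotient N h) K'
      (PLocal.isPSolvable_subgroup (PLocal.isPSolvable_quotient hqs N) K')
      (Base.not_dvd_card_pPrimeCore p _) hqK P'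
    obtain ⟨Q, hQ⟩ := Sylow.mapSurjective_surjective hπ q Q'
    have hQmap : (Q : Subgroup G).map π = Q' := congrArg Sylow.toSubgroup hQ
    have hQN : ∀ z ∈ (Q : Subgroup G), z ∈ N → z = 1 := fun z hz hz' =>
      Subgroup.mem_bot.1 ((IsPGroup.disjoint_of_ne q p hpq.symm _ _ Q.2 hNp).le_bot ⟨hz, hz'⟩)
    have hQnorm : (Q : Subgroup G) ≤ Subgroup.normalizer (N : Set G) :=
      Subgroup.normalizer_eq_top (H := N) ▸ le_top
    -- Frattini
    have hfr : ∀ g ∈ (P : Subgroup G), ∃ m ∈ N,
        m⁻¹ * g ∈ Subgroup.normalizer ((Q : Subgroup G) : Set G) := by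
      intro g hg
      set V := (Q : Subgroup G) ⊔ N
      have hV : V = (Q' : Subgroup (G ⧸ N)).comap π := by
        rw [← hQmap, Subgroup.comap_map_eq, QuotientGroup.ker_mk']
      have hgV : MulAut.conj g • (Q : Subgroup G) ≤ V := by
        rw [hV, Coprime.conj_smul_le_iff]
        intro z hz
        rw [Subgroup.mem_comap, map_mul, map_mul, map_inv]
        exact (Subgroup.mem_normalizer_iff.1 (hQ'P ⟨g, hg, rfl⟩) (π z)).1 (hQmap ▸ ⟨z, hz, rfl⟩)
      have hgQ : IsPGroup q (MulAut.conj g • (Q : Subgroup G) : Subgroup G) :=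
        (g • Q).2
      obtain ⟨k, hk⟩ := MulAction.exists_smul_eq V (Q.subtype le_sup_left)
        ((g • Q).subtype hgV)
      have h1 := congrArg (fun S : Sylow q V => (S : Subgroup V).map V.subtype) hk
      simp only [Sylow.coe_subgroup_smul, Sylow.coe_subtype] at h1
      have h3 := Coprime.conj_smul_map V.subtype k ((Q : Subgroup G).subgroupOf V)
      rw [Subgroup.map_subgroupOf_eq_of_le le_sup_left] at h3
      rw [Subgroup.map_subgroupOf_eq_of_le hgV] at h1
      have h4 : MulAut.conj (k : G) • (Q : Subgroup G) = MulAut.conj g • (Q : Subgroup G) :=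
        h3.trans h1
      obtain ⟨u, hu, m, hm, hkum⟩ := (Coprime.mem_sup_iff_of_le_normalizer hQnorm).1 k.2
      have hm' : u * m * u⁻¹ ∈ N := hNn.conj_mem m hm u
      refine ⟨u * m * u⁻¹, hm', Coprime.mem_normalizer_iff_conj_smul.2 ?_⟩
      rw [map_mul, mul_smul, ← h4, ← hkum, ← mul_smul, ← map_mul,
        show (u * m * u⁻¹)⁻¹ * (u * m) = u by group,
        Coprime.conj_smul_eq_self_of_mem_normalizer (Subgroup.le_normalizer hu)]
    have hinner : ∀ (l : N →* ℂˣ) (a : N) (x : N), l (a * x * a⁻¹) = l x := fun l a x => by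
      rw [map_mul, map_mul, map_inv, mul_comm (l a), mul_inv_cancel_right]
    let cj : G → N →* N := fun g => CharsMore.conjBy N g
    have hcj : ∀ g h' : G, ∀ x : N, cj (g * h') x = cj g (cj h' x) := fun g h' x =>
      Subtype.ext (by simp [cj, mul_assoc])
    have hcjN : ∀ (l : N →* ℂˣ) (a : N) (x : N), l (cj a x) = l x := fun l a x => by
      rw [show cj a x = a * x * a⁻¹ from Subtype.ext (by simp [cj])]
      exact hinner l a x
    haveI : Fintype (Q : Subgroup G) := Fintype.ofFinite _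
    let E : Subgroup (N →* ℂˣ) :=
      { carrier := {l | ∀ x : N, ∏ z : (Q : Subgroup G), l (cj z x) = 1}
        one_mem' := fun x => by simp
        mul_mem' := fun {l₁ l₂} h₁ h₂ x => by simp [Finset.prod_mul_distrib, h₁ x, h₂ x]
        inv_mem' := fun {l} h₁ x => by simp [h₁ x] }
    have hEinv : ∀ g ∈ (P : Subgroup G), ∀ l ∈ E, l.comp (cj g) ∈ E := by
      intro g hg l hl x
      obtain ⟨m, hm, hu⟩ := hfr g hg
      set u := m⁻¹ * g
      have hlu : ∀ y, l (cj g y) = l (cj u y) := fun y => by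
        rw [show g = m * u by simp [u], hcj]
        exact hcjN l ⟨m, hm⟩ _
      let σ : ↥(Q : Subgroup G) → ↥(Q : Subgroup G) := fun z =>
        ⟨u * z * u⁻¹, (Subgroup.mem_normalizer_iff.1 hu z).1 z.2⟩
      have hσ : Function.Bijective σ := Finite.injective_iff_bijective.1 fun z₁ z₂ e =>
        Subtype.ext (mul_left_cancel (mul_right_cancel (congrArg Subtype.val e)))
      rw [← hl (cj u x)]
      refine Fintype.prod_bijective σ hσ _ _ fun z => ?_
      rw [MonoidHom.comp_apply, hlu, ← hcj, ← hcj]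
      congr 3
      simp [σ, mul_assoc]
    have hroot : ∀ (l : N →* ℂˣ), ∃ k, l ^ p ^ k = 1 := by
      intro l
      obtain ⟨k, hk⟩ := IsPGroup.iff_card.1 hNp
      refine ⟨k, MonoidHom.ext fun x => ?_⟩
      rw [MonoidHom.pow_apply, ← map_pow, ← hk, pow_card_eq_one', map_one]
      rfl
    have hQpow : ∀ (l : N →* ℂˣ) (x : N),
        l x ^ Fintype.card (Q : Subgroup G) = 1 → l x = 1 := by
      intro l x hx
      obtain ⟨b, hb⟩ := IsPGroup.iff_card.1 Q.2
      obtain ⟨k, hk⟩ := hroot l
      rw [← orderOf_eq_one_iff]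
      refine Nat.eq_one_of_dvd_coprimes (((Nat.coprime_primes hp.out hq.out).2 hpq).pow k b)
        (orderOf_dvd_of_pow_eq_one ?_) (orderOf_dvd_of_pow_eq_one ?_)
      · rw [← MonoidHom.pow_apply, hk]; rfl
      · rw [← hb, Nat.card_eq_fintype_card]; exact hx
    have hEbot : ∀ l ∈ E, l = 1 := by
      by_contra hne
      simp only [not_forall] at hne
      obtain ⟨l₀, hl₀, hl₀1⟩ := hne
      haveI : Finite (N →* ℂˣ) := Nat.finite_of_card_ne_zero (by
        rw [Chars.card_monoidHom_units]; exact Subgroup.index_ne_zero_of_finite)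
      haveI : Nontrivial E := ⟨⟨⟨l₀, hl₀⟩, 1, fun e => hl₀1 (congrArg Subtype.val e)⟩⟩
      have hEp : IsPGroup p E := fun l => by
        obtain ⟨k, hk⟩ := hroot l.1
        exact ⟨k, Subtype.ext (by simpa using hk)⟩
      letI : MulAction (P : Subgroup G) E :=
        { smul := fun g l => ⟨l.1.comp (cj (g : G)⁻¹), hEinv _ (inv_mem g.2) _ l.2⟩
          one_smul := fun l => Subtype.ext (MonoidHom.ext fun x => by
            show l.1 (cj ((1 : (P : Subgroup G)) : G)⁻¹ x) = l.1 x
            congr 1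
            exact Subtype.ext (by simp [cj]))
          mul_smul := fun g g' l => Subtype.ext (MonoidHom.ext fun x => by
            show l.1 (cj ((g * g' : (P : Subgroup G)) : G)⁻¹ x) =
              l.1 (cj (g' : G)⁻¹ (cj (g : G)⁻¹ x))
            rw [Subgroup.coe_mul, mul_inv_rev, hcj]) }
      obtain ⟨kE, hkE⟩ := IsPGroup.iff_card.1 hEp
      have hpE : p ∣ Nat.card E := by
        rw [hkE]
        refine dvd_pow_self p fun h0 => ?_
        have h1 : 1 < Nat.card E := Finite.one_lt_card
        rw [hkE, h0, pow_zero] at h1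
        exact lt_irrefl 1 h1
      obtain ⟨⟨l, hl⟩, hlfix, hl1⟩ := P.2.exists_fixed_point_of_prime_dvd_card_of_fixed_point E hpE
        (a := (1 : E)) (fun g => Subtype.ext (MonoidHom.ext fun x => rfl))
      have hl1' : l ≠ 1 := fun e => hl1 (Subtype.ext e.symm)
      have hPfix : ∀ g ∈ (P : Subgroup G), ∀ x, l (cj g x) = l x := fun g hg x => by
        have h1 := DFunLike.congr_fun (congrArg Subtype.val (hlfix ⟨g⁻¹, inv_mem hg⟩)) x
        change l (cj (g⁻¹)⁻¹ x) = l x at h1
        rwa [inv_inv] at h1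
      have hlc : ∀ x : N, (x : G) ∈ Subgroup.normalizer ((Q : Subgroup G) : Set G) → l x = 1 := by
        intro x hx
        refine hQpow l x ((Finset.prod_const (l x)).symm.trans ?_)
        refine (Finset.prod_congr rfl fun z _ => ?_).trans (hl x)
        congr 1
        refine Subtype.ext ?_
        show (x : G) = (z : G) * x * (z : G)⁻¹
        have h1 : (z : G) * x * (z : G)⁻¹ * (x : G)⁻¹ = 1 := by
          refine hQN _ ?_ (mul_mem (hNn.conj_mem _ x.2 _) (inv_mem x.2))
          rw [mul_assoc (z : G), mul_assoc (z : G)]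
          exact mul_mem z.2 ((Subgroup.mem_normalizer_iff.1 hx _).1 (inv_mem z.2))
        exact (mul_inv_eq_one.1 h1).symm
      choose c hcN hcQ using hfr
      let φf : ↥(P : Subgroup G) → ℂˣ := fun g => l ⟨c g g.2, hcN g g.2⟩
      have hφ : ∀ (g : (P : Subgroup G)) (m : N),
          (m : G)⁻¹ * g ∈ Subgroup.normalizer ((Q : Subgroup G) : Set G) → φf g = l m := by
        intro g m hm
        have h1 := hlc (⟨c g g.2, hcN g g.2⟩⁻¹ * m) (by
          rw [Subgroup.coe_mul, Subgroup.coe_inv, show (c g g.2)⁻¹ * (m : G) =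
            (c g g.2)⁻¹ * (g : G) * ((m : G)⁻¹ * g)⁻¹ by group]
          exact mul_mem (hcQ g g.2) (inv_mem hm))
        rw [map_mul, map_inv, inv_mul_eq_one] at h1
        exact h1
      let φ : (P : Subgroup G) →* ℂˣ := MonoidHom.mk' φf fun g g' => by
        have key := hφ (g * g') (cj g ⟨c g' g'.2, hcN g' g'.2⟩ * ⟨c g g.2, hcN g g.2⟩) (by
          simp only [Subgroup.coe_mul, cj, CharsMore.coe_conjBy]
          rw [show ((g : G) * c g' g'.2 * (g : G)⁻¹ * c g g.2)⁻¹ * ((g : G) * g') =
            ((c g g.2)⁻¹ * g) * ((c g' g'.2)⁻¹ * g') by group]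
          exact mul_mem (hcQ g g.2) (hcQ g' g'.2))
        rw [key, map_mul, hPfix g g.2, mul_comm]
      have hφN : ∀ x : N, φ ⟨x, hNP x.2⟩ = l x := fun x => by
        show φf _ = l x
        refine hφ _ x ?_
        rw [inv_mul_cancel]
        exact one_mem _
      let θ : IrrCharacter N := ⟨CharsMore.linFun l, CharsMore.isIrrCharacter_linFun l⟩
      have hθdeg : ¬ p ∣ charDegree (θ : N → ℂ) := by
        have e : ((charDegree (θ : N → ℂ) : ℕ) : ℂ) = ((1 : ℕ) : ℂ) := by
          rw [← CharApps.deg_eq]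
          simp [θ, CharsMore.linFun]
        rw [Nat.cast_injective e]
        exact hp.out.not_dvd_one
      have hI := not_dvd_inertia_index h N θ hθdeg (P : Subgroup G) hNP P.not_dvd_index
        ⟨CharsMore.linFun φ, CharsMore.isIrrCharacter_linFun φ⟩
        (fun x => congrArg Units.val (hφN x))
      set I := CharsMore.inertia N (θ : N → ℂ) with hIdef
      have hPI : (P : Subgroup G) ≤ I := fun g hg =>
        (CharsMore.mem_inertia N).2 fun x => congrArg Units.val (hPfix g hg x)
      set J := I.map π ⊓ K'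
      have hP'I : ((P' : Sylow p (G ⧸ N)) : Subgroup (G ⧸ N)) ≤ I.map π := Subgroup.map_mono hPI
      have hcopK : (Nat.card (P' : Subgroup (G ⧸ N))).Coprime (Nat.card K') := by
        obtain ⟨a', ha'⟩ := IsPGroup.iff_card.1 P'.2
        rw [ha']
        exact (hp.out.coprime_iff_not_dvd.2 (Base.not_dvd_card_pPrimeCore p _)).pow_left a'
      have hJq : ¬ q ∣ J.index := by
        intro hd
        rcases hq.out.dvd_mul.1 (hd.trans (by
          rw [← Subgroup.relIndex_mul_index (inf_le_left : J ≤ I.map π), Subgroup.inf_relIndex_left]))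
          with h1 | h1
        · exact hqK (h1.trans (Subgroup.relIndex_dvd_index_of_normal K' _))
        · exact hI (h1.trans (Subgroup.index_map_dvd I hπ))
      haveI := P'.2.isNilpotent
      have hP'K : ((P' : Sylow p (G ⧸ N)) : Subgroup (G ⧸ N)) ≤
          Subgroup.normalizer (K' : Set (G ⧸ N)) := Subgroup.normalizer_eq_top (H := K') ▸ le_top
      obtain ⟨S, hSJ, hSP⟩ := exists_sylow_inv (q := q) (A := (P' : Subgroup (G ⧸ N))) (K := J)
        (Coprime.le_normalizer_inf_inf (hP'I.trans Subgroup.le_normalizer) hP'K)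
        (hcopK.coprime_dvd_right (Subgroup.card_dvd_of_le inf_le_right)) inferInstance hJq
      have hS := sylow_unique hP'K hcopK inferInstance Q' S (le_of_isPGroup K' hqK Q'.2)
        (hSJ.trans inf_le_right) hQ'P hSP hQ'C
      have hQI : (Q : Subgroup G) ≤ I := fun z hz => by
        obtain ⟨i, hi, hiz⟩ : π z ∈ I.map π :=
          (hSJ.trans inf_le_left) (hS ▸ hQmap ▸ ⟨z, hz, rfl⟩)
        have h1 : i⁻¹ * z ∈ N := QuotientGroup.eq.1 hiz
        have h2 := mul_mem hi (CharsMore.le_inertia N (isClassFunction_irr θ) h1)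
        rwa [mul_inv_cancel_left] at h2
      refine hl1' (MonoidHom.ext fun x => hQpow l x ?_)
      refine (Finset.prod_const (l x)).symm.trans ((Finset.prod_congr rfl fun z _ => ?_).trans (hl x))
      exact (Units.ext ((CharsMore.mem_inertia N).1 (hQI z.2) x)).symm
    -- `Q` centralises `N`
    have hcent : ∀ z ∈ (Q : Subgroup G), ∀ x : N, cj z x = x := by
      intro z hz x
      by_contra hne
      have hne' : cj z x * x⁻¹ ≠ 1 := fun e => hne (mul_inv_eq_one.1 e)
      letI : CommGroup N := { (inferInstance : Group N) with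
        mul_comm := fun a b => Subtype.ext (hNab a a.2 b b.2) }
      haveI : NeZero (Monoid.exponent N : ℂ) :=
        ⟨Nat.cast_ne_zero.mpr Monoid.exponent_ne_zero_of_finite⟩
      obtain ⟨l, hl⟩ := CommGroup.exists_apply_ne_one_of_hasEnoughRootsOfUnity N ℂ hne'
      refine hl ?_
      have hm := hEbot (l.comp (cj z) * l⁻¹) fun y => by
        simp only [MonoidHom.mul_apply, MonoidHom.inv_apply, MonoidHom.comp_apply,
          Finset.prod_mul_distrib]
        rw [Finset.prod_inv_distrib, mul_inv_eq_one]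
        exact Fintype.prod_equiv (Equiv.mulLeft (⟨z, hz⟩ : (Q : Subgroup G))) _ _ fun w => by
          rw [← hcj]; rfl
      have h1 := DFunLike.congr_fun hm x
      simp only [MonoidHom.mul_apply, MonoidHom.inv_apply, MonoidHom.comp_apply,
        MonoidHom.one_apply, mul_inv_eq_one] at h1
      rw [map_mul, map_inv, h1, mul_inv_cancel]
    set U := K'.comap π with hU
    haveI : U.Normal := inferInstance
    set D := U ⊓ Subgroup.centralizer (N : Set G)
    haveI : D.Normal := Subgroup.normal_inf_normal _ _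
    have hQD : (Q : Subgroup G) ≤ D := fun z hz => ⟨by
      show π z ∈ K'
      exact le_of_isPGroup K' hqK Q'.2 (hQmap ▸ ⟨z, hz, rfl⟩), Subgroup.mem_centralizer_iff.2 (by
      intro x hx
      have h1 : z * x * z⁻¹ = x := congrArg Subtype.val (hcent z hz ⟨x, hx⟩)
      calc x * z = z * x * z⁻¹ * z := by rw [h1]
        _ = z * x := by group)⟩
    obtain ⟨T⟩ : Nonempty (Sylow p D) := inferInstance
    have hTN : (T : Subgroup D).map D.subtype ≤ N := by
      intro x hx
      have hxU : π x ∈ K' := (Subgroup.map_subtype_le _ hx).1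
      obtain ⟨j, hj⟩ := T.2.map D.subtype ⟨x, hx⟩
      have hj' : x ^ p ^ j = 1 := congrArg Subtype.val hj
      rw [← QuotientGroup.eq_one_iff, ← orderOf_eq_one_iff]
      exact Nat.eq_one_of_dvd_coprimes
        ((hp.out.coprime_iff_not_dvd.2 (Base.not_dvd_card_pPrimeCore p (G ⧸ N))).pow_left j)
        (orderOf_dvd_of_pow_eq_one (by
          show (π x) ^ p ^ j = 1
          rw [← map_pow, hj', map_one]))
        (Subgroup.orderOf_dvd_natCard _ hxU)
    have hTc : Subgroup.normalizer ((T : Subgroup D) : Set D) ≤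
        Subgroup.centralizer ((T : Subgroup D) : Set D) := by
      intro d _
      rw [Subgroup.mem_centralizer_iff]
      intro t ht
      exact Subtype.ext (Subgroup.mem_centralizer_iff.1 d.2.2 t (hTN ⟨t, ht, rfl⟩))
    set W := (MonoidHom.transferSylow T hTc).ker
    have hW : W.IsComplement' (T : Subgroup D) := MonoidHom.ker_transferSylow_isComplement' T hTc
    haveI : W.Normal := MonoidHom.normal_ker _
    have hWp : ¬ p ∣ Nat.card W := MonoidHom.not_dvd_card_ker_transferSylow T hTc
    haveI : ((pPrimeCore p D).map D.subtype).Normal := Base.normal_map_subtype _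
    have hbot : (pPrimeCore p D).map D.subtype = ⊥ := le_bot_iff.1 (hO ▸
      Base.le_pPrimeCore (Base.coprime_card_map_pPrimeCore D))
    have hQ1 : (Q : Subgroup G) ≤ ⊥ := fun z hz => by
      rw [← hbot]
      refine ⟨⟨z, hQD hz⟩, Base.le_pPrimeCore_of_not_dvd (N := W) hWp ?_, rfl⟩
      obtain ⟨c, hc⟩ := IsPGroup.iff_card.1 T.2
      refine Transfer.mem_of_coprime_orderOf_of_index
        ⟨c, by rw [← hc]; exact hW.symm.index_eq_card⟩ ?_
      obtain ⟨j, hj⟩ := Q.2 ⟨z, hz⟩
      refine Nat.Coprime.coprime_dvd_left ?_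
        (((Nat.coprime_primes hq.out hp.out).2 hpq.symm).pow_left j)
      rw [← Subgroup.orderOf_coe]
      exact orderOf_dvd_of_pow_eq_one (congrArg Subtype.val hj)
    have hQd := Q.dvd_card_of_dvd_card hdvd
    rw [Subgroup.eq_bot_iff_forall _ |>.2 fun z hz => Subgroup.mem_bot.1 (hQ1 hz),
      Subgroup.card_bot] at hQd
    exact hq.out.not_dvd_one hQd

/-- One half of the criterion. -/
theorem degree_of_commute [Fintype G] {M : Ideal AlgInt} [M.IsPrime] (hpM : (p : AlgInt) ∈ M)
    (hpq : p ≠ q) (hps : IsPSolvable p G) (P : Sylow p G) (Q : Sylow q G)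
    (hcomm : ∀ x ∈ (P : Subgroup G), ∀ y ∈ (Q : Subgroup G), x * y = y * x) :
    ∀ χ : IrrCharacter G, χ ∈ principalBlock M G → ¬ p ∣ charDegree (χ : G → ℂ) →
      ¬ q ∣ charDegree (χ : G → ℂ) := by
  classical
  intro χ hχ _
  set K := pPrimeCore p G
  set π := QuotientGroup.mk' K
  have hπ : Function.Surjective π := QuotientGroup.mk'_surjective K
  set P' := P.mapSurjective hπ
  have hQK : (Q : Subgroup G) ≤ K := by
    intro y hy
    have hc : π y ∈ Subgroup.centralizer ((pCore p (G ⧸ K) : Subgroup (G ⧸ K)) : Set (G ⧸ K)) := by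
      rw [Subgroup.mem_centralizer_iff]
      intro z hz
      obtain ⟨x, hx, rfl⟩ := Base.pCore_le_sylow P' hz
      rw [← map_mul, ← map_mul, hcomm x hx y hy]
    have h1 := PLocal.centralizer_pCore_le (PLocal.isPSolvable_quotient hps K)
      (Base.pPrimeCore_quotient_pPrimeCore p G) hc
    have h2 : π y = 1 := Subgroup.mem_bot.1 ((IsPGroup.disjoint_of_ne p q hpq _ _
      (Base.isPGroup_pCore p (G ⧸ K)) (Q.2.map π)).le_bot ⟨h1, ⟨y, hy, rfl⟩⟩)
    exact (QuotientGroup.eq_one_iff y).1 h2
  obtain ⟨ψ, hψ, e⟩ := exists_deflate_irr K χ.2 fun x hx =>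
    principalBlock_apply_normal hpM (Base.not_dvd_card_pPrimeCore p G) hχ hx
  haveI := Fintype.ofFinite (G ⧸ K)
  obtain ⟨d, -, hd, hdvd⟩ := irr_degree_dvd_card hψ
  have h1 : charDegree (χ : G → ℂ) = d := by
    have : ((charDegree (χ : G → ℂ) : ℕ) : ℂ) = (d : ℂ) := by
      rw [← CharApps.deg_eq, ← hd, e]
      rfl
    exact_mod_cast this
  rw [h1]
  intro hqd
  refine Q.not_dvd_index ((hqd.trans hdvd).trans ?_)
  rw [← Subgroup.index_eq_card]
  exact Subgroup.index_dvd_of_le hQK

/-- The criterion. -/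
theorem main [Fintype G] {Mp Mq : Ideal AlgInt} [Mp.IsPrime] [Mq.IsPrime]
    (hpM : (p : AlgInt) ∈ Mp) (hqM : (q : AlgInt) ∈ Mq) (hpq : p ≠ q) (hps : IsPSolvable p G)
    (hqs : IsPSolvable q G) :
    ((∀ χ : IrrCharacter G, χ ∈ principalBlock Mp G → ¬ p ∣ charDegree (χ : G → ℂ) →
        ¬ q ∣ charDegree (χ : G → ℂ)) ∧
      (∀ χ : IrrCharacter G, χ ∈ principalBlock Mq G → ¬ q ∣ charDegree (χ : G → ℂ) →
        ¬ p ∣ charDegree (χ : G → ℂ))) ↔
      ∃ (P : Sylow p G) (Q : Sylow q G),
        ∀ x ∈ (P : Subgroup G), ∀ y ∈ (Q : Subgroup G), x * y = y * x := by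
  classical
  refine ⟨?_, fun ⟨P, Q, hc⟩ => ⟨degree_of_commute hpM hpq hps P Q hc,
    degree_of_commute hqM hpq.symm hqs Q P fun y hy x hx => (hc x hx y hy).symm⟩⟩
  rintro ⟨h₁, h₂⟩
  have key : ∀ (r s : ℕ) [Fact r.Prime] [Fact s.Prime] (M : Ideal AlgInt) [M.IsPrime],
      (r : AlgInt) ∈ M → r ≠ s → IsPSolvable r G → IsPSolvable s G →
      (∀ χ : IrrCharacter G, χ ∈ principalBlock M G → ¬ r ∣ charDegree (χ : G → ℂ) →
        ¬ s ∣ charDegree (χ : G → ℂ)) → ¬ s ∣ (pPrimeCore r G).index := by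
    intro r s _ _ M _ hrM hrs hr hs h
    rw [Subgroup.index_eq_card]
    refine core hrs _ le_rfl (PLocal.isPSolvable_quotient hr _) (PLocal.isPSolvable_quotient hs _)
      (Base.pPrimeCore_quotient_pPrimeCore r G) fun ψ hψ => ?_
    refine h ⟨fun g => (ψ : G ⧸ pPrimeCore r G → ℂ) g, isIrrCharacter_inflate _ ψ.2⟩ ?_ hψ
    refine SameZero.mem_principalBlock_of_ker hrM hr fun m hm => CharApps.mem_charKer.2 ?_
    show (ψ : G ⧸ pPrimeCore r G → ℂ) (m : G ⧸ pPrimeCore r G) =
      (ψ : G ⧸ pPrimeCore r G → ℂ) ((1 : G) : G ⧸ pPrimeCore r G)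
    rw [(QuotientGroup.eq_one_iff m).2 hm, QuotientGroup.mk_one]
  have hK := key p q Mp hpM hpq hps hqs h₁
  have hL := key q p Mq hqM hpq.symm hqs hps h₂
  obtain ⟨P⟩ : Nonempty (Sylow p G) := inferInstance
  haveI := P.2.isNilpotent
  obtain ⟨a, ha⟩ := IsPGroup.iff_card.1 P.2
  obtain ⟨Q, hQK, hPQ⟩ := exists_sylow_inv (q := q) (A := (P : Subgroup G)) (K := pPrimeCore p G)
    (Subgroup.normalizer_eq_top (H := pPrimeCore p G) ▸ le_top)
    (ha ▸ (hp.out.coprime_iff_not_dvd.2 (Base.not_dvd_card_pPrimeCore p G)).pow_left a)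
    inferInstance hK
  refine ⟨P, Q, fun x hx y hy => ?_⟩
  have hxL : x ∈ pPrimeCore q G := le_of_isPGroup _ hL P.2 hx
  have h1 : x * y * x⁻¹ * y⁻¹ ∈ (Q : Subgroup G) :=
    mul_mem ((Subgroup.mem_normalizer_iff.1 (hPQ hx) y).1 hy) (inv_mem hy)
  have h2 : x * y * x⁻¹ * y⁻¹ ∈ pPrimeCore q G := by
    rw [mul_assoc x, mul_assoc x]
    exact mul_mem hxL ((inferInstance : (pPrimeCore q G).Normal).conj_mem _ (inv_mem hxL) y)
  obtain ⟨b, hb⟩ := IsPGroup.iff_card.1 Q.2
  have h3 : x * y * x⁻¹ * y⁻¹ ∈ ((Q : Subgroup G) ⊓ pPrimeCore q G : Subgroup G) := ⟨h1, h2⟩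
  rw [Coprime.inf_eq_bot_of_coprime (hb ▸ (hq.out.coprime_iff_not_dvd.2
    (Base.not_dvd_card_pPrimeCore q G)).pow_left b), Subgroup.mem_bot] at h3
  calc x * y = x * y * x⁻¹ * y⁻¹ * (y * x) := by group
    _ = y * x := by rw [h3, one_mul]

end CfsgLib.BlockApps.CommSyl
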