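import Cfsg.Agent.Lib.Blocks.PIndex
import Cfsg.Agent.Lib.Blocks.PrincipalExtension
import Cfsg.Agent.Lib.BlockOrth.Residual
import Cfsg.Agent.Lib.CharApps.Galois
import Cfsg.Agent.Lib.CharsMore.Gallagher
import Cfsg.Agent.Lib.CharsMore.Intertwiners

/-!
# Galois-fixed characters of `p'`-degree over a `p`-residual with cyclic quotient
-/

set_option autoImplicit false
set_option linter.unusedSectionVars false
set_option linter.style.haveILetI false

namespace CfsgLib.BlockApps.GalCount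

open Cfsg CfsgLib.Chars CfsgLib.Blocks
open scoped ComplexConjugate

universe u

variable {G : Type u} [Group G] [Fintype G]

/-- The determinant of the Galois conjugate of a representation. -/
theorem exists_galois_rep {d : ℕ} (R : Representation ℂ G (Fin d → ℂ)) (σ : ℂ ≃+* ℂ) :
    ∃ R' : Representation ℂ G (Fin d → ℂ), R'.character = (fun g => σ (R.character g)) ∧
      ∀ g, LinearMap.det (R' g) = σ (LinearMap.det (R g)) := by
  refine ⟨{ toFun := fun g => Matrix.toLin' ((LinearMap.toMatrix' (R g)).map σ)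
            map_one' := by simp [Module.End.one_eq_id]
            map_mul' := fun a b => by
              rw [map_mul, Module.End.mul_eq_comp, LinearMap.toMatrix'_comp,
                Matrix.map_mul, Matrix.toLin'_mul, Module.End.mul_eq_comp] }, ?_, fun g => ?_⟩
  · funext g
    show LinearMap.trace ℂ (Fin d → ℂ) (Matrix.toLin' ((LinearMap.toMatrix' (R g)).map σ)) = _
    rw [Matrix.trace_toLin'_eq, Representation.character,
      LinearMap.trace_eq_matrix_trace ℂ (Pi.basisFun ℂ (Fin d)),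
      LinearMap.toMatrix_eq_toMatrix', Matrix.trace, Matrix.trace, map_sum]
    rfl
  · show LinearMap.det (Matrix.toLin' ((LinearMap.toMatrix' (R g)).map σ)) = _
    rw [LinearMap.det_toLin', ← LinearMap.det_toMatrix' (R g)]
    exact (RingHom.map_det σ.toRingHom _).symm

/-- The determinant of a representation whose character is conjugated by a linear twist. -/
theorem det_twist {d : ℕ} (R : Representation ℂ G (Fin d → ℂ)) [R.IsIrreducible] (σ : ℂ ≃+* ℂ)
    (l : G →* ℂˣ) (h : ∀ g, σ (R.character g) = (l g : ℂ) * R.character g) (g : G) :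
    σ (LinearMap.det (R g)) = (l g : ℂ) ^ d * LinearMap.det (R g) := by
  obtain ⟨R', hR'c, hR'd⟩ := exists_galois_rep R σ
  let T : Representation ℂ G (Fin d → ℂ) :=
    { toFun := fun g => (l g : ℂ) • R g
      map_one' := by simp
      map_mul' := fun a b => by rw [smul_mul_smul_comm, map_mul, map_mul, Units.val_mul] }
  have hTc : T.character = R'.character := by
    funext x
    rw [hR'c]
    show LinearMap.trace ℂ _ ((l x : ℂ) • R x) = σ (R.character x)
    rw [map_smul, smul_eq_mul, h x]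
    rfl
  obtain ⟨e⟩ := Chars.equiv_of_character_eq T R' hTc
  have hd := congrArg (fun f : G →* ℂˣ => (f g : ℂ)) (CharsMore.detHom_eq_of_equiv e)
  simp only [CharsMore.coe_detHom] at hd
  rw [← hR'd, hd]
  show LinearMap.det ((l g : ℂ) • R g) = _
  rw [LinearMap.det_smul, Module.finrank_fin_fun]

variable {p : ℕ} [hp : Fact p.Prime] {M : Ideal AlgInt} [M.IsPrime]
variable (N : Subgroup G) [hN : N.Normal] [Fintype N]

/-- A constituent of the restriction of a character of degree prime to `p` is its restriction. -/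
theorem restrict_eq {m : ℕ} (hm : N.index = p ^ m) {χ : IrrCharacter G}
    (hdeg : ¬ p ∣ charDegree (χ : G → ℂ)) {θ : IrrCharacter N}
    (hθ : classInner (fun n : N => (χ : G → ℂ) n) (θ : N → ℂ) ≠ 0) :
    (θ : N → ℂ) = fun n : N => (χ : G → ℂ) n := by
  obtain ⟨k, hk0, hk1, hkd⟩ := CharsMore.degree_quotient N χ.2 θ.2 hθ
  have hk : k = 1 := by
    rw [hm] at hkd
    obtain ⟨j, -, rfl⟩ := (Nat.dvd_prime_pow hp.out).1 hkd
    rcases j with - | j
    · rfl
    · refine absurd ?_ hdeg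
      rw [CharApps.deg_eq, CharApps.deg_eq, ← Nat.cast_mul] at hk1
      rw [Nat.cast_inj.1 hk1, pow_succ]
      exact Dvd.dvd.mul_right (Dvd.intro_left _ rfl) _
  subst hk
  rw [Nat.cast_one, one_mul] at hk1
  obtain ⟨e, he⟩ : ∃ e : ℕ, classInner (fun n : N => (χ : G → ℂ) n) (θ : N → ℂ) = (e : ℂ) :=
    ⟨_, CharsMore.inner_eq_multNat
      (Chars.isCharacter_restrict N (Chars.isCharacter_of_irr χ.2)) (Chars.isCharacter_of_irr θ.2)⟩
  have hd := CharsMore.clifford_degree N χ.2 θ.2 hθ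
  rw [hk1, he, ← Nat.cast_mul] at hd
  have hθ0 := Chars.irr_degree_ne_zero θ.2
  have hd1 : ((e * (CharsMore.inertia N (θ : N → ℂ)).index : ℕ) : ℂ) = 1 :=
    mul_right_cancel₀ hθ0 (by rw [one_mul, ← hd])
  rw [Nat.cast_eq_one, mul_eq_one] at hd1
  have htop := Subgroup.index_eq_one.1 hd1.2
  funext n
  rw [CharsMore.restrict_eq_mul_of_invariant N χ.2 θ.2 (fun g => (CharsMore.mem_inertia N).1
    (by rw [htop]; exact Subgroup.mem_top g)) hθ n, he, hd1.1, Nat.cast_one, one_mul]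

/-- An extension of a member of the principal block of a normal subgroup of `p`-power index. -/
theorem ext_mem (hpM : (p : AlgInt) ∈ M) {m : ℕ} (hm : N.index = p ^ m) {χ : IrrCharacter G}
    {θ : IrrCharacter N} (hθ : θ ∈ principalBlock M N)
    (h : (θ : N → ℂ) = fun n : N => (χ : G → ℂ) n) : χ ∈ principalBlock M G := by
  have h1 : classInner (fun n : N => (χ : G → ℂ) n) (θ : N → ℂ) ≠ 0 := by
    rw [← h, Chars.inner_irr_self]; exact one_ne_zero
  rw [Blocks.covering_unique N hpM hm (isPBlock_principalBlock M) (isPBlock_principalBlock M)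
    (isPBlock_blockOf χ)
    ⟨_, principal_mem_principalBlock M, _, principal_mem_principalBlock M,
      PrincExt.inner_restrict_principal N⟩
    ⟨χ, mem_blockOf_self χ, θ, hθ, h1⟩]
  exact mem_blockOf_self χ

/-- An invariant character extends over a cyclic quotient, with a representation. -/
theorem exists_ext [IsCyclic (G ⧸ N)] {θ : N → ℂ} (hθ : IsIrrCharacter N θ)
    (hinv : ∀ g n, θ (CharsMore.conjBy N g n) = θ n) :
    ∃ (d : ℕ) (R : Representation ℂ G (Fin d → ℂ)), R.IsIrreducible ∧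
      IsIrrCharacter G R.character ∧ θ = fun n : N => R.character n := by
  obtain ⟨d, ρ, hρ, hρc, hI, -⟩ := CharsMore.exists_invariant_rep N hθ hinv
  obtain ⟨R, hR⟩ := CharsMore.repExtends_of_cyclic N ρ hI
  obtain ⟨h1, h2, h3⟩ := CharsMore.isIrrExt_of_rep N R hR
  exact ⟨d, R, h1, h2, by funext n; rw [h3 n, hρc]⟩

/-- An irreducible over an extension differs from it by a linear character. -/
theorem exists_linear [IsCyclic (G ⧸ N)] {χ ψ : IrrCharacter G} {θ : IrrCharacter N}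
    (hχ : (θ : N → ℂ) = fun n : N => (χ : G → ℂ) n)
    (hψ : (θ : N → ℂ) = fun n : N => (ψ : G → ℂ) n) :
    ∃ l : G →* ℂˣ, (∀ n ∈ N, l n = 1) ∧
      ∀ g, (ψ : G → ℂ) g = (l g : ℂ) * (χ : G → ℂ) g := by
  haveI := irrFintype G
  obtain ⟨β, hβ, hβe⟩ := CharsMore.gallagher_exists N χ.2 (hχ ▸ θ.2) ψ.2
    (by rw [← hψ, ← hχ, Chars.inner_irr_self]; exact one_ne_zero)
  have hker := (CharsMore.mem_quotIrr N).1 hβ
  obtain ⟨f, hf, hfe⟩ := exists_deflate_irr N β.2 fun n hn => CharApps.mem_charKer.1 (hker hn)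
  have hcomm : ∀ a b : G ⧸ N, a * b = b * a := fun a b => by
    haveI : IsMulCommutative (G ⧸ N) := IsCyclic.commutative
    exact mul_comm' a b
  have h1 : (β : G → ℂ) 1 = 1 := by rw [hfe]; exact irr_abelian_degree hcomm hf
  obtain ⟨l, hl⟩ := Chars.exists_hom_of_degree_one (isCharacter_of_irr β.2) h1
  refine ⟨l, fun n hn => Units.ext ?_, fun g => ?_⟩
  · have := CharApps.mem_charKer.1 (hker hn)
    rwa [h1, hl] at this
  · rw [hβe, Pi.mul_apply, hl]

/-- An extension does not vanish identically on a coset. -/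
theorem exists_ne_zero {χ : IrrCharacter G} {θ : IrrCharacter N}
    (hχ : (θ : N → ℂ) = fun n : N => (χ : G → ℂ) n) (g : G) :
    ∃ n : N, (χ : G → ℂ) ((n : G) * g) ≠ 0 := by
  by_contra h
  push Not at h
  have := CharsMore.coset_norm_avg N χ.2 (hχ ▸ θ.2) g
  simp [h] at this

/-- The hypotheses on the exponent `k` make it prime to the group order. -/
theorem coprime_exp {k : ℕ} (hk₁ : ∀ g : G, (∃ j : ℕ, orderOf g = p ^ j) → g ^ k = g ^ (1 + p))
    (hk₂ : ∀ g : G, Nat.Coprime (orderOf g) p → g ^ k = g) : k.Coprime (Nat.card G) := by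
  refine Nat.coprime_of_dvd fun q hq hqk hqG => ?_
  haveI : Fact q.Prime := ⟨hq⟩
  obtain ⟨g, hg⟩ := exists_prime_orderOf_dvd_card' q hqG
  have hgk : g ^ k = 1 := orderOf_dvd_iff_pow_eq_one.1 (hg ▸ hqk)
  rcases eq_or_ne q p with rfl | hne
  · rw [hk₁ g ⟨1, by rw [pow_one, hg]⟩, ← orderOf_dvd_iff_pow_eq_one, hg] at hgk
    have : q ∣ 1 := (Nat.dvd_add_left (dvd_refl q)).1 hgk
    exact hq.one_lt.ne' (Nat.dvd_one.1 this)
  · rw [hk₂ g (by rw [hg]; exact (Nat.coprime_primes hq hp.out).2 hne)] at hgk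
    rw [hgk, orderOf_one] at hg
    exact hq.one_lt.ne hg

/-- The number of `p`-th roots of a `p`-th power. -/
theorem card_roots {c : ℂ} (hc : c ≠ 0) : Nat.card {ζ : ℂ // ζ ^ p = c} = p := by
  classical
  haveI : NeZero p := ⟨hp.out.ne_zero⟩
  obtain ⟨a, ha⟩ := IsAlgClosed.exists_pow_nat_eq c hp.out.pos
  have hprim := Complex.isPrimitiveRoot_exp p hp.out.ne_zero
  have e : {ζ : ℂ // ζ ^ p = c} ≃ ↥(Polynomial.nthRootsFinset p c) :=
    Equiv.subtypeEquivRight fun ζ => (Polynomial.mem_nthRootsFinset hp.out.pos c).symm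
  rw [Nat.card_congr e, Nat.card_eq_finsetCard, Polynomial.nthRootsFinset_def,
    Multiset.toFinset_card_of_nodup (hprim.nthRoots_nodup hc), hprim.card_nthRoots,
    if_pos ⟨a, ha⟩]

/-- There is a `p`-element generating modulo `N`. -/
theorem exists_generator [IsCyclic (G ⧸ N)] {m : ℕ} (hm : N.index = p ^ m) (P : Sylow p G) :
    ∃ x ∈ (P : Subgroup G), ∀ g : G, (g : G ⧸ N) ∈ Subgroup.zpowers (x : G ⧸ N) := by
  have htop : N ⊔ (P : Subgroup G) = ⊤ := by
    rw [← Subgroup.index_eq_one]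
    refine Nat.eq_one_of_dvd_coprimes ?_ (Subgroup.index_dvd_of_le (le_sup_left (b := (P : Subgroup G))))
      (Subgroup.index_dvd_of_le (le_sup_right (a := N)))
    rw [hm]
    exact Nat.Coprime.pow_left m ((Nat.Prime.coprime_iff_not_dvd hp.out).2 P.not_dvd_index)
  obtain ⟨y, hy⟩ := IsCyclic.exists_generator (α := G ⧸ N)
  obtain ⟨y, rfl⟩ := QuotientGroup.mk_surjective y
  obtain ⟨n, hn, x, hx, hnx⟩ := Subgroup.mem_sup_of_normal_left.1
    (show y ∈ N ⊔ (P : Subgroup G) by rw [htop]; exact Subgroup.mem_top y)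
  refine ⟨x, hx, fun g => ?_⟩
  have : (y : G ⧸ N) = (x : G ⧸ N) := by
    rw [← hnx, QuotientGroup.mk_mul, (QuotientGroup.eq_one_iff n).2 hn, one_mul]
  rw [← this]
  exact hy _

/-- The linear characters trivial on `N` are given by their value at a generator. -/
theorem exists_hom (x : G) (hgen : ∀ g : G, (g : G ⧸ N) ∈ Subgroup.zpowers (x : G ⧸ N))
    {ζ : ℂ} (hζ : ζ ^ N.index = 1) :
    ∃ μ : G →* ℂˣ, (∀ n ∈ N, μ n = 1) ∧ (μ x : ℂ) = ζ := by
  have hall : ∀ q : G ⧸ N, q ∈ Subgroup.zpowers (x : G ⧸ N) := fun q => by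
    obtain ⟨g, rfl⟩ := QuotientGroup.mk_surjective q
    exact hgen g
  have h0 : ζ ≠ 0 := by
    intro h; rw [h, zero_pow Subgroup.index_ne_zero_of_finite] at hζ; exact zero_ne_one hζ
  have hord : orderOf (Units.mk0 ζ h0) ∣ orderOf (x : G ⧸ N) := by
    rw [orderOf_eq_card_of_forall_mem_zpowers hall, ← Subgroup.index_eq_card]
    exact orderOf_dvd_of_pow_eq_one (Units.ext (by simpa using hζ))
  refine ⟨(monoidHomOfForallMemZpowers hall hord).comp (QuotientGroup.mk' N),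
    fun n hn => ?_, ?_⟩
  · rw [MonoidHom.comp_apply, QuotientGroup.mk'_apply, (QuotientGroup.eq_one_iff n).2 hn, map_one]
  · rw [MonoidHom.comp_apply, QuotientGroup.mk'_apply, monoidHomOfForallMemZpowers_apply_gen,
      Units.val_mk0]

/-- Linear characters trivial on `N` with equal values at a generator are equal. -/
theorem hom_ext (x : G) (hgen : ∀ g : G, (g : G ⧸ N) ∈ Subgroup.zpowers (x : G ⧸ N))
    {μ ν : G →* ℂˣ} (hμ : ∀ n ∈ N, μ n = 1) (hν : ∀ n ∈ N, ν n = 1) (h : μ x = ν x) : μ = ν := by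
  refine MonoidHom.ext fun g => ?_
  obtain ⟨i, hi⟩ := hgen g
  have hn : (x ^ i)⁻¹ * g ∈ N := QuotientGroup.eq.1 (by rw [QuotientGroup.mk_zpow]; exact hi)
  conv_lhs => rw [← mul_inv_cancel_left (x ^ i) g, map_mul, hμ _ hn, mul_one, map_zpow, h]
  conv_rhs => rw [← mul_inv_cancel_left (x ^ i) g, map_mul, hν _ hn, mul_one, map_zpow]

variable (M)

/-- The two sets of the count. -/
def Good (k : ℕ) (χ : IrrCharacter G) : Prop :=
  χ ∈ principalBlock M G ∧ ¬ p ∣ charDegree (χ : G → ℂ) ∧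
    ∀ g : G, (χ : G → ℂ) (g ^ k) = (χ : G → ℂ) g

/-- The fixed members below. -/
def GoodBelow (P : Sylow p G) (k : ℕ) (θ : IrrCharacter N) : Prop :=
  θ ∈ principalBlock M N ∧ ¬ p ∣ charDegree (θ : N → ℂ) ∧
    (∀ x ∈ (P : Subgroup G), ∀ n : N,
      (θ : N → ℂ) ⟨x * n * x⁻¹, hN.conj_mem n n.2 x⟩ = (θ : N → ℂ) n) ∧
    ∀ n : N, (θ : N → ℂ) (n ^ k) = (θ : N → ℂ) n

variable {M}

/-- Each invariant fixed character has exactly `p` fixed extensions. -/
theorem card_fibre (hpM : (p : AlgInt) ∈ M) (hNres : N = pResidual p G) [IsCyclic (G ⧸ N)]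
    (hnt : N ≠ ⊤) (P : Sylow p G) {k : ℕ}
    (hk₁ : ∀ g : G, (∃ j : ℕ, orderOf g = p ^ j) → g ^ k = g ^ (1 + p))
    (hk₂ : ∀ g : G, Nat.Coprime (orderOf g) p → g ^ k = g)
    {θ : IrrCharacter N} (hθ : GoodBelow M N P k θ) :
    Nat.card {χ : IrrCharacter G // Good M (p := p) k χ ∧
      (θ : N → ℂ) = fun n : N => (χ : G → ℂ) n} = p := by
  classical
  obtain ⟨hθB, hθd, hθP, hθk⟩ := hθ
  obtain ⟨m, hm⟩ := Transfer.exists_index_pResidual (G := G) (p := p)
  rw [← hNres] at hm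
  have hm0 : m ≠ 0 := fun h => hnt (Subgroup.index_eq_one.1 (by rw [hm, h, pow_zero]))
  obtain ⟨m', rfl⟩ := Nat.exists_eq_succ_of_ne_zero hm0
  obtain ⟨x, hxP, hgen⟩ := exists_generator N hm P
  obtain ⟨a, hxa⟩ : ∃ a, orderOf x = p ^ a := by
    obtain ⟨a, ha⟩ := P.2 ⟨x, hxP⟩
    obtain ⟨j, -, hj⟩ := (Nat.dvd_prime_pow hp.out).1
      (orderOf_dvd_of_pow_eq_one (x := x) (n := p ^ a) (congrArg Subtype.val ha))
    exact ⟨j, hj⟩
  have hxk : x ^ k = x ^ (1 + p) := hk₁ x ⟨a, hxa⟩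
  have hinv : ∀ g n, (θ : N → ℂ) (CharsMore.conjBy N g n) = (θ : N → ℂ) n := by
    have hle : (⊤ : Subgroup G) ≤ CharsMore.inertia N (θ : N → ℂ) := by
      intro g _
      obtain ⟨i, hi⟩ := hgen g
      have hn : (x ^ i)⁻¹ * g ∈ N := QuotientGroup.eq.1 (by rw [QuotientGroup.mk_zpow]; exact hi)
      rw [← mul_inv_cancel_left (x ^ i) g]
      refine mul_mem (zpow_mem ((CharsMore.mem_inertia N).2 fun n => hθP x hxP n) _) ?_
      exact CharsMore.le_inertia N (isClassFunction_irr θ) hn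
    exact fun g => (CharsMore.mem_inertia N).1 (hle (Subgroup.mem_top g))
  obtain ⟨d, R, hR, hRc, hres⟩ := exists_ext N θ.2 hinv
  let χ₀ : IrrCharacter G := ⟨R.character, hRc⟩
  have hd : (d : ℂ) = (θ : N → ℂ) 1 := by
    rw [hres]; simp [Representation.char_one, Module.finrank_fin_fun]
  have hdp : ¬ p ∣ d := by
    rw [CharApps.deg_eq] at hd
    rwa [Nat.cast_inj.1 hd]
  -- the Galois automorphism
  haveI : NeZero (Nat.card G) := ⟨Nat.card_pos.ne'⟩
  obtain ⟨σ, hσ⟩ := CharApps.exists_galois_pow (Nat.card G) (coprime_exp hk₁ hk₂)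
  have hσχ : ∀ (χ : IrrCharacter G) (g : G), σ ((χ : G → ℂ) g) = (χ : G → ℂ) (g ^ k) :=
    fun χ g => CharApps.galois_apply σ hσ (isCharacter_of_irr χ.2) g pow_card_eq_one'
  have hresσ : (θ : N → ℂ) = fun n : N => (CharApps.galoisIrr σ χ₀ : G → ℂ) n := by
    funext n
    rw [CharApps.galoisIrr_apply, hσχ, ← SubmonoidClass.coe_pow, ← hθk n]
    exact congrFun hres _
  obtain ⟨l, hlN, hl⟩ := exists_linear N (χ := χ₀) hres hresσ
  -- the twist is a `p`-th power
  have hdet := det_twist R σ l (fun g => by rw [← CharApps.galoisIrr_apply σ χ₀, hl]) x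
  set δ := CharsMore.detHom R with hδ
  have hδv : ∀ g, (δ g : ℂ) = LinearMap.det (R g) := CharsMore.coe_detHom R
  have hδx : σ (δ x : ℂ) = (δ x : ℂ) ^ k := hσ _ (by
    rw [← Units.val_pow_eq_pow_val, ← map_pow, pow_card_eq_one', map_one, Units.val_one])
  have hδk : (δ x) ^ k = δ x * (δ x) ^ p := by
    rw [← map_pow, hxk, map_pow, pow_add, pow_one]
  have hld : (l x) ^ d = (δ x) ^ p := by
    refine Units.ext (mul_left_cancel₀ (Units.ne_zero (δ x)) ?_)
    rw [Units.val_pow_eq_pow_val, mul_comm, hδv, ← hdet, ← hδv, hδx, ← Units.val_pow_eq_pow_val,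
      hδk, Units.val_mul]
  have hxN : x ^ p ^ (m' + 1) ∈ N := hm ▸ N.pow_index_mem x
  have hδN : ∀ y ∈ N, ∃ o : ℕ, ¬ p ∣ o ∧ (δ y) ^ o = 1 := by
    intro y hy
    rw [hNres] at hy
    induction hy using Subgroup.closure_induction with
    | mem g hg =>
      exact ⟨orderOf g, fun hdvd => Nat.Prime.not_coprime_iff_dvd.2 ⟨p, hp.out, hdvd, dvd_refl p⟩ hg,
        by rw [← map_pow, pow_orderOf_eq_one, map_one]⟩
    | one => exact ⟨1, hp.out.not_dvd_one, by rw [map_one, one_pow]⟩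
    | mul a b _ _ iha ihb =>
      obtain ⟨o, ho, ho'⟩ := iha
      obtain ⟨o₂, ho₂, ho₂'⟩ := ihb
      exact ⟨o * o₂, hp.out.not_dvd_mul ho ho₂, by
        rw [map_mul, mul_pow, pow_mul, ho', one_pow, mul_comm o o₂, pow_mul, ho₂', one_pow,
          one_mul]⟩
    | inv a _ iha =>
      obtain ⟨o, ho, ho'⟩ := iha
      exact ⟨o, ho, by rw [map_inv, inv_pow, ho', inv_one]⟩
  have hδ1 : (δ x) ^ p ^ (m' + 1) = 1 := by
    obtain ⟨o, ho, ho'⟩ := hδN _ hxN
    rw [map_pow] at ho'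
    have h1 : ((δ x) ^ p ^ (m' + 1)) ^ p ^ a = 1 := by
      rw [← pow_mul, mul_comm, pow_mul, ← hxa, ← map_pow, pow_orderOf_eq_one, map_one, one_pow]
    rw [← orderOf_eq_one_iff]
    exact Nat.eq_one_of_dvd_coprimes
      (Nat.Coprime.pow_right a ((Nat.Prime.coprime_iff_not_dvd hp.out).2 ho).symm)
      (orderOf_dvd_of_pow_eq_one ho') (orderOf_dvd_of_pow_eq_one h1)
  have hl1 : (l x) ^ p ^ (m' + 1) = 1 := by rw [← map_pow]; exact hlN _ hxN
  have hlp : (l x) ^ p ^ m' = 1 := by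
    rw [← orderOf_eq_one_iff]
    refine Nat.eq_one_of_dvd_coprimes (a := d) (b := p ^ (m' + 1))
      (Nat.Coprime.pow_right _ ((Nat.Prime.coprime_iff_not_dvd hp.out).2 hdp).symm)
      (orderOf_dvd_of_pow_eq_one ?_) (orderOf_dvd_of_pow_eq_one ?_)
    · rw [← pow_mul, mul_comm, pow_mul, hld, ← pow_mul, ← pow_succ', hδ1]
    · rw [← pow_mul, mul_comm, pow_mul, hl1, one_pow]
  -- extensions and their fixedness
  have hfix : ∀ (μ : G →* ℂˣ), (∀ n ∈ N, μ n = 1) →
      ((∀ g : G, (μ (g ^ k) : ℂ) * R.character (g ^ k) = (μ g : ℂ) * R.character g) ↔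
        (μ x : ℂ) ^ p = ((l x)⁻¹ : ℂˣ)) := by
    intro μ hμ
    have hR' : ∀ g, R.character (g ^ k) = (l g : ℂ) * R.character g := fun g => by
      rw [← hl, CharApps.galoisIrr_apply, hσχ]
    constructor
    · intro h
      obtain ⟨n, hn⟩ := exists_ne_zero N (χ := χ₀) hres x
      have h1 := h ((n : G) * x)
      rw [hR', ← mul_assoc] at h1
      have h2 := mul_right_cancel₀ hn h1
      rw [← Units.val_mul] at h2
      have h3 : μ ((((n : G) * x)) ^ k) * l ((n : G) * x) = μ ((n : G) * x) := Units.ext h2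
      rw [map_pow, map_mul, map_mul, hμ _ n.2, hlN _ n.2, one_mul, one_mul, ← map_pow, hxk,
        map_pow, pow_add, pow_one, mul_assoc, mul_eq_left] at h3
      rw [← Units.val_pow_eq_pow_val, eq_inv_of_mul_eq_one_left h3]
    · intro h g
      have h3 : μ.comp (MonoidHom.id G) = μ := rfl
      have he : (μ ^ k) * l = μ := by
        refine hom_ext N x hgen (fun n hn => ?_) hμ ?_
        · rw [MonoidHom.mul_apply, MonoidHom.pow_apply, hμ n hn, hlN n hn, one_pow, one_mul]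
        · have h' : (μ x) ^ p = (l x)⁻¹ := Units.ext (by rw [Units.val_pow_eq_pow_val, h])
          rw [MonoidHom.mul_apply, MonoidHom.pow_apply, ← map_pow, hxk, map_pow, pow_add, pow_one,
            mul_assoc, h', inv_mul_cancel, mul_one]
      rw [hR', ← mul_assoc, ← Units.val_mul, map_pow]
      congr 2
      exact DFunLike.congr_fun he g
  have hc0 : (((l x)⁻¹ : ℂˣ) : ℂ) ≠ 0 := Units.ne_zero _
  refine Eq.trans ?_ (card_roots (p := p) hc0)
  have hζ : ∀ ζ : {ζ : ℂ // ζ ^ p = (((l x)⁻¹ : ℂˣ) : ℂ)}, ζ.1 ^ N.index = 1 := fun ζ => by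
    rw [hm, pow_succ', pow_mul, ζ.2, ← Units.val_pow_eq_pow_val, inv_pow, hlp, inv_one,
      Units.val_one]
  choose μ hμN hμx using fun ζ => exists_hom N x hgen (hζ ζ)
  have hirr : ∀ ζ, IsIrrCharacter G (fun g => (μ ζ g : ℂ) * R.character g) := fun ζ =>
    Chars.isIrrCharacter_linear_mul (μ ζ) hRc
  have hext : ∀ ζ, (θ : N → ℂ) =
      fun n : N => ((⟨_, hirr ζ⟩ : IrrCharacter G) : G → ℂ) n := fun ζ => by
    funext n
    show _ = (μ ζ n : ℂ) * R.character n
    rw [hμN ζ n n.2, Units.val_one, one_mul]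
    exact congrFun hres n
  let Φ : {ζ : ℂ // ζ ^ p = (((l x)⁻¹ : ℂˣ) : ℂ)} → {χ : IrrCharacter G // Good M (p := p) k χ ∧
      (θ : N → ℂ) = fun n : N => (χ : G → ℂ) n} := fun ζ =>
    ⟨⟨_, hirr ζ⟩, ⟨ext_mem N hpM hm hθB (hext ζ), by
      have h1 := congrFun (hext ζ) 1
      rw [CharApps.deg_eq, OneMemClass.coe_one, CharApps.deg_eq] at h1
      rwa [← Nat.cast_inj.1 h1], (hfix (μ ζ) (hμN ζ)).2 (by rw [hμx]; exact ζ.2)⟩, hext ζ⟩
  refine (Nat.card_eq_of_bijective Φ ⟨fun ζ ζ' h => ?_, fun χ => ?_⟩).symm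
  · obtain ⟨n, hn⟩ := exists_ne_zero N (χ := χ₀) hres x
    have h1 := congrFun (congrArg (fun χ : {χ : IrrCharacter G // _} => (χ.1 : G → ℂ)) h)
      ((n : G) * x)
    have h2 := mul_right_cancel₀ hn h1
    rw [map_mul, map_mul, hμN ζ _ n.2, hμN ζ' _ n.2, one_mul, one_mul, hμx, hμx] at h2
    exact Subtype.ext h2
  · obtain ⟨χ, ⟨hχB, hχd, hχk⟩, hχN⟩ := χ
    obtain ⟨ν, hνN, hν⟩ := exists_linear N (χ := χ₀) hres hχN
    have hνx : (ν x : ℂ) ^ p = (((l x)⁻¹ : ℂˣ) : ℂ) := (hfix ν hνN).1 fun g => by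
      rw [← hν, ← hν, hχk]
    refine ⟨⟨(ν x : ℂ), hνx⟩, Subtype.ext (Subtype.ext (funext fun g => ?_))⟩
    show (μ ⟨(ν x : ℂ), hνx⟩ g : ℂ) * R.character g = (χ : G → ℂ) g
    rw [hν, hom_ext N x hgen (hμN _) hνN (Units.ext (hμx ⟨(ν x : ℂ), hνx⟩))]

/-- The count. -/
theorem card_good (hpM : (p : AlgInt) ∈ M) (hNres : N = pResidual p G) [IsCyclic (G ⧸ N)]
    (hnt : N ≠ ⊤) (P : Sylow p G) {k : ℕ}
    (hk₁ : ∀ g : G, (∃ j : ℕ, orderOf g = p ^ j) → g ^ k = g ^ (1 + p))
    (hk₂ : ∀ g : G, Nat.Coprime (orderOf g) p → g ^ k = g) :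
    Nat.card {χ : IrrCharacter G // Good M (p := p) k χ} =
      p * Nat.card {θ : IrrCharacter N // GoodBelow M N P k θ} := by
  classical
  obtain ⟨m, hm⟩ := Transfer.exists_index_pResidual (G := G) (p := p)
  rw [← hNres] at hm
  have hex : ∀ χ : {χ : IrrCharacter G // Good M (p := p) k χ},
      ∃ θ : {θ : IrrCharacter N // GoodBelow M N P k θ},
        (θ.1 : N → ℂ) = fun n : N => (χ.1 : G → ℂ) n := by
    rintro ⟨χ, hB, hd, hk⟩
    obtain ⟨θ, hθ⟩ := exists_constituent_restrict N χ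
    have he := restrict_eq N hm hd hθ
    refine ⟨⟨θ, PrincExt.constituent_mem N hB hθ, ?_, fun x _ n => ?_, fun n => ?_⟩, he⟩
    · have h1 := congrFun he 1
      rw [CharApps.deg_eq, OneMemClass.coe_one, CharApps.deg_eq] at h1
      rwa [Nat.cast_inj.1 h1]
    · rw [he]
      exact isClassFunction_irr χ n x
    · rw [he]
      show (χ : G → ℂ) ((n ^ k : N) : G) = _
      rw [SubmonoidClass.coe_pow, hk]
  choose f hf using hex
  haveI := irrFintype N
  haveI := irrFintype G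
  rw [← Nat.card_congr (Equiv.sigmaFiberEquiv f), Nat.card_sigma, Finset.sum_congr rfl fun θ _ => ?_,
    Finset.sum_const, Finset.card_univ, ← Nat.card_eq_fintype_card, smul_eq_mul, mul_comm]
  refine Eq.trans (Nat.card_congr ?_) (card_fibre N hpM hNres hnt P hk₁ hk₂ θ.2)
  refine (Equiv.subtypeEquivRight fun χ => ?_).trans (Equiv.subtypeSubtypeEquivSubtypeInter _
    (fun χ : IrrCharacter G => (θ.1 : N → ℂ) = fun n : N => (χ : G → ℂ) n))
  constructor
  · rintro rfl; exact hf χ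
  · intro h
    exact Subtype.ext (Subtype.ext ((hf χ).trans h.symm))

end CfsgLib.BlockApps.GalCount
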