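import Cfsg.Agent.Lib.Blocks.PrincipalExtension
import Cfsg.Agent.Lib.Blocks.PrincipalBlock
import Cfsg.Agent.Lib.CharsMore.CharAlg
import Cfsg.Agent.Lib.Transfer.Tate
import Cfsg.Agent.Lib.FT.PLengthClosure
import Cfsg.Agent.Lib.PGroups.Basic
import Mathlib.GroupTheory.FiniteAbelian.Duality

/-!
# Principal block characters restricted to a Sylow normalizer, and `p`-length one
-/

set_option autoImplicit false
set_option linter.unusedSectionVars false
set_option linter.style.haveILetI false

namespace CfsgLib.BlockApps.PLenOne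

open Cfsg CfsgLib.Chars CfsgLib.Blocks
open scoped ComplexConjugate

universe u

variable {G : Type u} [Group G] [Fintype G] {M : Ideal AlgInt} [M.IsPrime] {p : ℕ} [hp : Fact p.Prime]

/-- Inner products with the trivial character on a subgroup seen inside a larger one. -/
theorem inner_subgroupOf {P L : Subgroup G} (h : P ≤ L) [Fintype P] [Fintype (P.subgroupOf L)]
    (f : G → ℂ) :
    classInner (fun u : P.subgroupOf L => f ((u : L) : G)) (fun _ => (1 : ℂ)) =
      classInner (fun u : P => f u) (fun _ => (1 : ℂ)) :=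
  CharsMore.inner_comp_equiv (Subgroup.subgroupOfEquivOfLe h) (fun u : P => f u) fun _ => 1

/-- The principal block members with a fixed vector of `P` have `P` in the kernel. -/
theorem eq_on_sylow (P : Sylow p G) [Fintype ↥(P : Subgroup G)]
    (h : ∀ χ ∈ principalBlock M G, IsIrrCharacter
      ↥(Subgroup.normalizer ((P : Subgroup G) : Set G))
      (fun n : ↥(Subgroup.normalizer ((P : Subgroup G) : Set G)) => (χ : G → ℂ) n))
    {χ : IrrCharacter G} (hχ : χ ∈ principalBlock M G)
    (h1 : classInner (fun u : (P : Subgroup G) => (χ : G → ℂ) u) (fun _ => 1) ≠ 0)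
    {u : G} (hu : u ∈ (P : Subgroup G)) : (χ : G → ℂ) u = (χ : G → ℂ) 1 := by
  classical
  set N := Subgroup.normalizer ((P : Subgroup G) : Set G)
  have hPN : (P : Subgroup G) ≤ N := Subgroup.le_normalizer
  haveI : ((P : Subgroup G).subgroupOf N).Normal := Subgroup.normal_in_normalizer
  haveI := Fintype.ofFinite N
  haveI := Fintype.ofFinite ((P : Subgroup G).subgroupOf N)
  have h2 : classInner (fun v : (P : Subgroup G).subgroupOf N => (χ : G → ℂ) ((v : N) : G))
      (fun _ => (1 : ℂ)) ≠ 0 := by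
    rw [inner_subgroupOf hPN]; exact h1
  have key := fun v => CharsMore.restrict_eq_mul_of_invariant ((P : Subgroup G).subgroupOf N)
    (χ := fun n : N => (χ : G → ℂ) n) (h χ hχ)
    (θ := fun _ => (1 : ℂ)) isIrrCharacter_one (fun _ _ => rfl) h2 v
  have e1 := key ⟨⟨u, hPN hu⟩, hu⟩
  have e2 := key 1
  simp only [mul_one, OneMemClass.coe_one] at e1 e2
  rw [e1, e2]

/-- A linear character of a subgroup kills an element if all do. -/
theorem mem_commutator_of_forall {A : Type u} [Group A] [Finite A] {x : A}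
    (h : ∀ φ : A →* ℂˣ, φ x = 1) : x ∈ commutator A := by
  by_contra hx
  have hne : (Abelianization.of x : Abelianization A) ≠ 1 := fun he =>
    hx ((QuotientGroup.eq_one_iff x).1 he)
  haveI : NeZero (Monoid.exponent (Abelianization A) : ℂ) :=
    ⟨Nat.cast_ne_zero.mpr Monoid.exponent_ne_zero_of_finite⟩
  obtain ⟨φ, hφ⟩ := CommGroup.exists_apply_ne_one_of_hasEnoughRootsOfUnity (Abelianization A) ℂ hne
  exact hφ (h (φ.comp Abelianization.of))

/-- If only the trivial member of the principal block has a fixed vector of the Sylow subgroup,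
then its linear characters extend. -/
theorem inf_commutator_le (hpM : (p : AlgInt) ∈ M) (Q : Sylow p G)
    (h : ∀ θ ∈ principalBlock M G, ∀ [Fintype ↥(Q : Subgroup G)],
      classInner (fun u : (Q : Subgroup G) => (θ : G → ℂ) u) (fun _ => 1) ≠ 0 → θ = principal G) :
    commutator G ⊓ (Q : Subgroup G) ≤
      (frattini (Q : Subgroup G)).map (Q : Subgroup G).subtype := by
  classical
  haveI := Fintype.ofFinite (Q : Subgroup G)
  haveI := irrFintype G
  rintro x ⟨hxc, hxQ⟩
  refine ⟨⟨x, hxQ⟩, CfsgLib.PGroups.commutator_le_frattini Q.2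
    (mem_commutator_of_forall fun φ => ?_), rfl⟩
  set B := principalBlock M G
  set s := Finset.univ.filter (· ∈ B)
  let F : ↥(Q : Subgroup G) → ℂ := fun u => ∑ θ ∈ s, (θ : G → ℂ) 1 * (θ : G → ℂ) u
  have hF : ∀ u : (Q : Subgroup G), u ≠ 1 → F u = 0 := fun u hu => by
    obtain ⟨j, hj⟩ := Q.2 u
    have hd : p ∣ orderOf (u : G) := by
      obtain ⟨i, -, hi⟩ := (Nat.dvd_prime_pow hp.out).1 (orderOf_dvd_of_pow_eq_one hj)
      rw [Subgroup.orderOf_coe, hi]
      rcases i with - | i
      · rw [pow_zero, orderOf_eq_one_iff] at hi; exact absurd hi hu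
      · exact dvd_pow_self p (Nat.succ_ne_zero i)
    have h0 : blockCoeff B (u : G)⁻¹ = 0 :=
      blockCoeff_eq_zero_of_dvd hp.out hpM (isPBlock_principalBlock M) (by rwa [orderOf_inv])
    rw [blockCoeff, finsum_mem_eq_sum_of_inter_support_eq (t := s) _ (by ext; simp [s]),
      mul_eq_zero] at h0
    refine Eq.trans (Finset.sum_congr rfl fun θ _ => ?_)
      (h0.resolve_left (inv_ne_zero (Nat.cast_ne_zero.2 Nat.card_pos.ne')))
    rw [← char_inv (isCharacter_of_irr θ.2), inv_inv]
  have hconst : ∀ l : (Q : Subgroup G) →* ℂˣ,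
      ∑ θ ∈ s, (θ : G → ℂ) 1 *
          classInner (fun u : (Q : Subgroup G) => (θ : G → ℂ) u) (fun u => (l u : ℂ)) =
        (Nat.card (Q : Subgroup G) : ℂ)⁻¹ * F 1 := by
    intro l
    simp only [inner_def]
    rw [Finset.sum_congr rfl fun θ _ => by rw [← mul_assoc, mul_comm ((θ : G → ℂ) 1), mul_assoc,
      Finset.mul_sum], ← Finset.mul_sum, Finset.sum_comm]
    refine congrArg _ ((Finset.sum_eq_single 1 (fun u _ hu => ?_) (by simp)).trans ?_)
    · rw [Finset.sum_congr rfl fun θ _ => (mul_assoc _ _ _).symm, ← Finset.sum_mul]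
      exact mul_eq_zero_of_left (hF u hu) _
    · simp [F]
  have h1 : ∑ θ ∈ s, (θ : G → ℂ) 1 *
      classInner (fun u : (Q : Subgroup G) => (θ : G → ℂ) u) (fun _ => 1) = 1 := by
    rw [Finset.sum_eq_single (principal G)]
    · rw [principal_apply, one_mul]
      exact inner_irr_self ⟨_, isIrrCharacter_one (G := (Q : Subgroup G))⟩
    · intro θ hθ hne
      by_contra hz
      exact hne (h θ (Finset.mem_filter.1 hθ).2 fun he => hz (by rw [he, mul_zero]))
    · intro hn
      exact absurd (Finset.mem_filter.2 ⟨Finset.mem_univ _, principal_mem_principalBlock M⟩) hn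
  have h2 := hconst φ
  rw [← hconst 1] at h2
  simp only [MonoidHom.one_apply, Units.val_one] at h2
  rw [h1] at h2
  have hφc := isCharacter_of_irr (isIrrCharacter_linear φ)
  choose m hm using fun θ : IrrCharacter G => inner_char_nat
    (isCharacter_restrict (Q : Subgroup G) (isCharacter_of_irr θ.2)) hφc
  simp only [hm, CharApps.deg_eq, ← Nat.cast_mul, ← Nat.cast_sum] at h2
  rw [Nat.cast_eq_one] at h2
  obtain ⟨θ, hθs, hθ0⟩ := Finset.exists_ne_zero_of_sum_ne_zero (s := s)
    (f := fun θ : IrrCharacter G => charDegree (θ : G → ℂ) * m θ) (by rw [h2]; exact one_ne_zero)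
  have hle : charDegree (θ : G → ℂ) * m θ ≤ 1 := by
    rw [← h2]
    refine Finset.single_le_sum (f := fun θ : IrrCharacter G => charDegree (θ : G → ℂ) * m θ)
      (fun _ _ => Nat.zero_le _) hθs
  have hθ1 : charDegree (θ : G → ℂ) * m θ = 1 := by
    have := Nat.pos_of_ne_zero hθ0; omega
  obtain ⟨hd, hm1⟩ := mul_eq_one.1 hθ1
  obtain ⟨μ, hμ⟩ := exists_hom_of_degree_one (isCharacter_of_irr θ.2)
    (by rw [CharApps.deg_eq, hd, Nat.cast_one])
  have hμφ : μ.comp (Q : Subgroup G).subtype = φ := by
    by_contra hne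
    have := hm θ
    rw [hm1, show (fun u : (Q : Subgroup G) => (θ : G → ℂ) u) =
        fun u => ((μ.comp (Q : Subgroup G).subtype) u : ℂ) from funext fun u => by rw [hμ]; rfl,
      inner_irr_of_isIrr (isIrrCharacter_linear _) (isIrrCharacter_linear _), if_neg, Nat.cast_one]
      at this
    · exact zero_ne_one this
    · exact fun he => hne (MonoidHom.ext fun u => Units.ext (congrFun he u))
  rw [← hμφ]
  exact (Abelianization.commutator_subset_ker μ) hxc

/-- A group with `P ∩ G' ≤ Φ(P)` has `p`-length one. -/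
theorem pLengthLE_of_inf_le_frattini (Q : Sylow p G)
    (h : commutator G ⊓ (Q : Subgroup G) ≤ (frattini (Q : Subgroup G)).map (Q : Subgroup G).subtype) :
    PLengthLE p 1 G := by
  classical
  obtain ⟨R, K, hK, hKR⟩ := Transfer.hasNormalPComplement_of_inf_le_frattini Q (commutator G) h
  obtain ⟨a, ha⟩ := IsPGroup.iff_card.1 R.2
  have hKi : K.index = p ^ a := by
    rw [← ha]
    exact hKR.symm.index_eq_card
  have hKc : (Nat.card K).Coprime p := by
    rw [← hKR.index_eq_card]
    exact ((hp.out.coprime_iff_not_dvd).2 R.not_dvd_index).symm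
  set O := pPrimeCore p G
  have hO : (pPrimeCore p (commutator G)).map (commutator G).subtype ≤ O := by
    haveI : ((pPrimeCore p (commutator G)).map (commutator G).subtype).Normal :=
      CfsgLib.Base.normal_map_subtype _
    refine CfsgLib.Base.le_pPrimeCore ?_
    rw [CfsgLib.Base.card_map_subtype]
    exact CfsgLib.Base.pPrimeCore_coprime p _
  have hC : ∀ x ∈ commutator G, ∃ k : ℕ, x ^ p ^ k ∈ O := fun x hx => by
    refine ⟨a, hO ⟨⟨x, hx⟩ ^ p ^ a, CfsgLib.Base.le_pPrimeCore (N := K) hKc ?_, rfl⟩⟩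
    rw [← hKi]
    exact K.pow_index_mem _
  set U := commutator G ⊔ (Q : Subgroup G)
  haveI : U.Normal := Subgroup.Normal.of_commutator_le G le_sup_left
  have hU : U ≤ pPrimePCore p G := by
    refine CfsgLib.FT.le_pPrimePCore fun x hx => ?_
    let π := QuotientGroup.mk' O
    have h1 : IsPGroup p ((commutator G).map π) := by
      rintro ⟨_, ⟨y, hy, rfl⟩⟩
      obtain ⟨k, hk⟩ := hC y hy
      refine ⟨k, Subtype.ext ?_⟩
      rw [SubmonoidClass.coe_pow, OneMemClass.coe_one, ← map_pow]
      exact (QuotientGroup.eq_one_iff _).2 hk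
    haveI : ((commutator G).map π).Normal :=
      (inferInstance : (commutator G).Normal).map π (QuotientGroup.mk'_surjective _)
    have h2 : IsPGroup p ↥((commutator G).map π ⊔ (Q : Subgroup G).map π) :=
      IsPGroup.to_sup_of_normal_left h1 (Q.2.map π)
    obtain ⟨k, hk⟩ := h2 ⟨π x, by rw [← Subgroup.map_sup]; exact ⟨x, hx, rfl⟩⟩
    refine ⟨k, (QuotientGroup.eq_one_iff _).1 ?_⟩
    simpa [π] using congrArg Subtype.val hk
  rw [CfsgLib.FT.pLengthLE_one_iff]
  refine Nat.Coprime.coprime_dvd_left ((Subgroup.index_dvd_of_le hU).trans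
    (Subgroup.index_dvd_of_le (le_sup_right (a := commutator G)))) ?_
  exact ((hp.out.coprime_iff_not_dvd).2 Q.not_dvd_index).symm

/-- Irreducible restriction to the normalizer forces `p`-length one. -/
theorem pLengthLE_of_restrict (hpM : (p : AlgInt) ∈ M) (P : Sylow p G)
    (h : ∀ χ ∈ principalBlock M G, IsIrrCharacter
      ↥(Subgroup.normalizer ((P : Subgroup G) : Set G))
      (fun n : ↥(Subgroup.normalizer ((P : Subgroup G) : Set G)) => (χ : G → ℂ) n)) :
    PLengthLE p 1 G := by
  classical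
  set L := Subgroup.normalClosure ((P : Subgroup G) : Set G) with hL
  have hPL : (P : Subgroup G) ≤ L := Subgroup.le_normalClosure
  haveI : L.Normal := Subgroup.normalClosure_normal
  haveI := Fintype.ofFinite L
  have hiL : L.index.Coprime p := Nat.Coprime.coprime_dvd_left (Subgroup.index_dvd_of_le hPL)
    ((hp.out.coprime_iff_not_dvd).2 P.not_dvd_index).symm
  refine CfsgLib.FT.pLengthLE_one_of_normal hiL ?_
  refine pLengthLE_of_inf_le_frattini (P.subtype hPL) (inf_commutator_le (M := M) hpM _ ?_)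
  intro θ hθ _ h1
  haveI := Fintype.ofFinite (P : Subgroup G)
  obtain ⟨χ, hχ, hχθ⟩ := PrincExt.exists_over L hθ
  have hLc := isCharacter_restrict L (isCharacter_of_irr χ.2)
  haveI := Fintype.ofFinite ((P : Subgroup G).subgroupOf L)
  have hcP : IsCharacter ((P : Subgroup G).subgroupOf L) (fun _ => (1 : ℂ)) := isCharacter_one
  have hge := CharsMore.inner_restrict_ge ((P : Subgroup G).subgroupOf L).subtype hLc hcP {θ}
  rw [Finset.sum_singleton] at hge
  have h1' : classInner (fun u : (P : Subgroup G).subgroupOf L => (θ : L → ℂ) u) (fun _ => 1) ≠ 0 := by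
    convert h1 using 1
    exact Chars.inner_congr_inst _ _ _ _
  have hne : CharsMore.multNat ((fun n : L => (χ : G → ℂ) n) ∘
      ((P : Subgroup G).subgroupOf L).subtype) (fun _ => (1 : ℂ)) ≠ 0 := by
    intro h0
    rw [h0, Nat.le_zero, mul_eq_zero] at hge
    refine hge.elim (CharsMore.multNat_ne_zero hLc (isCharacter_of_irr θ.2) hχθ)
      (CharsMore.multNat_ne_zero (isCharacter_comp _ (isCharacter_of_irr θ.2)) hcP h1')
  have hne' : classInner (fun u : (P : Subgroup G) => (χ : G → ℂ) u) (fun _ => 1) ≠ 0 := by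
    rw [← inner_subgroupOf hPL]
    show classInner ((fun n : L => (χ : G → ℂ) n) ∘ ((P : Subgroup G).subgroupOf L).subtype)
      (fun _ => (1 : ℂ)) ≠ 0
    exact fun h0 => hne (Nat.cast_eq_zero.1
      ((CharsMore.inner_eq_multNat (isCharacter_comp _ hLc) hcP).symm.trans h0))
  haveI := CharApps.charKer_normal χ
  have hker : L ≤ CharApps.charKer χ :=
    Subgroup.normalClosure_le_normal fun u hu =>
      CharApps.mem_charKer.2 (eq_on_sylow P h hχ hne' hu)
  have hres : (fun n : L => (χ : G → ℂ) n) = fun _ => (χ : G → ℂ) 1 :=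
    funext fun n => CharApps.mem_charKer.1 (hker n.2)
  by_contra hne2
  refine hχθ ?_
  rw [hres, show (fun _ : L => (χ : G → ℂ) 1) = (χ : G → ℂ) 1 • ((principal L : IrrCharacter L) : L → ℂ)
    from funext fun _ => (mul_one _).symm, Chars.inner_smul_left,
    inner_irr_ne (Ne.symm hne2), mul_zero]

/-- `p`-length one makes the restrictions irreducible. -/
theorem restrict_of_pLengthLE (hpM : (p : AlgInt) ∈ M) (P : Sylow p G) (h : PLengthLE p 1 G)
    {χ : IrrCharacter G} (hχ : χ ∈ principalBlock M G) :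
    IsIrrCharacter ↥(Subgroup.normalizer ((P : Subgroup G) : Set G))
      (fun n : ↥(Subgroup.normalizer ((P : Subgroup G) : Set G)) => (χ : G → ℂ) n) := by
  classical
  set O := pPrimeCore p G with hO
  set N := Subgroup.normalizer ((P : Subgroup G) : Set G)
  obtain ⟨f, hf, hfe⟩ := exists_deflate_irr O χ.2 fun n hn =>
    principalBlock_apply_normal hpM (CfsgLib.Base.not_dvd_card_pPrimeCore p G) hχ hn
  have hPc := CfsgLib.OddOrder.map_le_pCore_quotient h P.2
  set π := QuotientGroup.mk' O
  have heq : (P : Subgroup G).map π = pCore p (G ⧸ O) :=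
    ((P.mapSurjective (QuotientGroup.mk'_surjective O)).3
      (CfsgLib.Base.isPGroup_pCore p (G ⧸ O)) hPc).symm
  set H := (pCore p (G ⧸ O)).comap π
  have hPH : (P : Subgroup G) ≤ H := Subgroup.map_le_iff_le_comap.1 hPc
  have htop : N ⊔ H = ⊤ := Sylow.normalizer_sup_eq_top' P hPH
  have hH : H = (P : Subgroup G) ⊔ O := by
    rw [show H = ((P : Subgroup G).map π).comap π by rw [heq], Subgroup.comap_map_eq,
      QuotientGroup.ker_mk']
  have hsurj : Function.Surjective (π.comp N.subtype) := by
    intro q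
    obtain ⟨g, rfl⟩ := QuotientGroup.mk'_surjective O q
    have hg : g ∈ N ⊔ O := by
      have : N ⊔ O = ⊤ := by
        rw [← htop, hH, ← sup_assoc, sup_eq_left.2 (show (P : Subgroup G) ≤ N from Subgroup.le_normalizer)]
      rw [this]; exact Subgroup.mem_top g
    obtain ⟨n, hn, o, ho, rfl⟩ := Subgroup.mem_sup_of_normal_right.1 hg
    refine ⟨⟨n, hn⟩, ?_⟩
    show π n = π (n * o)
    rw [map_mul, show π o = 1 from (QuotientGroup.eq_one_iff o).2 ho, mul_one]
  rw [hfe]
  exact isIrrCharacter_comp (π.comp N.subtype) hsurj hf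

end CfsgLib.BlockApps.PLenOne
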