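import Mathlib
import Cfsg.Prelude.Def_LocalEven
import Cfsg.Agent.Lib.Base.Cores

/-!
# Primitive pairs of maximal `p`-local subgroups
-/

set_option autoImplicit false

namespace CfsgLib.BlockApps.PrimitivePair

open Cfsg Subgroup

variable {G : Type*} [Group G] [Finite G] {p : ℕ} [Fact p.Prime]

/-- The p-core of a subgroup, inside the group. -/
abbrev opc (p : ℕ) (M : Subgroup G) : Subgroup G := (pCore p ↥M).map M.subtype

/-- A `p`-local subgroup. -/
abbrev Loc (p : ℕ) (M : Subgroup G) : Prop :=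
  ∃ T : Subgroup G, IsPGroup p T ∧ T ≠ ⊥ ∧ M = normalizer (T : Set G)

/-- A maximal `p`-local subgroup. -/
abbrev Max (p : ℕ) (M : Subgroup G) : Prop :=
  Loc p M ∧ ∀ L : Subgroup G, Loc p L → M ≤ L → L = M

omit [Finite G] [Fact p.Prime] in
theorem opc_le (M : Subgroup G) : opc p M ≤ M := map_subtype_le _

omit [Finite G] [Fact p.Prime] in
theorem le_normalizer_opc (M : Subgroup G) : M ≤ normalizer ((opc p M : Subgroup G) : Set G) := by
  haveI := pCore_normal p ↥M
  intro g hg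
  rw [mem_normalizer_iff]
  intro x
  constructor
  · rintro ⟨y, hy, rfl⟩
    exact ⟨⟨g, hg⟩ * y * ⟨g, hg⟩⁻¹, Normal.conj_mem inferInstance y hy _, rfl⟩
  · rintro ⟨y, hy, hxy⟩
    refine ⟨⟨g, hg⟩⁻¹ * y * ⟨g, hg⟩, ?_, ?_⟩
    · simpa using Normal.conj_mem inferInstance y hy (⟨g, hg⟩⁻¹ : ↥M)
    · show g⁻¹ * (y : G) * g = x
      rw [show (y : G) = g * x * g⁻¹ from hxy]; group

omit [Finite G] [Fact p.Prime] in
theorem le_opc {A M : Subgroup G} (hA : A ≤ M) (hn : M ≤ normalizer (A : Set G)) (hp : IsPGroup p A) :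
    A ≤ opc p M := by
  haveI : (A.subgroupOf M).Normal := normal_subgroupOf_of_le_normalizer hn
  have h := CfsgLib.Base.le_pCore (N := A.subgroupOf M) (hp.comap_of_injective M.subtype M.subtype_injective)
  have := map_mono (f := M.subtype) h
  rwa [map_subgroupOf_eq_of_le hA] at this

omit [Finite G] [Fact p.Prime] in
theorem isPGroup_opc (M : Subgroup G) : IsPGroup p (opc p M) :=
  (CfsgLib.Base.isPGroup_pCore p ↥M).map _

omit [Finite G] [Fact p.Prime] in
theorem normalizer_map_conj (A : Subgroup G) (g : G) :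
    normalizer ((A.map (MulAut.conj g).toMonoidHom : Subgroup G) : Set G) =
      (normalizer (A : Set G)).map (MulAut.conj g).toMonoidHom :=
  (map_equiv_normalizer_eq A (MulAut.conj g)).symm

omit [Finite G] [Fact p.Prime] in
theorem opc_map_le (M : Subgroup G) (g : G) :
    (opc p M).map (MulAut.conj g).toMonoidHom ≤ opc p (M.map (MulAut.conj g).toMonoidHom) :=
  le_opc (map_mono (opc_le M)) ((map_mono (le_normalizer_opc M)).trans (normalizer_map_conj _ g).ge)
    ((isPGroup_opc M).map _)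

omit [Finite G] [Fact p.Prime] in
theorem map_conj_inv (M : Subgroup G) (g : G) :
    (M.map (MulAut.conj g⁻¹).toMonoidHom).map (MulAut.conj g).toMonoidHom = M := by
  rw [map_map]
  convert map_id M
  ext x; simp; group

omit [Finite G] [Fact p.Prime] in
theorem opc_map (M : Subgroup G) (g : G) :
    opc p (M.map (MulAut.conj g).toMonoidHom) = (opc p M).map (MulAut.conj g).toMonoidHom := by
  refine le_antisymm ?_ (opc_map_le M g)
  have h := map_mono (f := (MulAut.conj g).toMonoidHom)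
    (opc_map_le (p := p) (M.map (MulAut.conj g).toMonoidHom) g⁻¹)
  rw [map_conj_inv] at h
  have h2 : (M.map (MulAut.conj g).toMonoidHom).map (MulAut.conj g⁻¹).toMonoidHom = M := by
    simpa using map_conj_inv M g⁻¹
  rwa [h2] at h

omit [Fact p.Prime] in
theorem opc_ne_bot {M : Subgroup G} (hM : Loc p M) : opc p M ≠ ⊥ := by
  obtain ⟨T, hT, hT0, rfl⟩ := hM
  exact fun h => hT0 (le_bot_iff.1 (h ▸ le_opc (le_normalizer) le_rfl hT))

omit [Fact p.Prime] in
theorem normalizer_opc {M : Subgroup G} (hM : Max p M) : normalizer ((opc p M : Subgroup G) : Set G) = M :=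
  hM.2 _ ⟨_, isPGroup_opc M, opc_ne_bot hM.1, rfl⟩ (le_normalizer_opc M)

omit [Fact p.Prime] in
theorem exists_max {L : Subgroup G} (hL : Loc p L) : ∃ M, Max p M ∧ L ≤ M := by
  classical
  obtain ⟨M, ⟨hM, hLM⟩, hmax⟩ :=
    (Set.toFinite {M : Subgroup G | Loc p M ∧ L ≤ M}).exists_maximal ⟨L, hL, le_rfl⟩
  exact ⟨M, ⟨hM, fun N hN hMN => le_antisymm (hmax ⟨hN, hLM.trans hMN⟩ hMN) hMN⟩, hLM⟩

omit [Finite G] [Fact p.Prime] in
theorem max_conj {M : Subgroup G} (hM : Max p M) (g : G) :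
    Max p (M.map (MulAut.conj g).toMonoidHom) := by
  have key : ∀ (h : G) (N : Subgroup G), Loc p N → Loc p (N.map (MulAut.conj h).toMonoidHom) := by
    rintro h N ⟨T, hT, hT0, rfl⟩
    exact ⟨T.map (MulAut.conj h).toMonoidHom, hT.map _,
      fun h0 => hT0 ((map_eq_bot_iff_of_injective _ (MulAut.conj h).injective).1 h0),
      (normalizer_map_conj T h).symm⟩
  refine ⟨key g M hM.1, fun L hL hML => ?_⟩
  have h1 : M ≤ L.map (MulAut.conj g⁻¹).toMonoidHom := by
    have := map_mono (f := (MulAut.conj g⁻¹).toMonoidHom) hML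
    rwa [show (M.map (MulAut.conj g).toMonoidHom).map (MulAut.conj g⁻¹).toMonoidHom = M by
      simpa using map_conj_inv M g⁻¹] at this
  rw [← hM.2 _ (key g⁻¹ L hL) h1, map_conj_inv]

omit [Fact p.Prime] in
theorem mem_of_map_eq {M : Subgroup G} (hM : Max p M) {g : G}
    (h : M.map (MulAut.conj g).toMonoidHom = M) : g ∈ M := by
  have hmap : (opc p M).map (MulAut.conj g).toMonoidHom = opc p M := by
    rw [← opc_map, h]
  rw [← normalizer_opc hM, mem_normalizer_iff]
  intro x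
  constructor
  · intro hx; exact hmap ▸ mem_map_of_mem (MulAut.conj g).toMonoidHom hx
  · intro hx
    rw [← hmap] at hx
    obtain ⟨y, hy, hyx⟩ := hx
    rwa [← (MulAut.conj g).injective hyx]

/-- Two maximal p-locals containing each other's cores form a primitive pair. -/
theorem primitive {M N : Subgroup G} (hM : Max p M)
    (hc : centralizer (pCore p ↥M : Set ↥M) ≤ pCore p ↥M)
    {A : Subgroup G} (hA0 : A ≠ ⊥) (hA : A ≤ M ⊓ N) (hn : M ≤ normalizer (A : Set G)) :
    N ⊓ normalizer (A : Set G) = M ⊓ N := by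
  refine le_antisymm (le_inf ?_ inf_le_left) (le_inf inf_le_right (inf_le_left.trans hn))
  set A0 := A ⊓ opc p M with hA0d
  have hAM : A ≤ M := hA.trans inf_le_left
  have h0 : A0 ≠ ⊥ := by
    intro h
    haveI : (A.subgroupOf M).Normal := normal_subgroupOf_of_le_normalizer hn
    haveI := pCore_normal p ↥M
    have hdis : Disjoint (A.subgroupOf M) (pCore p ↥M) := by
      rw [disjoint_iff_inf_le]
      intro x hx
      have : (x : G) ∈ A0 := ⟨hx.1, x, hx.2, rfl⟩
      rw [h, mem_bot] at this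
      exact mem_bot.2 (Subtype.ext this)
    have hle : A.subgroupOf M ≤ pCore p ↥M := fun x hx => hc (mem_centralizer_iff.2 fun y hy =>
      (commute_of_normal_of_disjoint _ _ inferInstance inferInstance hdis x y hx hy).eq.symm)
    have hb : A.subgroupOf M = ⊥ := (disjoint_iff.1 hdis) ▸ (inf_eq_left.2 hle).symm
    exact hA0 (by rw [← map_subgroupOf_eq_of_le hAM, hb, Subgroup.map_bot])
  have hA0p : IsPGroup p A0 := (isPGroup_opc M).to_le inf_le_right
  have hMA0 : M ≤ normalizer (A0 : Set G) := fun g hg => by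
    have h1 := hn hg
    have h2 := le_normalizer_opc (p := p) M hg
    rw [mem_normalizer_iff] at h1 h2 ⊢
    exact fun x => ⟨fun hx => ⟨(h1 x).1 hx.1, (h2 x).1 hx.2⟩, fun hx => ⟨(h1 x).2 hx.1, (h2 x).2 hx.2⟩⟩
  have hEq : normalizer (A0 : Set G) = M := hM.2 _ ⟨A0, hA0p, h0, rfl⟩ hMA0
  -- the normalizer of `A` normalizes its `p`-core
  have hA0eq : A0 = opc p A := by
    refine le_antisymm (le_opc inf_le_left (hAM.trans hMA0) hA0p) (le_inf (opc_le A) ?_)
    refine le_opc ((opc_le A).trans hAM) (fun g hg => ?_) (isPGroup_opc A)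
    have hgA : A.map (MulAut.conj g).toMonoidHom = A :=
      le_antisymm (by rintro _ ⟨a, ha, rfl⟩; exact (mem_normalizer_iff.1 (hn hg) a).1 ha)
        fun a ha => ⟨g⁻¹ * a * g, (mem_normalizer_iff.1 (hn hg) _).2 (by simpa [mul_assoc] using ha),
          by simp [mul_assoc]⟩
    have hmap : (opc p A).map (MulAut.conj g).toMonoidHom = opc p A := by rw [← opc_map, hgA]
    rw [mem_normalizer_iff]
    exact fun x => ⟨fun hx => hmap ▸ mem_map_of_mem (MulAut.conj g).toMonoidHom hx, fun hx => by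
      rw [← hmap] at hx
      obtain ⟨y, hy, hyx⟩ := hx
      rwa [← (MulAut.conj g).injective hyx]⟩
  intro g hg
  rw [← hEq, hA0eq, mem_normalizer_iff]
  have hgA : A.map (MulAut.conj g).toMonoidHom = A :=
    le_antisymm (by rintro _ ⟨a, ha, rfl⟩; exact (mem_normalizer_iff.1 hg.2 a).1 ha)
      fun a ha => ⟨g⁻¹ * a * g, (mem_normalizer_iff.1 hg.2 _).2 (by simpa [mul_assoc] using ha),
        by simp [mul_assoc]⟩
  have hmap : (opc p A).map (MulAut.conj g).toMonoidHom = opc p A := by rw [← opc_map, hgA]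
  exact fun x => ⟨fun hx => hmap ▸ mem_map_of_mem (MulAut.conj g).toMonoidHom hx, fun hx => by
    rw [← hmap] at hx
    obtain ⟨y, hy, hyx⟩ := hx
    rwa [← (MulAut.conj g).injective hyx]⟩

/-- A pair with overlapping cores from one overlapping pair. -/
theorem exists_pair {M L : Subgroup G} (hM : Max p M) (hL : Max p L) (hne : M ≠ L)
    (hp : p ∣ Nat.card ↥(M ⊓ L)) :
    ∃ M₁ M₂ : Subgroup G, Max p M₁ ∧ Max p M₂ ∧ M₁ ≠ M₂ ∧ opc p M₁ ≤ M₂ ∧ opc p M₂ ≤ M₁ := by
  classical
  let S : Set (Subgroup G × Subgroup G) :=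
    {x | Max p x.1 ∧ Max p x.2 ∧ x.1 ≠ x.2 ∧ p ∣ Nat.card ↥(x.1 ⊓ x.2)}
  obtain ⟨⟨M, L⟩, ⟨hM, hL, hne, hp⟩, hmax⟩ := S.toFinite.toFinset.exists_max_image
    (fun x => (Nat.card ↥(x.1 ⊓ x.2)).factorization p) ⟨(M, L), by simpa [S] using ⟨hM, hL, hne, hp⟩⟩
    |> fun ⟨x, hx, h⟩ => (⟨x, by simpa [S] using hx, h⟩ :
      ∃ x : Subgroup G × Subgroup G, (Max p x.1 ∧ Max p x.2 ∧ x.1 ≠ x.2 ∧ p ∣ Nat.card ↥(x.1 ⊓ x.2)) ∧
        ∀ y ∈ S.toFinite.toFinset, (Nat.card ↥(y.1 ⊓ y.2)).factorization p ≤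
          (Nat.card ↥(x.1 ⊓ x.2)).factorization p)
  obtain ⟨P⟩ : Nonempty (Sylow p ↥(M ⊓ L)) := inferInstance
  set Q := (P : Subgroup ↥(M ⊓ L)).map (M ⊓ L).subtype with hQd
  have hQp : IsPGroup p Q := P.2.map _
  have hQle : Q ≤ M ⊓ L := map_subtype_le _
  have hQc : Nat.card Q = p ^ (Nat.card ↥(M ⊓ L)).factorization p := by
    rw [hQd, card_map_of_injective (M ⊓ L).subtype_injective, P.card_eq_multiplicity]
  have hppr := (Fact.out : p.Prime)
  have hv : 0 < (Nat.card ↥(M ⊓ L)).factorization p :=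
    hppr.factorization_pos_of_dvd Nat.card_pos.ne' hp
  have hQ0 : Q ≠ ⊥ := by
    intro h; rw [h, card_bot] at hQc
    exact absurd hQc.symm (Nat.one_lt_pow hv.ne' hppr.one_lt).ne'
  obtain ⟨K, hK, hNK⟩ := exists_max (p := p) (L := normalizer (Q : Set G)) ⟨Q, hQp, hQ0, rfl⟩
  -- a larger p-subgroup in one member forces it to be `K`
  have big : ∀ X : Subgroup G, Max p X → ∀ R : Subgroup G, R ≤ X → IsPGroup p R → Q < R → K = X := by
    intro X hX R hRX hR hQR
    by_contra hKX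
    obtain ⟨y, hyR, hyQ⟩ : ∃ y ∈ R ⊓ normalizer (Q : Set G), y ∉ Q := by
      haveI : Group.IsNilpotent ↥R := hR.isNilpotent
      have hlt : Q.subgroupOf R < normalizer ((Q.subgroupOf R : Subgroup ↥R) : Set ↥R) :=
        Group.normalizerCondition_of_isNilpotent _ (lt_top_iff_ne_top.2 fun h =>
          hQR.not_ge (subgroupOf_eq_top.1 h))
      obtain ⟨y, hy, hyn⟩ := SetLike.exists_of_lt hlt
      refine ⟨y, ⟨y.2, mem_normalizer_iff.2 fun x => ?_⟩, fun h => hyn h⟩
      constructor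
      · intro hx; exact (mem_normalizer_iff.1 hy ⟨x, hQR.le hx⟩).1 hx
      · intro hx
        have hxR : x ∈ R := by
          have := mul_mem (mul_mem (inv_mem y.2) (hQR.le hx)) y.2
          simpa [mul_assoc] using this
        exact (mem_normalizer_iff.1 hy ⟨x, hxR⟩).2 hx
    set R' := R ⊓ normalizer (Q : Set G)
    have hQR' : Q < R' := lt_of_le_of_ne (le_inf hQR.le le_normalizer) fun h => hyQ (h.symm ▸ hyR)
    have hR'le : R' ≤ X ⊓ K := le_inf (inf_le_left.trans hRX) (inf_le_right.trans hNK)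
    obtain ⟨k, hk⟩ := (IsPGroup.iff_card.1 (hR.to_le (inf_le_left : R' ≤ R)))
    have h1 : (Nat.card ↥(M ⊓ L)).factorization p < k := by
      have := Set.ncard_lt_ncard (SetLike.coe_ssubset_coe.2 hQR') (Set.toFinite _)
      rw [← Nat.card_coe_set_eq, ← Nat.card_coe_set_eq] at this
      change Nat.card Q < Nat.card R' at this
      rw [hQc, hk] at this
      exact (Nat.pow_lt_pow_iff_right hppr.one_lt).1 this
    have hdvd : p ^ k ∣ Nat.card ↥(X ⊓ K) := hk ▸ card_dvd_of_le hR'le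
    have h2 := hmax (X, K) (by
      simpa [S] using ⟨hX, hK, Ne.symm hKX,
        (dvd_pow_self p (by omega)).trans hdvd⟩)
    have h3 := (hppr.pow_dvd_iff_le_factorization Nat.card_pos.ne').1 hdvd
    simp only at h2
    omega
  -- `Q` absorbs the core of a member in which it is a maximal p-subgroup
  have core : ∀ X : Subgroup G, Q ≤ X → (∀ R : Subgroup G, R ≤ X → IsPGroup p R → ¬ Q < R) →
      opc p X ≤ Q := by
    intro X hQX hmaxQ
    have hsup : IsPGroup p (Q ⊔ opc p X : Subgroup G) :=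
      hQp.to_sup_of_normal_right' (isPGroup_opc X) (hQX.trans (le_normalizer_opc X))
    rcases (le_sup_left : Q ≤ Q ⊔ opc p X).eq_or_lt with h | h
    · exact le_sup_right.trans h.ge
    · exact absurd h (hmaxQ _ (sup_le hQX (opc_le X)) hsup)
  have conjCase : ∀ X Y : Subgroup G, Max p X → Q ≤ X → Q ≤ Y →
      (∀ R : Subgroup G, R ≤ X → IsPGroup p R → ¬ Q < R) →
      ∀ R : Subgroup G, R ≤ Y → IsPGroup p R → Q < R →
      ∃ M₁ M₂ : Subgroup G, Max p M₁ ∧ Max p M₂ ∧ M₁ ≠ M₂ ∧ opc p M₁ ≤ M₂ ∧ opc p M₂ ≤ M₁ := by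
    intro X Y hX hQX _hQY hmaxQ R _hRY hR hQR
    haveI : Group.IsNilpotent ↥R := hR.isNilpotent
    have hlt : Q.subgroupOf R < normalizer ((Q.subgroupOf R : Subgroup ↥R) : Set ↥R) :=
      Group.normalizerCondition_of_isNilpotent _ (lt_top_iff_ne_top.2 fun h => hQR.not_ge (subgroupOf_eq_top.1 h))
    obtain ⟨x, hx, hxn⟩ := SetLike.exists_of_lt hlt
    have hxX : (x : G) ∉ X := fun hxX => by
      refine hmaxQ (R ⊓ X) inf_le_right (hR.to_le inf_le_left)
        (lt_of_le_of_ne (le_inf hQR.le hQX) fun h => hxn ?_)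
      show (x : G) ∈ Q
      rw [h]; exact ⟨x.2, hxX⟩
    have hQmap : Q.map (MulAut.conj (x : G)).toMonoidHom = Q := by
      refine eq_of_le_of_card_ge ?_ (card_map_of_injective (MulAut.conj (x : G)).injective).ge
      rintro _ ⟨q, hq, rfl⟩
      exact (mem_normalizer_iff.1 hx ⟨q, hQR.le hq⟩).1 hq
    refine ⟨X, X.map (MulAut.conj (x : G)).toMonoidHom, hX, max_conj hX _,
      fun h => hxX (mem_of_map_eq hX h.symm), (core X hQX hmaxQ).trans (hQmap ▸ map_mono hQX), ?_⟩
    rw [opc_map]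
    exact ((map_mono (core X hQX hmaxQ)).trans hQmap.le).trans hQX
  by_cases hmM : ∀ R : Subgroup G, R ≤ M → IsPGroup p R → ¬ Q < R
  · by_cases hmL : ∀ R : Subgroup G, R ≤ L → IsPGroup p R → ¬ Q < R
    · exact ⟨M, L, hM, hL, hne, (core M (hQle.trans inf_le_left) hmM).trans (hQle.trans inf_le_right),
        (core L (hQle.trans inf_le_right) hmL).trans (hQle.trans inf_le_left)⟩
    · push Not at hmL
      obtain ⟨R, hR1, hR2, hR3⟩ := hmL
      exact conjCase M L hM (hQle.trans inf_le_left) (hQle.trans inf_le_right) hmM R hR1 hR2 hR3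
  · push Not at hmM
    obtain ⟨R, hR1, hR2, hR3⟩ := hmM
    by_cases hmL : ∀ R : Subgroup G, R ≤ L → IsPGroup p R → ¬ Q < R
    · exact conjCase L M hL (hQle.trans inf_le_right) (hQle.trans inf_le_left) hmL R hR1 hR2 hR3
    · push Not at hmL
      obtain ⟨R', hR1', hR2', hR3'⟩ := hmL
      exact absurd ((big M hM R hR1 hR2 hR3).symm.trans (big L hL R' hR1' hR2' hR3')) hne

end CfsgLib.BlockApps.PrimitivePair
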