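import Cfsg.Agent.Lib.Blocks.ThirdMain
import Cfsg.Agent.Lib.Blocks.PrincipalExtension
import Cfsg.Agent.Lib.Blocks.PSolvableFong

/-!
# Characters of `p'`-degree in the principal block over an extendible character
-/

set_option autoImplicit false
set_option linter.unusedSectionVars false
set_option linter.style.haveILetI false

namespace CfsgLib.BlockApps

open Cfsg CfsgLib.Chars CfsgLib.Blocks

universe u

variable {G : Type u} [Group G] [Fintype G] {M : Ideal AlgInt} [M.IsPrime] {p : ℕ} [Fact p.Prime]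

/-- A nontrivial character of a `p'`-quotient by a central Sylow is outside the principal block. -/
theorem eq_principal_of_mem {H : Type u} [Group H] [Fintype H] (hpM : (p : AlgInt) ∈ M)
    {K : Subgroup H} [K.Normal] (hK : ¬ p ∣ K.index)
    (hc : ∀ x : H, ¬ p ∣ (Subgroup.centralizer ({x} : Set H)).index)
    {ξ : IrrCharacter H} (hξ : ξ ∈ principalBlock M H)
    (hker : ∀ k ∈ K, (ξ : H → ℂ) k = (ξ : H → ℂ) 1) : ξ = principal H := by
  classical
  by_contra hne
  haveI := Fintype.ofFinite (H ⧸ K)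
  obtain ⟨ψ, hψ, hξe⟩ := exists_deflate_irr K ξ.2 hker
  have hne' : (⟨ψ, hψ⟩ : IrrCharacter (H ⧸ K)) ≠ principal (H ⧸ K) := fun h => hne (Subtype.ext (by
    rw [hξe]
    funext x
    exact congrFun (congrArg Subtype.val h) _))
  have h0 := inner_irr_ne hne'
  rw [inner_def, mul_eq_zero, or_iff_right (inv_ne_zero (card_ne_zero (H ⧸ K)))] at h0
  simp only [principal_apply, map_one, mul_one] at h0
  have h1 : MemLocalIdeal M (∑ q : H ⧸ K, (ψ q / ψ 1 - 1)) := by
    refine MemLocalIdeal.sum' fun q _ => ?_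
    obtain ⟨x, rfl⟩ := QuotientGroup.mk_surjective q
    have := PrincExt.ratio_of_mem hpM hξ (hc x)
    rw [hξe] at this
    simpa using this
  rw [Finset.sum_sub_distrib, ← Finset.sum_div, h0, zero_div, zero_sub, Finset.sum_const,
    nsmul_one, Finset.card_univ, ← Nat.card_eq_fintype_card, ← Subgroup.index_eq_card] at h1
  have h2 := MemLocalIdeal.neg' h1
  rw [neg_neg, memLocalIdeal_natCast_iff Fact.out hpM] at h2
  exact hK h2

/-- The centre of a Sylow subgroup is a central Sylow subgroup of the centralizer. -/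
theorem not_dvd_index_inf_centralizer (P : Sylow p G) :
    ¬ p ∣ ((P : Subgroup G).subgroupOf (Subgroup.centralizer ((P : Subgroup G) : Set G))).index := by
  set H := Subgroup.centralizer ((P : Subgroup G) : Set G) with hH
  obtain ⟨S, hS⟩ := (IsPGroup.of_injective (P.2.to_le inf_le_left)
    ((MonoidHom.codRestrict ((H.subtype).comp ((P : Subgroup G).subgroupOf H).subtype)
      ((P : Subgroup G) ⊓ H) fun x => ⟨x.2, x.1.2⟩)) (fun a b h => Subtype.ext (Subtype.ext
        (congrArg (fun z : ↥((P : Subgroup G) ⊓ H) => (z : G)) h)))).exists_le_sylow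
  have hSP : (S : Subgroup H) ≤ (P : Subgroup G).subgroupOf H := by
    intro s hs
    have hn : (S : Subgroup H).map H.subtype ≤ Subgroup.normalizer ((P : Subgroup G) : Set G) := by
      rintro _ ⟨h, -, rfl⟩
      exact Subgroup.centralizer_le_normalizer _ h.2
    have hp' := (S.2.map H.subtype).to_sup_of_normal_right' P.2 hn
    have he : (S : Subgroup H).map H.subtype ⊔ (P : Subgroup G) = P :=
      P.3 hp' le_sup_right
    exact Subgroup.mem_subgroupOf.2 (he ▸ Subgroup.mem_sup_left ⟨s, hs, rfl⟩)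
  rw [le_antisymm hS hSP]
  exact S.not_dvd_index

open scoped Classical in
/-- The principal block idempotent has nonzero sum on a normal subgroup meeting `C(P)`. -/
theorem sum_centralizer_normal (hpM : (p : AlgInt) ∈ M) (P : Sylow p G)
    (N : Subgroup G) [N.Normal] :
    ¬ MemLocalIdeal M (∑ g : G, if g ∈ N ⊓ Subgroup.centralizer ((P : Subgroup G) : Set G)
      then blockCoeff (principalBlock M G) g else 0) := by
  classical
  haveI := charP_resField (M := M) (Fact.out (p := p.Prime)) hpM
  set H := Subgroup.centralizer ((P : Subgroup G) : Set G) with hH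
  haveI : Fintype H := Fintype.ofFinite _
  haveI := irrFintype H
  set Z := (P : Subgroup G).subgroupOf H with hZ
  have hZc : Z ≤ Subgroup.center H := fun z hz => Subgroup.mem_center_iff.2 fun h => Subtype.ext
    ((Subgroup.mem_centralizer_iff.1 h.2 z (Subgroup.mem_subgroupOf.1 hz)).symm)
  haveI : Z.Normal := ⟨fun z hz g => by
    rw [Subgroup.mem_center_iff.1 (hZc hz) g, mul_inv_cancel_right]; exact hz⟩
  have hZi := not_dvd_index_inf_centralizer (p := p) P
  set K := Z ⊔ N.subgroupOf H with hK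
  haveI : K.Normal := Subgroup.sup_normal _ _
  haveI : Fintype (H ⧸ K) := Fintype.ofFinite _
  haveI := irrFintype (H ⧸ K)
  have hKi : ¬ p ∣ K.index := fun hd => hZi (hd.trans (Subgroup.index_dvd_of_le le_sup_left))
  have hHc : ∀ x : H, ¬ p ∣ (Subgroup.centralizer ({x} : Set H)).index := fun x hd => by
    refine hZi (hd.trans (Subgroup.index_dvd_of_le fun z hz => ?_))
    exact Subgroup.mem_centralizer_singleton_iff.2 (Subgroup.mem_center_iff.1 (hZc hz) x).symm
  set c := blockCoeff (principalBlock M G) with hc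
  have hB := isPBlock_principalBlock (G := G) M
  have hloc : IsLocClassFun M (resFun H c) :=
    ⟨isClassFunction_resFun_of_inv fun u _ g => isClassFunction_blockCoeff _ g u,
      fun h => blockCoeff_mem_loc hB _⟩
  -- the values of the central characters
  have hone : MemLocalIdeal M (omega ((principal H : IrrCharacter H) : H → ℂ) (resFun H c) - 1) := by
    have := (isBrauerPairOf_principalPair (G := G) hpM P.2).2.2 (principal H)
      (principal_mem_principalBlock M)
    rwa [brauerOmega_eq] at this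
  have hzero : ∀ ξ : IrrCharacter H, ξ ∉ principalBlock M H →
      MemLocalIdeal M (omega (ξ : H → ℂ) (resFun H c)) := by
    intro ξ hξ
    have hid : cut (H : Set G) (redFun c (blockCoeff_mem_loc hB)) *
        cut (H : Set G) (redFun c (blockCoeff_mem_loc hB)) =
        cut (H : Set G) (redFun c (blockCoeff_mem_loc hB)) := by
      have hfix := isFixedBy_blockIdem hB (P : Subgroup G)
      have h2 := blockIdem_mul_self hB
      rw [blockIdem] at hfix h2
      rw [← cut_mul p P.2 hfix hfix, h2]
    rcases pairIdem_mul_dichotomy (isPBlock_blockOf ξ) (blockCoeff_mem_loc hB) hloc.1 hid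
        (mem_blockOf_self ξ) with ⟨h1, -⟩ | ⟨h1, -⟩
    · exfalso
      apply hξ
      have hpair : IsBrauerPairOf p M (principalBlock M G) (P : Subgroup G)
          (blockOf M (ξ : H → ℂ)) := by
        refine ⟨⟨P.2, isPBlock_blockOf ξ⟩, hB, fun η hη => ?_⟩
        rw [brauerOmega_eq]
        exact (omega_one_congr_iff (isPBlock_blockOf ξ) hloc (mem_blockOf_self ξ) hη).1 h1
      rw [← third_main hpM hpair]
      exact mem_blockOf_self ξ
    · exact h1
  -- the regular character of `H ⧸ K`
  let inf' : IrrCharacter (H ⧸ K) → IrrCharacter H := fun ψ =>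
    ⟨fun h => (ψ : H ⧸ K → ℂ) h, isIrrCharacter_inflate K ψ.2⟩
  have hinf : ∀ ψ, ψ ≠ principal (H ⧸ K) → inf' ψ ∉ principalBlock M H := by
    intro ψ hψ hmem
    refine hψ (Subtype.ext (inflate_injective K (congrArg Subtype.val
      (eq_principal_of_mem hpM hKi hHc hmem fun k hk => ?_))))
    show (ψ : H ⧸ K → ℂ) k = (ψ : H ⧸ K → ℂ) ((1 : H) : H ⧸ K)
    rw [(QuotientGroup.eq_one_iff k).2 hk, QuotientGroup.mk_one]
  have hsum : MemLocalIdeal M ((∑ ψ : IrrCharacter (H ⧸ K),
      (ψ : H ⧸ K → ℂ) 1 * (ψ : H ⧸ K → ℂ) 1 * omega (inf' ψ : H → ℂ) (resFun H c)) - 1) := by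
    rw [← Finset.add_sum_erase _ _ (Finset.mem_univ (principal (H ⧸ K))), add_sub_right_comm]
    refine MemLocalIdeal.add' ?_ (MemLocalIdeal.sum' fun ψ hψ => ?_)
    · rw [principal_apply, one_mul, one_mul]
      exact hone
    · exact MemLocalIdeal.mul_left' (mul_mem (irr_mem_loc ψ 1) (irr_mem_loc ψ 1))
        (hzero _ (hinf ψ (Finset.ne_of_mem_erase hψ)))
  have hval : ∑ ψ : IrrCharacter (H ⧸ K),
      (ψ : H ⧸ K → ℂ) 1 * (ψ : H ⧸ K → ℂ) 1 * omega (inf' ψ : H → ℂ) (resFun H c) =
        (K.index : ℂ) * ∑ g : G, if g ∈ N ⊓ H then c g else 0 := by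
    have e : ∀ ψ : IrrCharacter (H ⧸ K),
        (ψ : H ⧸ K → ℂ) 1 * (ψ : H ⧸ K → ℂ) 1 * omega (inf' ψ : H → ℂ) (resFun H c) =
        ∑ h : H, c h * ((ψ : H ⧸ K → ℂ) 1 * (ψ : H ⧸ K → ℂ) h) := by
      intro ψ
      have hne := irr_degree_ne_zero ψ.2
      simp only [omega, inf', resFun, QuotientGroup.mk_one]
      rw [← mul_div_assoc, mul_assoc, mul_comm ((ψ : H ⧸ K → ℂ) 1) (∑ _ : H, _), ← mul_assoc,
        mul_div_assoc, div_self hne, mul_one, Finset.mul_sum]
      exact Finset.sum_congr rfl fun h _ => by ring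
    simp only [e]
    rw [Finset.sum_comm]
    simp only [← Finset.mul_sum, sum_degree_mul]
    rw [← Finset.sum_subset (Finset.subset_univ (Finset.univ.filter fun g => g ∈ N ⊓ H))
        (f := fun g => if g ∈ N ⊓ H then c g else 0) fun g _ hg => if_neg (by simpa using hg)]
    rw [Finset.sum_congr rfl (g := c) fun g hg => if_pos (Finset.mem_filter.1 hg).2]
    rw [Finset.mul_sum, ← Finset.sum_subset (Finset.subset_univ
      (Finset.univ.filter fun h : H => (h : G) ∈ N)) fun h _ hh => ?_]
    · refine Finset.sum_bij (fun h _ => (h : G)) ?_ ?_ ?_ ?_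
      · intro h hh; simp [(Finset.mem_filter.1 hh).2, h.2]
      · intro a _ b _ hab; exact Subtype.ext hab
      · intro g hg
        obtain ⟨hgN, hgH⟩ := Subgroup.mem_inf.1 (Finset.mem_filter.1 hg).2
        exact ⟨⟨g, hgH⟩, by simp [hgN], rfl⟩
      · intro h hh
        rw [if_pos ((QuotientGroup.eq_one_iff h).2
          (Subgroup.mem_sup_right (Finset.mem_filter.1 hh).2)), ← Subgroup.index_eq_card]
        ring
    · simp only [Finset.mem_filter, Finset.mem_univ, true_and] at hh
      by_cases hk : h ∈ K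
      · rw [hc, blockCoeff_eq_zero_of_dvd Fact.out hpM hB ?_, zero_mul]
        by_contra hreg
        apply hh
        rw [hK, ← SetLike.mem_coe, Subgroup.normal_mul] at hk
        obtain ⟨z, hz, n, hn, rfl⟩ := hk
        obtain ⟨k, hk⟩ := IsPGroup.iff_card.1 P.2
        have hcomm : Commute z n := (Subgroup.mem_center_iff.1 (hZc hz) n).symm
        have hzk : z ^ p ^ k = 1 := Subtype.ext (by
          rw [← hk]
          push_cast
          exact orderOf_dvd_iff_pow_eq_one.1
            (Subgroup.orderOf_dvd_natCard _ (Subgroup.mem_subgroupOf.1 hz)))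
        have hmem : (z * n) ^ p ^ k ∈ N.subgroupOf H := by
          rw [hcomm.mul_pow, hzk, one_mul]; exact Subgroup.pow_mem _ hn _
        rw [Subgroup.orderOf_coe] at hreg
        obtain ⟨m, hm⟩ := exists_pow_eq_self_of_coprime (x := z * n) (n := p ^ k)
          (Nat.Coprime.pow_left k ((Fact.out : p.Prime).coprime_iff_not_dvd.2 hreg))
        show z * n ∈ N.subgroupOf H
        rw [← hm]; exact Subgroup.pow_mem _ hmem m
      · rw [if_neg (mt (QuotientGroup.eq_one_iff h).1 hk), mul_zero]
  intro hcon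
  rw [hval] at hsum
  refine (not_memLocalIdeal_one (M := M)) ?_
  have := MemLocalIdeal.sub' (MemLocalIdeal.mul_left' (natCast_mem_loc K.index) hcon) hsum
  rwa [sub_sub_cancel] at this

/-- A Sylow subgroup meets a normal subgroup in a subgroup of `p'`-index. -/
theorem not_dvd_index_inf_subgroupOf (N : Subgroup G) [N.Normal] (Q : Sylow p G) :
    ¬ p ∣ ((Q : Subgroup G).subgroupOf N).index := by
  obtain ⟨S, hS⟩ := (Q.2.comap_subtype (K := N)).exists_le_sylow
  obtain ⟨R, hR⟩ := (S.2.map N.subtype).exists_le_sylow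
  obtain ⟨g, hg⟩ := MulAction.exists_smul_eq G Q R
  have hle : (S : Subgroup N).map N.subtype ≤ (R : Subgroup G) ⊓ N := le_inf hR (Subgroup.map_subtype_le _)
  have h1 : Nat.card ↥((R : Subgroup G) ⊓ N) = Nat.card ↥((Q : Subgroup G) ⊓ N) := by
    have e : ((Q : Subgroup G) ⊓ N).map (MulAut.conj g).toMonoidHom = (R : Subgroup G) ⊓ N := by
      have hN : N.map (MulAut.conj g).toMonoidHom = N :=
        Subgroup.normal_iff_map_conj_eq.1 inferInstance g
      rw [Subgroup.map_inf _ _ _ (MulAut.conj g).injective, hN, ← hg]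
      rfl
    rw [← e, Subgroup.card_map_of_injective (MulAut.conj g).injective]
  have h2 : Nat.card ((Q : Subgroup G).subgroupOf N) = Nat.card ↥((Q : Subgroup G) ⊓ N) := by
    rw [← Subgroup.card_map_of_injective N.subtype_injective, Subgroup.subgroupOf_map_subtype]
  have h3 : Nat.card (S : Subgroup N) ≤ Nat.card ((Q : Subgroup G).subgroupOf N) := by
    rw [h2, ← h1, Nat.card_congr
      ((S : Subgroup N).equivMapOfInjective N.subtype N.subtype_injective).toEquiv]
    exact Subgroup.card_le_of_le hle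
  rw [show (Q : Subgroup G).subgroupOf N = S from Subgroup.eq_of_le_of_card_ge hS h3]
  exact S.not_dvd_index

/-- Values of the induced extension at `p`-regular elements of `C(P)`. -/
theorem indFun_ext_value (hpM : (p : AlgInt) ∈ M) (N : Subgroup G) [N.Normal] [Fintype N]
    (P : Sylow p G) (L : Subgroup G) [Fintype L] (hNL : N ≤ L) (hPL : (P : Subgroup G) ≤ L)
    (hidx : ∀ y ∈ L, ¬ p ∣ orderOf y → y ∈ N) (η : IrrCharacter L) {θ : IrrCharacter N}
    (hθ : θ ∈ principalBlock M N)
    (hext : ∀ n : N, (η : L → ℂ) (Subgroup.inclusion hNL n) = (θ : N → ℂ) n) :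
    ∃ k : ℕ, ¬ p ∣ k ∧ ∀ g ∈ Subgroup.centralizer ((P : Subgroup G) : Set G),
      ¬ p ∣ orderOf g →
        (g ∈ N → MemLocalIdeal M (indFun L (η : L → ℂ) g - k * (θ : N → ℂ) 1)) ∧
        (g ∉ N → indFun L (η : L → ℂ) g = 0) := by
  classical
  haveI := charP_resField (M := M) (Fact.out (p := p.Prime)) hpM
  haveI := Fintype.ofFinite (G ⧸ L)
  set f : G → ℂ := extendByZero L (η : L → ℂ) with hf
  have hfL : ∀ (h : L) (y : G), f ((h : G)⁻¹ * y * h) = f y := by
    intro h y
    by_cases hy : y ∈ L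
    · rw [hf, extendByZero_of_mem L _ (L.mul_mem (L.mul_mem (L.inv_mem h.2) hy) h.2),
        extendByZero_of_mem L _ hy]
      exact (congrArg _ (Subtype.ext (by simp))).trans (isClassFunction_irr η ⟨y, hy⟩ h⁻¹)
    · rw [hf, extendByZero_of_not_mem L _ hy, extendByZero_of_not_mem L]
      intro hm
      refine hy ?_
      have := L.mul_mem (L.mul_mem h.2 hm) (L.inv_mem h.2)
      simpa [mul_assoc] using this
  have hsum : ∀ g, indFun L (η : L → ℂ) g = ∑ q : G ⧸ L, f (q.out⁻¹ * g * q.out) := by
    intro g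
    have e : ∑ y : G, f (y⁻¹ * g * y) =
        (Nat.card L : ℂ) * ∑ q : G ⧸ L, f (q.out⁻¹ * g * q.out) := by
      rw [← Finset.sum_fiberwise (g := fun y : G => (y : G ⧸ L)), Finset.mul_sum]
      refine Finset.sum_congr rfl fun q _ => ?_
      rw [Finset.sum_congr rfl (g := fun _ => f (q.out⁻¹ * g * q.out)) fun y hy => ?_,
        Finset.sum_const, nsmul_eq_mul]
      · congr 2
        refine ((Finset.card_bij' (fun y _ => q.out⁻¹ * y) (fun l _ => q.out * l)
          (t := Finset.univ.filter (· ∈ L)) ?_ ?_ (fun y _ => by simp) (fun l _ => by simp))).trans ?_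
        · intro y hy
          simp only [Finset.mem_filter, Finset.mem_univ, true_and] at hy ⊢
          rw [← QuotientGroup.eq, QuotientGroup.out_eq', hy]
        · intro l hl
          simp only [Finset.mem_filter, Finset.mem_univ, true_and] at hl ⊢
          rw [← QuotientGroup.out_eq' q, QuotientGroup.eq]
          simpa using L.inv_mem hl
        · rw [Nat.card_eq_fintype_card, Fintype.card_subtype]
      · have hm : q.out⁻¹ * y ∈ L := by
          rw [← QuotientGroup.eq, QuotientGroup.out_eq']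
          exact ((Finset.mem_filter.1 hy).2).symm
        have := hfL ⟨_, hm⟩ (q.out⁻¹ * g * q.out)
        simpa [mul_assoc] using this
    rw [indFun, ← hf, e, ← mul_assoc, inv_mul_cancel₀ (Nat.cast_ne_zero.2 Nat.card_pos.ne'),
      one_mul]
  set W := Finset.univ.filter (fun q : G ⧸ L => q ∈ MulAction.fixedPoints (P : Subgroup G) (G ⧸ L))
    with hW
  refine ⟨W.card, fun hd => ?_, fun g hg hreg => ⟨fun hgN => ?_, fun hgN => ?_⟩⟩
  · have h := P.2.card_modEq_card_fixedPoints (G ⧸ L)
    rw [show Nat.card (MulAction.fixedPoints (P : Subgroup G) (G ⧸ L)) = W.card by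
      rw [Nat.card_eq_fintype_card, Fintype.card_of_subtype W (fun q => by simp [hW])]] at h
    rw [← Subgroup.index_eq_card] at h
    refine P.not_dvd_index (Nat.dvd_trans ?_ (Subgroup.index_dvd_of_le hPL))
    exact Nat.modEq_zero_iff_dvd.1 (h.trans (Nat.modEq_zero_iff_dvd.2 hd))
  · rw [hsum]
    have hFint : ∀ q : G ⧸ L, f (q.out⁻¹ * g * q.out) ∈ loc M := fun q => by
      by_cases hm : q.out⁻¹ * g * q.out ∈ L
      · rw [hf, extendByZero_of_mem L _ hm]; exact irr_mem_loc η _
      · rw [hf, extendByZero_of_not_mem L _ hm]; exact zero_mem _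
    let F : G ⧸ L → ResField M := fun q => red ⟨_, hFint q⟩
    have hinv : ∀ (u : (P : Subgroup G)) (q : G ⧸ L), F (u • q) = F q := by
      intro u q
      refine congrArg red (Subtype.ext ?_)
      show f ((u • q).out⁻¹ * g * (u • q).out) = f (q.out⁻¹ * g * q.out)
      have e1 : (((u : G) * q.out : G) : G ⧸ L) = u • q := by
        conv_rhs => rw [← QuotientGroup.out_eq' q]
        rfl
      have hm : ((u : G) * q.out)⁻¹ * (u • q).out ∈ L := by
        rw [← QuotientGroup.eq, QuotientGroup.out_eq', e1]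
      have hc : (u : G)⁻¹ * g * u = g := by
        rw [mul_assoc, ← Subgroup.mem_centralizer_iff.1 hg u u.2, inv_mul_cancel_left]
      have := hfL ⟨_, hm⟩ (((u : G) * q.out)⁻¹ * g * ((u : G) * q.out))
      have e2 : ((u : G) * q.out)⁻¹ * g * ((u : G) * q.out) = q.out⁻¹ * g * q.out := by
        conv_rhs => rw [← hc]
        group
      rw [e2] at this
      rw [← this]
      congr 1
      have hc' : g = (u : G) * g * (u : G)⁻¹ := by
        rw [Subgroup.mem_centralizer_iff.1 hg u u.2, mul_inv_cancel_right]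
      conv_lhs => rw [hc']
      group
    have h1 := sum_eq_sum_fixedPoints p P.2 F hinv
    have h2 : MemLocalIdeal M ((∑ q : G ⧸ L, f (q.out⁻¹ * g * q.out)) - ∑ q ∈ W, f ((q : G ⧸ L).out⁻¹ * g * (q : G ⧸ L).out)) := by
      have h3 : red ((∑ q, (⟨_, hFint q⟩ : loc M)) - ∑ q ∈ W, (⟨_, hFint q⟩ : loc M)) = 0 := by
        rw [map_sub, map_sum, map_sum, sub_eq_zero]
        exact h1
      simpa using red_eq_zero_iff.1 h3
    have h4 : MemLocalIdeal M (∑ q ∈ W, (f ((q : G ⧸ L).out⁻¹ * g * (q : G ⧸ L).out) - (θ : N → ℂ) 1)) := by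
      refine MemLocalIdeal.sum' fun q hq => ?_
      have hn : q.out⁻¹ * g * q.out ∈ N := by
        have := Subgroup.Normal.conj_mem (inferInstance : N.Normal) g hgN q.out⁻¹
        simpa using this
      set y : N := ⟨_, hn⟩ with hy
      rw [show f (q.out⁻¹ * g * q.out) = (θ : N → ℂ) y by
        rw [hf, extendByZero_of_mem L _ (hNL hn), ← hext y]; rfl]
      have hc : ¬ p ∣ (Subgroup.centralizer ({y} : Set N)).index := by
        refine fun hd => not_dvd_index_inf_subgroupOf N (q.out⁻¹ • P) (hd.trans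
          (Subgroup.index_dvd_of_le fun z hz => Subgroup.mem_centralizer_singleton_iff.2
            (Subtype.ext ?_)))
        obtain ⟨u, hu, hzu⟩ := Subgroup.mem_subgroupOf.1 hz
        show (z : G) * (q.out⁻¹ * g * q.out) = (q.out⁻¹ * g * q.out) * (z : G)
        rw [← hzu]
        show (q.out⁻¹ * u * q.out⁻¹⁻¹) * (q.out⁻¹ * g * q.out) =
          (q.out⁻¹ * g * q.out) * (q.out⁻¹ * u * q.out⁻¹⁻¹)
        simp only [inv_inv, mul_assoc, mul_inv_cancel_left]
        rw [← mul_assoc u g, Subgroup.mem_centralizer_iff.1 hg u hu, mul_assoc]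
      have h5 := PrincExt.ratio_of_mem hpM hθ hc
      have h6 := MemLocalIdeal.mul_left' (irr_mem_loc (M := M) θ 1) h5
      rwa [mul_sub, mul_one, mul_div_cancel₀ _ (irr_degree_ne_zero θ.2)] at h6
    rw [Finset.sum_sub_distrib, Finset.sum_const, nsmul_eq_mul] at h4
    have := MemLocalIdeal.add' h2 h4
    rwa [sub_add_sub_cancel] at this
  · rw [hsum]
    refine Finset.sum_eq_zero fun q _ => ?_
    rw [hf, extendByZero_of_not_mem L]
    intro hm
    refine hgN ?_
    have hn := hidx _ hm (by
      rwa [show orderOf (q.out⁻¹ * g * q.out) = orderOf g by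
        simpa using (SemiconjBy.conj_mk q.out⁻¹ g).orderOf_eq.symm])
    simpa [mul_assoc] using Subgroup.Normal.conj_mem (inferInstance : N.Normal) _ hn q.out

end CfsgLib.BlockApps
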