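import Mathlib

/-!
# Sylow subgroups of symmetric and alternating groups are generated by elements of order `p`
-/

set_option autoImplicit false

open Equiv Equiv.Perm Pointwise

namespace CfsgLib.BlockApps.SylowSymGen

variable {p : ℕ} [Fact p.Prime]

theorem pow_mem_commutator_of_closure {P : Type*} [Group P] (n : ℕ)
    (h : Subgroup.closure {g : P | g ^ n = 1} = ⊤) (x : P) : x ^ n ∈ _root_.commutator P := by
  rw [← Abelianization.ker_of, MonoidHom.mem_ker, map_pow]
  have h1 : Subgroup.closure {g : P | g ^ n = 1} ≤ ((powMonoidHom n).comp Abelianization.of).ker := by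
    rw [Subgroup.closure_le]
    intro g hg
    rw [SetLike.mem_coe, MonoidHom.mem_ker, MonoidHom.comp_apply, powMonoidHom_apply, ← map_pow,
      show g ^ n = 1 from hg, map_one]
  exact h1 (h ▸ Subgroup.mem_top x)

theorem pow_mem_commutator_of_le {G : Type*} [Group G] (n : ℕ) (W : Subgroup G)
    (h : W ≤ Subgroup.closure {g | g ∈ W ∧ g ^ n = 1}) (x : W) : x ^ n ∈ _root_.commutator W := by
  refine pow_mem_commutator_of_closure n ?_ x
  apply Subgroup.map_injective W.subtype_injective
  rw [MonoidHom.map_closure, ← MonoidHom.range_eq_map, Subgroup.range_subtype]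
  refine le_antisymm ((Subgroup.closure_le W).2 ?_) (h.trans (Subgroup.closure_mono ?_))
  · rintro _ ⟨g, -, rfl⟩; exact g.2
  · rintro g ⟨hg, hgn⟩; exact ⟨⟨g, hg⟩, Subtype.ext hgn, rfl⟩

theorem pow_mem_commutator_of_equiv {A B : Type*} [Group A] [Group B] (e : A ≃* B) (n : ℕ)
    (h : ∀ a : A, a ^ n ∈ _root_.commutator A) (b : B) : b ^ n ∈ _root_.commutator B := by
  have h1 := h (e.symm b)
  rw [← Abelianization.ker_of, MonoidHom.mem_ker] at h1 ⊢
  have h2 := congrArg (Abelianization.map e.toMonoidHom) h1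
  rw [Abelianization.map_of, map_one] at h2
  simpa using h2

/-- The model set: `m` blocks of `p` points and `r` further points. -/
abbrev Pt (m p r : ℕ) : Type := (Fin m × ZMod p) ⊕ Fin r

/-- Translations inside the blocks. -/
def base (m r : ℕ) : Multiplicative (Fin m → ZMod p) →* Perm (Pt m p r) where
  toFun f := Equiv.sumCongr (Equiv.prodCongrRight fun i => Equiv.addLeft (Multiplicative.toAdd f i)) 1
  map_one' := by ext x; rcases x with ⟨i, a⟩ | j <;> simp
  map_mul' f g := by ext x; rcases x with ⟨i, a⟩ | j <;> simp [add_assoc]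

/-- Permutations of the blocks. -/
def lift (m r : ℕ) : Perm (Fin m) →* Perm (Pt m p r) where
  toFun π := Equiv.sumCongr (Equiv.prodCongrLeft fun _ => π) 1
  map_one' := by ext x; rcases x with ⟨i, a⟩ | j <;> simp
  map_mul' f g := by ext x; rcases x with ⟨i, a⟩ | j <;> simp

theorem lift_mul_base (m r : ℕ) (π : Perm (Fin m)) (f : Multiplicative (Fin m → ZMod p)) :
    lift m r π * base m r f * (lift m r π)⁻¹ =
      base m r (Multiplicative.ofAdd fun i => Multiplicative.toAdd f (π⁻¹ i)) := by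
  rw [mul_inv_eq_iff_eq_mul]
  ext x
  rcases x with ⟨i, a⟩ | j <;> simp [lift, base]

theorem sign_lift (m r : ℕ) (π : Perm (Fin m)) {k : ℕ} (hπ : π ^ p ^ k = 1) :
    sign (lift (p := p) m r π) = 1 := by
  have hp := (Fact.out : p.Prime)
  have h1 : sign (lift (p := p) m r π) = sign π ^ p := by
    show sign (Equiv.sumCongr (Equiv.prodCongrLeft fun _ : ZMod p => π) 1) = _
    rw [sign_sumCongr, map_one, mul_one, sign_prodCongrLeft, Finset.prod_const, Finset.card_univ,
      ZMod.card]
  rw [h1]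
  rcases hp.eq_two_or_odd' with h2 | hodd
  · subst h2; rw [sq, Int.units_mul_self]
  · have h3 : sign π ^ p ^ k = 1 := by rw [← map_pow, hπ, map_one]
    rcases Int.units_eq_one_or (sign π) with h | h
    · rw [h, one_pow]
    · rw [h, (hodd.pow).neg_one_pow] at h3
      exact absurd h3 (by decide)

/-- Properties of the constructed Sylow subgroup. -/
def Good (p : ℕ) {α : Type*} [Fintype α] [DecidableEq α] (W : Subgroup (Perm α)) : Prop :=
  IsPGroup p W ∧ p ^ padicValNat p (Fintype.card α).factorial ≤ Nat.card W ∧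
    W ≤ Subgroup.closure {g | g ∈ W ∧ g ^ p = 1} ∧
    W ⊓ alternatingGroup α ≤ Subgroup.closure {g | g ∈ W ⊓ alternatingGroup α ∧ g ^ p = 1}

theorem good_map {α β : Type*} [Fintype α] [DecidableEq α] [Fintype β] [DecidableEq β] (e : α ≃ β)
    {W : Subgroup (Perm α)} (hW : Good p W) : Good p (W.map e.permCongrHom.toMonoidHom) := by
  set φ := e.permCongrHom with hφ
  obtain ⟨h1, h2, h3, h4⟩ := hW
  have hinf : (W ⊓ alternatingGroup α).map φ.toMonoidHom =
      W.map φ.toMonoidHom ⊓ alternatingGroup β := by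
    rw [Subgroup.map_inf _ _ _ φ.injective]
    congr 1
    ext g
    constructor
    · rintro ⟨a, ha, rfl⟩
      rw [SetLike.mem_coe, mem_alternatingGroup] at ha
      rw [mem_alternatingGroup]
      exact (sign_permCongr e a).trans ha
    · intro hg
      refine ⟨φ.symm g, ?_, φ.apply_symm_apply g⟩
      rw [SetLike.mem_coe, mem_alternatingGroup]
      rw [mem_alternatingGroup, ← φ.apply_symm_apply g] at hg
      exact (sign_permCongr e _).symm.trans hg
  refine ⟨h1.map _, ?_, ?_, ?_⟩
  · rw [← Fintype.card_congr e, ← Nat.card_congr (W.equivMapOfInjective _ φ.injective).toEquiv]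
    exact h2
  · refine (Subgroup.map_mono h3).trans ?_
    rw [MonoidHom.map_closure]
    refine Subgroup.closure_mono ?_
    rintro _ ⟨g, ⟨hg, hgp⟩, rfl⟩
    exact ⟨Subgroup.mem_map_of_mem _ hg, by rw [← map_pow, hgp, map_one]⟩
  · rw [← hinf]
    refine (Subgroup.map_mono h4).trans ?_
    rw [MonoidHom.map_closure]
    refine Subgroup.closure_mono ?_
    rintro _ ⟨g, ⟨hg, hgp⟩, rfl⟩
    exact ⟨Subgroup.mem_map_of_mem _ hg, by rw [← map_pow, hgp, map_one]⟩

theorem good_step (m r : ℕ) (hr : r < p) (V : Subgroup (Perm (Fin m))) (hV : Good p V) :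
    ∃ W : Subgroup (Perm (Pt m p r)), Good p W := by
  classical
  obtain ⟨hVp, hVc, hVgen, -⟩ := hV
  have hp := (Fact.out : p.Prime)
  set B := (base (p := p) m r).range with hB
  set L := V.map (lift (p := p) m r) with hL
  have hLn : L ≤ Subgroup.normalizer (B : Set (Perm (Pt m p r))) := by
    rintro _ ⟨π, -, rfl⟩
    rw [Subgroup.mem_normalizer_iff]
    intro x
    constructor
    · rintro ⟨f, rfl⟩; exact ⟨_, (lift_mul_base m r π f).symm⟩
    · rintro ⟨f, hf⟩
      refine ⟨Multiplicative.ofAdd fun i => Multiplicative.toAdd f ((π⁻¹)⁻¹ i), ?_⟩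
      rw [← lift_mul_base, hf, map_inv]
      group
  have hbp : ∀ f : Multiplicative (Fin m → ZMod p), (base m r f) ^ p = 1 := by
    intro f
    rw [← map_pow]
    convert map_one (base (p := p) m r)
    apply Multiplicative.toAdd.injective
    funext i
    simp
  have hBp : IsPGroup p B := by
    rintro ⟨_, f, rfl⟩
    exact ⟨1, Subtype.ext (by simpa using hbp f)⟩
  refine ⟨L ⊔ B, ?_, ?_, ?_, ?_⟩
  · exact (hVp.map _).to_sup_of_normal_right' hBp hLn
  · have hmul : ∀ x : Multiplicative (Fin m → ZMod p) × V,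
        base m r x.1 * lift m r x.2.1 ∈ L ⊔ B := fun x =>
      mul_mem (Subgroup.mem_sup_right ⟨x.1, rfl⟩) (Subgroup.mem_sup_left ⟨x.2, x.2.2, rfl⟩)
    have hinj : Function.Injective (fun x => (⟨_, hmul x⟩ : ↥(L ⊔ B))) := by
      rintro ⟨f, π⟩ ⟨f', π'⟩ h
      have h' : ∀ z : Pt m p r, (base (p := p) m r f * lift (p := p) m r π.1 : Perm (Pt m p r)) z =
          (base (p := p) m r f' * lift (p := p) m r π'.1 : Perm (Pt m p r)) z := fun z =>
        congrArg (fun g : ↥(L ⊔ B) => g.1 z) h
      have hπ : π = π' := Subtype.ext (Equiv.ext fun i => by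
        have := h' (Sum.inl (i, 0))
        simp [base, lift] at this
        exact this.1)
      subst hπ
      refine Prod.ext (Multiplicative.toAdd.injective (funext fun i => ?_)) rfl
      have := h' (Sum.inl (π.1⁻¹ i, 0))
      simpa [base, lift] using this
    refine le_trans ?_ (Nat.card_le_card_of_injective _ hinj)
    have hc : Fintype.card (Pt m p r) = p * m + r := by simp [mul_comm]
    rw [hc, padicValNat_factorial_mul_add _ hr, padicValNat_factorial_mul, Nat.card_prod, pow_add,
      mul_comm (Nat.card _)]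
    gcongr
    · simpa using hVc
    · simp [Nat.card_fun]
  · refine sup_le ?_ ?_
    · rw [hL]
      refine (Subgroup.map_mono hVgen).trans ?_
      rw [MonoidHom.map_closure]
      refine Subgroup.closure_mono ?_
      rintro _ ⟨g, ⟨hg, hgp⟩, rfl⟩
      exact ⟨Subgroup.mem_sup_left (Subgroup.mem_map_of_mem _ hg), by rw [← map_pow, hgp, map_one]⟩
    · rintro _ ⟨f, rfl⟩
      exact Subgroup.subset_closure ⟨Subgroup.mem_sup_right ⟨f, rfl⟩, hbp f⟩
  · rintro w ⟨hw, hwA⟩
    replace hw : w ∈ ((L ⊔ B : Subgroup (Perm (Pt m p r))) : Set (Perm (Pt m p r))) := hw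
    rw [Subgroup.coe_mul_of_left_le_normalizer_right L B hLn] at hw
    obtain ⟨_, ⟨π, hπ, rfl⟩, _, ⟨f, rfl⟩, rfl⟩ := Set.mem_mul.1 hw
    obtain ⟨k, hk⟩ := hVp ⟨π, hπ⟩
    have hsign : ∀ g ∈ V, sign (lift (p := p) m r g) = 1 := fun g hg => by
      obtain ⟨j, hj⟩ := hVp ⟨g, hg⟩
      exact sign_lift m r g (by simpa using congrArg Subtype.val hj)
    refine mul_mem ?_ (Subgroup.subset_closure ⟨⟨Subgroup.mem_sup_right ⟨f, rfl⟩, ?_⟩, hbp f⟩)
    · have h1 := Subgroup.mem_map_of_mem (lift (p := p) m r) (hVgen hπ)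
      rw [MonoidHom.map_closure] at h1
      refine Subgroup.closure_mono ?_ h1
      rintro _ ⟨g, ⟨hg, hgp⟩, rfl⟩
      exact ⟨⟨Subgroup.mem_sup_left (Subgroup.mem_map_of_mem _ hg), mem_alternatingGroup.2 (hsign g hg)⟩,
        by rw [← map_pow, hgp, map_one]⟩
    · replace hwA : lift (p := p) m r π * base m r f ∈ alternatingGroup (Pt m p r) := hwA
      show base m r f ∈ alternatingGroup (Pt m p r)
      rw [mem_alternatingGroup] at hwA ⊢
      rwa [map_mul, hsign π hπ, one_mul] at hwA

theorem exists_good (p : ℕ) [Fact p.Prime] (n : ℕ) : ∃ W : Subgroup (Perm (Fin n)), Good p W := by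
  induction n using Nat.strong_induction_on with
  | _ n ih =>
    rcases Nat.eq_zero_or_pos n with rfl | hn
    · exact ⟨⊥, IsPGroup.of_bot, by simp, bot_le, inf_le_left.trans bot_le⟩
    · have hp := (Fact.out : p.Prime)
      obtain ⟨V, hV⟩ := ih (n / p) (Nat.div_lt_self hn hp.one_lt)
      obtain ⟨W, hW⟩ := good_step (n / p) (n % p) (Nat.mod_lt _ hp.pos) V hV
      have e : Pt (n / p) p (n % p) ≃ Fin n := Fintype.equivFinOfCardEq (by
        simp only [Fintype.card_sum, Fintype.card_prod, Fintype.card_fin, ZMod.card]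
        rw [mul_comm]; exact Nat.div_add_mod n p)
      exact ⟨_, good_map e hW⟩

end CfsgLib.BlockApps.SylowSymGen
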