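import Mathlib
import Cfsg.Prelude.Def_LocalEven
import Cfsg.Prelude.Def_PLocal
import Cfsg.Agent.Lib.PLocal.QdBasic
import Cfsg.Agent.Lib.Classical.SLGen
import Cfsg.Agent.Lib.BlockApps.SylowSymGen

/-!
# `Qd(p)` in alternating groups
-/

set_option autoImplicit false

namespace CfsgLib.BlockApps.QdAlt

open Cfsg Equiv Equiv.Perm CfsgLib.PLocal

variable {p : ℕ} [Fact p.Prime]

theorem affinePerm_aux (u : Fin 2 → ZMod p) (g : Matrix.SpecialLinearGroup (Fin 2) (ZMod p))
    (w : Fin 2 → ZMod p) : (g⁻¹).1.mulVec ((u + g.1.mulVec w) - u) = w := by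
  rw [add_sub_cancel_left, Matrix.mulVec_mulVec, ← Matrix.SpecialLinearGroup.coe_mul, inv_mul_cancel,
    Matrix.SpecialLinearGroup.coe_one, Matrix.one_mulVec]

/-- The affine permutation. -/
def affinePerm (u : Fin 2 → ZMod p) (g : Matrix.SpecialLinearGroup (Fin 2) (ZMod p)) :
    Perm (Fin 2 → ZMod p) where
  toFun w := u + g.1.mulVec w
  invFun w := (g⁻¹).1.mulVec (w - u)
  left_inv w := affinePerm_aux u g w
  right_inv w := by
    show u + g.1.mulVec _ = w
    rw [Matrix.mulVec_mulVec, ← Matrix.SpecialLinearGroup.coe_mul, mul_inv_cancel,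
      Matrix.SpecialLinearGroup.coe_one, Matrix.one_mulVec, add_sub_cancel]

/-- The affine action of `Qd(p)`. -/
noncomputable def qdPerm : ↥(qd p) →* Perm (Fin 2 → ZMod p) :=
  MonoidHom.mk' (fun x => affinePerm (exists_qdElt_eq x).choose (exists_qdElt_eq x).choose_spec.choose)
    fun x y => by
    have key : ∀ (z : ↥(qd p)) u g, qdElt u g = z → affinePerm (exists_qdElt_eq z).choose
        (exists_qdElt_eq z).choose_spec.choose = affinePerm u g := fun z u g h => by
      obtain ⟨h1, h2⟩ := qdElt_injective ((exists_qdElt_eq z).choose_spec.choose_spec.trans h.symm)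
      rw [h2, h1]
    obtain ⟨u, g, hx⟩ := exists_qdElt_eq x
    obtain ⟨v, h, hy⟩ := exists_qdElt_eq y
    rw [key x u g hx, key y v h hy, key (x * y) (u + g.1.mulVec v) (g * h) (by rw [← hx, ← hy, qdElt_mul])]
    refine Equiv.ext fun w => ?_
    show u + g.1.mulVec v + (g * h).1.mulVec w = u + g.1.mulVec (v + h.1.mulVec w)
    rw [Matrix.mulVec_add, Matrix.mulVec_mulVec, Matrix.SpecialLinearGroup.coe_mul, add_assoc]

theorem qdPerm_qdElt (u : Fin 2 → ZMod p) (g : Matrix.SpecialLinearGroup (Fin 2) (ZMod p))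
    (w : Fin 2 → ZMod p) : qdPerm (qdElt u g) w = u + g.1.mulVec w := by
  obtain ⟨h1, h2⟩ := qdElt_injective ((exists_qdElt_eq (qdElt u g)).choose_spec.choose_spec)
  show (exists_qdElt_eq (qdElt u g)).choose + Matrix.mulVec _ w = _
  rw [h2, h1]

theorem qdPerm_injective : Function.Injective (qdPerm (p := p)) := by
  refine (injective_iff_map_eq_one _).2 fun x hx => ?_
  obtain ⟨u, g, rfl⟩ := exists_qdElt_eq x
  have h0 : u = 0 := by
    have := congrArg (fun σ : Perm (Fin 2 → ZMod p) => σ 0) hx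
    simpa [qdPerm_qdElt] using this
  subst h0
  have hg : g = 1 := by
    apply Subtype.ext
    rw [Matrix.SpecialLinearGroup.coe_one]
    apply Matrix.toLin'.injective
    refine LinearMap.ext fun w => ?_
    have := congrArg (fun σ : Perm (Fin 2 → ZMod p) => σ w) hx
    simpa [qdPerm_qdElt] using this
  rw [hg, qdElt_one]

theorem unit_eq_one_of_pow {x : ℤˣ} {n : ℕ} (hn : Odd n) (h : x ^ n = 1) : x = 1 := by
  rcases Int.units_eq_one_or x with h1 | h1
  · exact h1
  · rw [h1, hn.neg_one_pow] at h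
    exact absurd h (by decide)

theorem sign_qdPerm (hp : p ≠ 2) (x : ↥(qd p)) : sign (qdPerm x) = 1 := by
  have hodd : Odd p := (Fact.out : p.Prime).odd_of_ne_two hp
  have htr : ∀ u, sign (qdPerm (qdElt (p := p) u 1)) = 1 := fun u => by
    refine unit_eq_one_of_pow hodd ?_
    have hn : ∀ n : ℕ, qdElt u 1 ^ n = qdElt (n • u) 1 := fun n => by
      induction n with
      | zero => rw [pow_zero, zero_smul, qdElt_one]
      | succ n ih =>
        rw [pow_succ, ih, qdElt_mul, one_mul, Matrix.SpecialLinearGroup.coe_one, Matrix.one_mulVec,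
          succ_nsmul]
    rw [← map_pow, ← map_pow, hn, show p • u = 0 from funext fun i => by simp [nsmul_eq_mul],
      qdElt_one, map_one, map_one]
  let blk : Matrix.SpecialLinearGroup (Fin 2) (ZMod p) →* ↥(qd p) :=
    MonoidHom.mk' (fun g => qdElt 0 g) fun g h => by
      rw [qdElt_mul, Matrix.mulVec_zero, add_zero]
  have hblk : (sign.comp (qdPerm.comp blk)) = 1 := by
    refine CfsgLib.Classical.hom_ext_transvection fun i j hij c => ?_
    rw [MonoidHom.one_apply]
    refine unit_eq_one_of_pow hodd ?_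
    rw [← map_pow]
    convert map_one (sign.comp (qdPerm.comp blk))
    apply Subtype.ext
    rw [Matrix.SpecialLinearGroup.coe_pow, Matrix.SpecialLinearGroup.coe_one]
    have hn : ∀ n : ℕ, (Matrix.transvection i j c : Matrix (Fin 2) (Fin 2) (ZMod p)) ^ n =
        Matrix.transvection i j (n • c) := fun n => by
      induction n with
      | zero => rw [pow_zero, zero_smul, Matrix.transvection_zero]
      | succ n ih => rw [pow_succ, ih, Matrix.transvection_mul_transvection_same _ _ hij, succ_nsmul]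
    show (Matrix.transvection i j c : Matrix (Fin 2) (Fin 2) (ZMod p)) ^ p = 1
    rw [hn, show p • c = 0 by simp, Matrix.transvection_zero]
  obtain ⟨u, g, rfl⟩ := exists_qdElt_eq x
  have hd : qdElt u g = qdElt u 1 * qdElt 0 g := by
    rw [qdElt_mul, Matrix.SpecialLinearGroup.coe_one, Matrix.one_mulVec, add_zero, one_mul]
  rw [hd, map_mul, map_mul, htr, one_mul]
  exact DFunLike.congr_fun hblk g

theorem exists_subgroup_alt (hp : p ≠ 2) {n : ℕ} (hn : p ^ 2 ≤ n) :
    ∃ H : Subgroup (alternatingGroup (Fin n)), Nonempty (↥H ≃* ↥(qd p)) := by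
  classical
  obtain ⟨e⟩ : Nonempty ((Fin 2 → ZMod p) ↪ Fin n) :=
    Function.Embedding.nonempty_of_card_le (by simpa using hn)
  let f : ↥(qd p) →* Perm (Fin n) :=
    ((Equiv.Perm.viaEmbeddingHom e) : Perm (Fin 2 → ZMod p) →* Perm (Fin n)).comp qdPerm
  have hf : Function.Injective f := (Equiv.Perm.viaEmbeddingHom_injective e).comp qdPerm_injective
  have hA : ∀ x, f x ∈ alternatingGroup (Fin n) := fun x => by
    rw [mem_alternatingGroup]
    show sign (Equiv.Perm.viaEmbedding (qdPerm x) e) = 1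
    rw [Equiv.Perm.viaEmbedding]
    rw [sign_extendDomain, sign_qdPerm hp]
  let F := f.codRestrict _ hA
  have hF : Function.Injective F := fun a b h => hf (congrArg Subtype.val h)
  exact ⟨F.range, ⟨(MonoidHom.ofInjective hF).symm⟩⟩

theorem perm_pSubgroup_comm {n : ℕ} (hn : n < p ^ 2) (S : Subgroup (Perm (Fin n))) (hS : IsPGroup p S)
    {x y : Perm (Fin n)} (hx : x ∈ S) (hy : y ∈ S) : x * y = y * x := by
  classical
  have hp := (Fact.out : p.Prime)
  set m := n / p
  set r := n % p
  have hm : m < p := Nat.div_lt_of_lt_mul (by rwa [sq] at hn)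
  have hr : r < p := Nat.mod_lt _ hp.pos
  let e : SylowSymGen.Pt m p r ≃ Fin n := Fintype.equivFinOfCardEq (by
    simp only [Fintype.card_sum, Fintype.card_prod, Fintype.card_fin, ZMod.card]
    rw [mul_comm]; exact Nat.div_add_mod n p)
  let φ : Multiplicative (Fin m → ZMod p) →* Perm (Fin n) :=
    e.permCongrHom.toMonoidHom.comp (SylowSymGen.base m r)
  have hφ : Function.Injective φ := by
    refine e.permCongrHom.injective.comp fun f g h => ?_
    apply Multiplicative.toAdd.injective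
    funext i
    have := congrArg (fun σ : Perm (SylowSymGen.Pt m p r) => σ (Sum.inl (i, 0))) h
    simpa [SylowSymGen.base] using this
  have hcard : Nat.card φ.range = p ^ (Nat.card (Perm (Fin n))).factorization p := by
    rw [← Nat.card_congr (MonoidHom.ofInjective hφ).toEquiv, Nat.card_eq_fintype_card (α := Perm (Fin n)),
      Fintype.card_perm, Fintype.card_fin, Nat.factorization_def _ hp]
    conv_rhs => rw [show n = p * m + r from (Nat.div_add_mod n p).symm,
      padicValNat_factorial_mul_add _ hr, padicValNat_factorial_mul]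
    rw [padicValNat.eq_zero_of_not_dvd (fun h => not_le.2 hm ((hp.dvd_factorial).1 h)), zero_add]
    simp [Nat.card_fun]
  let P0 : Sylow p (Perm (Fin n)) := Sylow.ofCard φ.range hcard
  obtain ⟨Q, hQ⟩ := hS.exists_le_sylow
  obtain ⟨g, hg⟩ := MulAction.exists_smul_eq (Perm (Fin n)) P0 Q
  have hmem : ∀ z ∈ S, ∃ a, g * φ a * g⁻¹ = z := fun z hz => by
    have h := hQ hz
    rw [← hg] at h
    obtain ⟨w, ⟨a, rfl⟩, hw⟩ := h
    exact ⟨a, hw⟩
  obtain ⟨a, rfl⟩ := hmem x hx
  obtain ⟨b, rfl⟩ := hmem y hy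
  rw [show g * φ a * g⁻¹ * (g * φ b * g⁻¹) = g * (φ a * φ b) * g⁻¹ by group,
    show g * φ b * g⁻¹ * (g * φ a * g⁻¹) = g * (φ b * φ a) * g⁻¹ by group, ← map_mul, ← map_mul,
    mul_comm]

theorem not_involves_of_comm {A : Type*} [Group A] [Finite A]
    (habel : ∀ S : Subgroup A, IsPGroup p S → ∀ x ∈ S, ∀ y ∈ S, x * y = y * x) :
    ¬ Involves ↥(qd p) A := by
  classical
  rintro ⟨H, R, hn, ⟨iso⟩⟩
  let f : H →* ↥(qd p) := iso.toMonoidHom.comp (QuotientGroup.mk' (R.subgroupOf H))
  have hf : Function.Surjective f := iso.surjective.comp (QuotientGroup.mk'_surjective _)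
  let uni : ZMod p → Matrix.SpecialLinearGroup (Fin 2) (ZMod p) := fun c =>
    ⟨!![1, c; 0, 1], by simp [Matrix.det_fin_two]⟩
  have uni_mul : ∀ c d, uni c * uni d = uni (c + d) := fun c d => by
    apply Subtype.ext
    show !![(1 : ZMod p), c; 0, 1] * !![1, d; 0, 1] = !![1, c + d; 0, 1]
    rw [Matrix.mul_fin_two]; simp [add_comm]
  have uni_vec : ∀ c (v : Fin 2 → ZMod p), (uni c).1.mulVec v = ![v 0 + c * v 1, v 1] := fun c v => by
    funext i
    fin_cases i <;> simp [uni, Matrix.mulVec, dotProduct, Fin.sum_univ_two]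
  have uni_zero : uni 0 = 1 := by apply Subtype.ext; simp [uni, Matrix.one_fin_two]
  let T : Subgroup ↥(qd p) :=
    { carrier := {z | ∃ v c, qdElt v (uni c) = z}
      one_mem' := ⟨0, 0, by rw [uni_zero, qdElt_one]⟩
      mul_mem' := by
        rintro _ _ ⟨u, c, rfl⟩ ⟨v, d, rfl⟩
        exact ⟨u + (uni c).1.mulVec v, c + d, by rw [qdElt_mul, uni_mul]⟩
      inv_mem' := by
        rintro _ ⟨u, c, rfl⟩
        refine ⟨(uni (-c)).1.mulVec (-u), -c, eq_inv_of_mul_eq_one_right ?_⟩
        rw [qdElt_mul, uni_mul, Matrix.mulVec_mulVec, ← Matrix.SpecialLinearGroup.coe_mul, uni_mul,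
          add_neg_cancel, uni_zero, Matrix.SpecialLinearGroup.coe_one, Matrix.one_mulVec,
          add_neg_cancel, qdElt_one] }
  have hT : IsPGroup p T := by
    rintro ⟨_, v, c, rfl⟩
    refine ⟨2, Subtype.ext ?_⟩
    have h1 : ∀ n : ℕ, ∃ w, qdElt v (uni c) ^ n = qdElt w (uni (n • c)) := fun n => by
      induction n with
      | zero => exact ⟨0, by rw [pow_zero, zero_smul, uni_zero, qdElt_one]⟩
      | succ n ih =>
        obtain ⟨w, hw⟩ := ih
        exact ⟨_, by rw [pow_succ, hw, qdElt_mul, uni_mul, succ_nsmul]⟩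
    have h2 : ∀ (w : Fin 2 → ZMod p) (n : ℕ), qdElt w 1 ^ n = qdElt (n • w) 1 := fun w n => by
      induction n with
      | zero => rw [pow_zero, zero_smul, qdElt_one]
      | succ n ih =>
        rw [pow_succ, ih, qdElt_mul, one_mul, Matrix.SpecialLinearGroup.coe_one, Matrix.one_mulVec,
          succ_nsmul]
    obtain ⟨w, hw⟩ := h1 p
    show qdElt v (uni c) ^ p ^ 2 = 1
    rw [sq, pow_mul, hw, show p • c = 0 by simp, uni_zero, h2,
      show p • w = 0 from funext fun i => by simp [nsmul_eq_mul], qdElt_one]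
  let Tpre := T.comap f
  let g : Tpre →* T := f.subgroupComap _
  have hg : Function.Surjective g := MonoidHom.subgroupComap_surjective_of_surjective _ _ hf
  let U : Sylow p Tpre := default
  have htop : ((U.mapSurjective hg) : Subgroup T) = ⊤ :=
    ((U.mapSurjective hg).is_maximal' (hT.to_subgroup ⊤) le_top).symm
  have hpre : ∀ s : T, ∃ t : ↥Tpre, t ∈ (U : Subgroup Tpre) ∧ g t = s := fun s => by
    have h : s ∈ ((U.mapSurjective hg) : Subgroup _) := htop ▸ Subgroup.mem_top s
    exact h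
  obtain ⟨tx, htx, hgx⟩ := hpre ⟨qdElt ![0, 1] (uni 0), _, _, rfl⟩
  obtain ⟨ty, hty, hgy⟩ := hpre ⟨qdElt 0 (uni 1), _, _, rfl⟩
  have hcomm : tx * ty = ty * tx := by
    apply Subtype.ext; apply Subtype.ext
    exact habel (((U : Subgroup Tpre).map Tpre.subtype).map H.subtype) ((U.2.map _).map _)
      _ ⟨_, ⟨tx, htx, rfl⟩, rfl⟩ _ ⟨_, ⟨ty, hty, rfl⟩, rfl⟩
  have h := congrArg Subtype.val (congrArg g hcomm)
  rw [map_mul, map_mul, hgx, hgy] at h
  simp only [Subgroup.coe_mul, qdElt_mul] at h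
  have h' := congrFun (qdElt_injective h).1 0
  simp [uni_vec] at h'

end CfsgLib.BlockApps.QdAlt
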