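import Cfsg.Agent.Lib.Blocks.PPrimeKernel
import Cfsg.Agent.Lib.Blocks.PSolvableFong
import Cfsg.Agent.Lib.CharsMore.Clifford
import Cfsg.Agent.Lib.CharsMore.Extend
import Cfsg.Agent.Lib.Base.MinimalNormal
import Cfsg.Agent.Lib.Coprime.Action

/-!
# Real-valued characters of degree prime to `p`
-/

set_option autoImplicit false
set_option linter.unusedSectionVars false
set_option linter.style.haveILetI false

namespace CfsgLib.BlockApps.RealDeg

open Cfsg CfsgLib.Chars
open scoped ComplexConjugate Pointwise commutatorElement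

universe u

variable {G : Type u} [Group G]

/-- The subgroup generated by the elements of `r`-power order. -/
abbrev powGen (r : ℕ) (G : Type u) [Group G] : Subgroup G :=
  Subgroup.closure {g : G | ∃ k : ℕ, orderOf g = r ^ k}

/-- Every real-valued irreducible character has degree prime to `p`. -/
def RealHyp (p : ℕ) (G : Type u) [Group G] : Prop :=
  ∀ χ : IrrCharacter G, (∀ g : G, ((χ : G → ℂ) g).im = 0) → ¬ p ∣ charDegree (χ : G → ℂ)

theorem powGen_normal (r : ℕ) : (powGen r G).Normal := by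
  have hset : ∀ g x : G, x ∈ {g : G | ∃ k : ℕ, orderOf g = r ^ k} →
      g * x * g⁻¹ ∈ {g : G | ∃ k : ℕ, orderOf g = r ^ k} := by
    rintro g x ⟨k, hk⟩
    exact ⟨k, by rw [← hk]; exact orderOf_injective (MulAut.conj g).toMonoidHom (MulAut.conj g).injective x⟩
  refine ⟨fun x hx g => ?_⟩
  have h1 : powGen r G ≤ (powGen r G).comap (MulAut.conj g).toMonoidHom :=
    (Subgroup.closure_le _).2 fun y hy => Subgroup.subset_closure (hset g y hy)
  exact h1 hx

theorem powGen_map [Finite G] {H : Type u} [Group H] (f : G →* H) (hf : Function.Surjective f)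
    {r : ℕ} (hr : r.Prime) : (powGen r G).map f = powGen r H := by
  haveI := Fact.mk hr
  rw [powGen, MonoidHom.map_closure]
  refine le_antisymm ((Subgroup.closure_le _).2 ?_) ((Subgroup.closure_le _).2 ?_)
  · rintro _ ⟨g, ⟨k, hk⟩, rfl⟩
    obtain ⟨i, -, hi⟩ := (Nat.dvd_prime_pow hr).1 (hk ▸ orderOf_map_dvd f g)
    exact Subgroup.subset_closure ⟨i, hi⟩
  · rintro y ⟨k, hk⟩
    obtain ⟨g, rfl⟩ := hf y
    set n := orderOf g
    have hn : n ≠ 0 := (orderOf_pos g).ne'
    set m := n / r ^ n.factorization r with hm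
    have hcop : Nat.Coprime (r ^ k) m :=
      ((hr.coprime_iff_not_dvd.2 (Nat.not_dvd_ordCompl hr hn))).pow_left k
    obtain ⟨c, -, hc⟩ := Nat.exists_mul_mod_eq_of_coprime 1 hcop.symm (pow_ne_zero k hr.ne_zero)
    refine Subgroup.subset_closure ⟨g ^ (m * c), ?_, ?_⟩
    · have h1 : (g ^ (m * c)) ^ r ^ n.factorization r = 1 := by
        rw [← pow_mul, show m * c * r ^ n.factorization r = c * (r ^ n.factorization r * m) by ring,
          hm, Nat.ordProj_mul_ordCompl_eq_self, mul_comm, pow_mul, pow_orderOf_eq_one, one_pow]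
      obtain ⟨i, -, hi⟩ := (Nat.dvd_prime_pow hr).1 (orderOf_dvd_of_pow_eq_one h1)
      exact ⟨i, hi⟩
    · have h2 : m * c ≡ 1 [MOD orderOf (f g)] := by
        rw [hk]; exact hc
      rw [map_pow, (pow_eq_pow_iff_modEq (x := f g)).2 h2, pow_one]

theorem realHyp_quotient {p : ℕ} (N : Subgroup G) [N.Normal] (h : RealHyp p G) :
    RealHyp p (G ⧸ N) := fun ψ hψ =>
  h ⟨fun g => (ψ : G ⧸ N → ℂ) g, isIrrCharacter_inflate N ψ.2⟩ fun g => hψ _

theorem conj_unit_val {A : Type*} [Group A] [Finite A] (φ : A →* ℂˣ) (a : A) :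
    conj ((φ a : ℂˣ) : ℂ) = (((φ a)⁻¹ : ℂˣ) : ℂ) := by
  have h1 : ((φ a : ℂˣ) : ℂ) ^ Nat.card A = 1 := by
    rw [← Units.val_pow_eq_pow_val, ← map_pow, pow_card_eq_one', map_one, Units.val_one]
  rw [Units.val_inv_eq_inv_val, Complex.inv_eq_conj
    (Complex.norm_eq_one_of_pow_eq_one h1 Nat.card_pos.ne')]

/-- A homomorphism trivial on a complement extends one of `M`. -/
theorem exists_ext (M S : Subgroup G) [M.Normal] (hd : M ⊓ S = ⊥) (l : M →* ℂˣ)
    (hS : ∀ s ∈ S, ∀ m : M, l (CharsMore.conjBy M s m) = l m) :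
    ∃ φ : (M ⊔ S : Subgroup G) →* ℂˣ,
      (∀ (m : M) (h : (m : G) ∈ M ⊔ S), φ ⟨m, h⟩ = l m) ∧
      ∀ (s : G) (h : s ∈ M ⊔ S), s ∈ S → φ ⟨s, h⟩ = 1 := by
  have hSM : S ≤ Subgroup.normalizer (M : Set G) := Subgroup.normalizer_eq_top (H := M) ▸ le_top
  have hdec : ∀ x : (M ⊔ S : Subgroup G), ∃ m : M, (x : G) * (m : G)⁻¹ ∈ S := fun x => by
    have hx : (x : G) ∈ S ⊔ M := by rw [sup_comm]; exact x.2
    obtain ⟨s, hs, m, hm, e⟩ := (Coprime.mem_sup_iff_of_le_normalizer hSM).1 hx
    exact ⟨⟨m, hm⟩, by rw [← e, mul_inv_cancel_right]; exact hs⟩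
  have huniq : ∀ (x : G) (a b : M), x * (a : G)⁻¹ ∈ S → x * (b : G)⁻¹ ∈ S → a = b := by
    intro x a b ha hb
    have h1 : (a : G) * (b : G)⁻¹ ∈ M ⊓ S := ⟨M.mul_mem a.2 (M.inv_mem b.2), by
      rw [show (a : G) * (b : G)⁻¹ = (x * (a : G)⁻¹)⁻¹ * (x * (b : G)⁻¹) by group]
      exact S.mul_mem (S.inv_mem ha) hb⟩
    rw [hd, Subgroup.mem_bot, mul_inv_eq_one] at h1
    exact Subtype.ext h1
  choose c hc using hdec
  refine ⟨MonoidHom.mk' (fun x => l (c x)) fun x y => ?_, fun m h => ?_, fun s h hs => ?_⟩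
  · set sx := (x : G) * (c x : G)⁻¹ with hsx
    set sy := (y : G) * (c y : G)⁻¹ with hsy
    have hy : c (x * y) = CharsMore.conjBy M sy⁻¹ (c x) * c y := by
      refine huniq ((x * y : (M ⊔ S : Subgroup G)) : G) _ _ (hc (x * y)) ?_
      have e : ((x * y : (M ⊔ S : Subgroup G)) : G) *
          ((CharsMore.conjBy M sy⁻¹ (c x) * c y : M) : G)⁻¹ = sx * sy := by
        simp only [Subgroup.coe_mul, CharsMore.coe_conjBy, hsx, hsy]
        group
      rw [e]
      exact mul_mem (hc x) (hc y)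
    rw [hy, map_mul, hS _ (inv_mem (hc y))]
  · show l (c _) = l m
    rw [huniq (m : G) (c ⟨m, h⟩) m (hc ⟨(m : G), h⟩) (by rw [mul_inv_cancel]; exact one_mem S)]
  · show l (c _) = 1
    rw [huniq s (c ⟨s, h⟩) 1 (hc ⟨s, h⟩) (by simpa using hs), map_one]

variable [Fintype G]

/-- Induction commutes with automorphisms preserving the subgroup. -/
theorem indFun_comp_aut (H : Subgroup G) (τ : MulAut G) (hτ : ∀ x, τ x ∈ H ↔ x ∈ H) (f : H → ℂ)
    (g : G) : indFun H (fun x : H => f ⟨τ x, (hτ x).2 x.2⟩) g = indFun H f (τ g) := by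
  rw [indFun_apply, indFun_apply]
  refine congrArg _ (Fintype.sum_equiv τ.toEquiv _ _ fun x => ?_)
  show _ = extendByZero H f ((τ x)⁻¹ * τ g * τ x)
  rw [← map_inv, ← map_mul, ← map_mul]
  by_cases hx : x⁻¹ * g * x ∈ H
  · rw [extendByZero_of_mem _ _ hx, extendByZero_of_mem _ _ ((hτ _).2 hx)]
  · rw [extendByZero_of_not_mem _ _ hx, extendByZero_of_not_mem _ _ fun h => hx ((hτ _).1 h)]

theorem indFun_conj (H : Subgroup G) (f : H → ℂ) (g : G) :
    indFun H (fun x => conj (f x)) g = conj (indFun H f g) := by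
  rw [indFun_apply, indFun_apply, map_mul, map_inv₀, map_natCast, map_sum]
  refine congrArg _ (Finset.sum_congr rfl fun x _ => ?_)
  by_cases hx : x⁻¹ * g * x ∈ H
  · rw [extendByZero_of_mem _ _ hx, extendByZero_of_mem _ _ hx]
  · rw [extendByZero_of_not_mem _ _ hx, extendByZero_of_not_mem _ _ hx, map_zero]

/-- If conjugation by `t` conjugates a function on `I`, inducing it gives a real function. -/
theorem im_indFun_eq_zero (I : Subgroup G) (t : G) (ht : ∀ x, MulAut.conj t x ∈ I ↔ x ∈ I)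
    (f : I → ℂ) (hf : ∀ x : I, f ⟨MulAut.conj t x, (ht x).2 x.2⟩ = conj (f x)) (g : G) :
    (indFun I f g).im = 0 := by
  rw [← Complex.conj_eq_iff_im, ← indFun_conj, ← funext hf, indFun_comp_aut I _ ht f g,
    MulAut.conj_apply]
  exact isClassFunction_indFun I f g t

/-- The inertia group of a linear character. -/
abbrev stab (M : Subgroup G) [M.Normal] (l : M →* ℂˣ) : Subgroup G :=
  CharsMore.inertia M (CharsMore.linFun l)

theorem mem_stab {M : Subgroup G} [M.Normal] {l : M →* ℂˣ} {g : G} :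
    g ∈ stab M l ↔ ∀ m, l (CharsMore.conjBy M g m) = l m :=
  ⟨fun h m => Units.ext ((CharsMore.mem_inertia M).1 h m),
    fun h => (CharsMore.mem_inertia M).2 fun m => congrArg Units.val (h m)⟩

theorem le_stab (M : Subgroup G) [M.Normal] (l : M →* ℂˣ) : M ≤ stab M l := fun g hg =>
  mem_stab.2 fun m => by
    rw [show CharsMore.conjBy M g m = ⟨g, hg⟩ * m * ⟨g, hg⟩⁻¹ from Subtype.ext (by simp),
      map_mul, map_mul, map_inv, mul_comm (l ⟨g, hg⟩), mul_inv_cancel_right]

omit [Fintype G] in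
theorem conjBy_conjBy (M : Subgroup G) [M.Normal] (g h : G) (m : M) :
    CharsMore.conjBy M g (CharsMore.conjBy M h m) = CharsMore.conjBy M (g * h) m :=
  Subtype.ext (by simp [mul_assoc])

theorem conj_mem_stab_iff {M : Subgroup G} [M.Normal] {l : M →* ℂˣ} {t : G}
    (ht : ∀ m, l (CharsMore.conjBy M t m) = (l m)⁻¹) (x : G) :
    MulAut.conj t x ∈ stab M l ↔ x ∈ stab M l := by
  have ht' : ∀ m, l (CharsMore.conjBy M t⁻¹ m) = (l m)⁻¹ := fun m => by
    have h := ht (CharsMore.conjBy M t⁻¹ m)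
    rw [conjBy_conjBy, mul_inv_cancel, show CharsMore.conjBy M 1 m = m from Subtype.ext (by simp)] at h
    rw [h, inv_inv]
  rw [mem_stab, mem_stab, MulAut.conj_apply]
  constructor
  · intro h m
    have h1 := h (CharsMore.conjBy M t m)
    rw [conjBy_conjBy, show t * x * t⁻¹ * t = t * x by group, ← conjBy_conjBy, ht, ht] at h1
    exact inv_injective h1
  · intro h m
    rw [← conjBy_conjBy, ← conjBy_conjBy, ht, h, ht', inv_inv]

omit [Fintype G] in
theorem ext_twist [Finite G] (M S : Subgroup G) [M.Normal] (l : M →* ℂˣ)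
    (φ : (M ⊔ S : Subgroup G) →* ℂˣ) (h1 : ∀ (m : M) (h : (m : G) ∈ M ⊔ S), φ ⟨m, h⟩ = l m)
    (h2 : ∀ (s : G) (h : s ∈ M ⊔ S), s ∈ S → φ ⟨s, h⟩ = 1) (t : G)
    (ht : ∀ m, l (CharsMore.conjBy M t m) = (l m)⁻¹) (htS : ∀ s ∈ S, t * s * t⁻¹ ∈ S)
    (x : G) (hx : x ∈ M ⊔ S) (hx' : t * x * t⁻¹ ∈ M ⊔ S) :
    (φ ⟨t * x * t⁻¹, hx'⟩ : ℂ) = conj ((φ ⟨x, hx⟩ : ℂˣ) : ℂ) := by
  have hSM : S ≤ Subgroup.normalizer (M : Set G) := Subgroup.normalizer_eq_top (H := M) ▸ le_top
  have hx2 : x ∈ S ⊔ M := by rw [sup_comm]; exact hx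
  obtain ⟨s, hs, m, hm, rfl⟩ := (Coprime.mem_sup_iff_of_le_normalizer hSM).1 hx2
  have hsm : s ∈ M ⊔ S := Subgroup.mem_sup_right hs
  have hmm : m ∈ M ⊔ S := Subgroup.mem_sup_left hm
  have hs' : t * s * t⁻¹ ∈ M ⊔ S := Subgroup.mem_sup_right (htS s hs)
  have hm' : t * m * t⁻¹ ∈ M ⊔ S :=
    Subgroup.mem_sup_left ((inferInstance : M.Normal).conj_mem m hm t)
  rw [show (⟨t * (s * m) * t⁻¹, hx'⟩ : (M ⊔ S : Subgroup G)) =
      ⟨t * s * t⁻¹, hs'⟩ * ⟨t * m * t⁻¹, hm'⟩ from Subtype.ext (by simp [mul_assoc]),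
    show (⟨s * m, hx⟩ : (M ⊔ S : Subgroup G)) = ⟨s, hsm⟩ * ⟨m, hmm⟩ from rfl, map_mul, map_mul,
    h2 _ _ (htS s hs), h2 _ _ hs, one_mul, one_mul, conj_unit_val]
  have e1 : φ ⟨t * m * t⁻¹, hm'⟩ = l (CharsMore.conjBy M t ⟨m, hm⟩) :=
    h1 (CharsMore.conjBy M t ⟨m, hm⟩) hm'
  rw [e1, ht, h1 ⟨m, hm⟩]

/-- The real character induced from a split extension. -/
theorem exists_real_split (M H : Subgroup G) [M.Normal] (hd : M ⊓ H = ⊥) (hs : M ⊔ H = ⊤)
    (l : M →* ℂˣ) {t : G} (htH : t ∈ H) (ht : ∀ m, l (CharsMore.conjBy M t m) = (l m)⁻¹) :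
    ∃ χ : IrrCharacter G, (∀ g, ((χ : G → ℂ) g).im = 0) ∧
      charDegree (χ : G → ℂ) = (stab M l).index := by
  classical
  haveI := Fintype.ofFinite M
  set I := stab M l
  set S := I ⊓ H
  have hI : I = M ⊔ S := by
    refine le_antisymm (fun g hg => ?_) (sup_le (le_stab M l) inf_le_left)
    have hg' : g ∈ M ⊔ H := hs ▸ Subgroup.mem_top g
    rw [← SetLike.mem_coe, Subgroup.normal_mul] at hg'
    obtain ⟨m, hm, h, hh, rfl⟩ := Set.mem_mul.1 hg'
    refine mul_mem (Subgroup.mem_sup_left hm) (Subgroup.mem_sup_right ⟨?_, hh⟩)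
    have := mul_mem (inv_mem (le_stab M l hm)) hg
    rwa [inv_mul_cancel_left] at this
  obtain ⟨φ, h1, h2⟩ := exists_ext M S (le_bot_iff.1 ((inf_le_inf_left M inf_le_right).trans hd.le)) l
    fun s hs => mem_stab.1 hs.1
  let φI : I →* ℂˣ := φ.comp (MulEquiv.subgroupCongr hI).toMonoidHom
  have hφI : IsIrrCharacter I (CharsMore.linFun φI) := CharsMore.isIrrCharacter_linFun φI
  have hres : (fun n : M => CharsMore.linFun φI ⟨n, le_stab M l n.2⟩) = CharsMore.linFun l :=
    funext fun n => congrArg Units.val (h1 n _)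
  have hirr := CharsMore.isIrr_indFun_of_over M (le_stab M l) (CharsMore.isIrrCharacter_linFun l)
    (T := I) rfl hφI (by
      rw [hres, inner_irr_self ⟨_, CharsMore.isIrrCharacter_linFun l⟩]
      exact one_ne_zero)
  refine ⟨⟨_, hirr⟩, fun g => im_indFun_eq_zero I t (conj_mem_stab_iff ht) _ (fun x => ?_) g, ?_⟩
  · refine ext_twist M S l φ h1 h2 t ht (fun s hs => ⟨(conj_mem_stab_iff ht s).2 hs.1, ?_⟩) x
      (hI ▸ x.2) (hI ▸ (conj_mem_stab_iff ht (x : G)).2 x.2)
    exact H.mul_mem (H.mul_mem htH hs.2) (H.inv_mem htH)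
  · have : ((charDegree (indFun I (CharsMore.linFun φI)) : ℕ) : ℂ) = (I.index : ℂ) := by
      rw [← CharApps.deg_eq ⟨_, hirr⟩]
      show indFun I (CharsMore.linFun φI) 1 = _
      rw [indFun_one_apply]
      simp [CharsMore.linFun]
    exact_mod_cast this

/-- A real character over an inverted linear character of a normal subgroup of odd order. -/
theorem exists_real_odd (M : Subgroup G) [M.Normal] [Fintype M] (hodd : Odd (Nat.card M))
    (l : M →* ℂˣ) {t : G} (ht2 : ∃ k, orderOf t = 2 ^ k)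
    (ht : ∀ m, l (CharsMore.conjBy M t m) = (l m)⁻¹) :
    ∃ χ : IrrCharacter G, (∀ g, ((χ : G → ℂ) g).im = 0) ∧
      classInner (fun n : M => (χ : G → ℂ) n) (CharsMore.linFun l) ≠ 0 := by
  classical
  haveI : Fact (Nat.Prime 2) := ⟨Nat.prime_two⟩
  set I := stab M l with hIdef
  have hMI : M ≤ I := le_stab M l
  have hconj := conj_mem_stab_iff ht
  set Tz := Subgroup.zpowers t
  have hTn : Tz ≤ Subgroup.normalizer (I : Set G) := Subgroup.zpowers_le.2 (by
    rw [Subgroup.mem_normalizer_iff]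
    exact fun x => (hconj x).symm)
  set J₀ := Tz ⊔ I
  have hJn : J₀ ≤ Subgroup.normalizer (I : Set G) := sup_le hTn Subgroup.le_normalizer
  obtain ⟨k, hk⟩ := ht2
  have hTp : IsPGroup 2 Tz := IsPGroup.of_card (n := k) (by rw [Nat.card_zpowers, hk])
  obtain ⟨T', hT'⟩ := (hTp.of_equiv
    (Subgroup.subgroupOfEquivOfLe (le_sup_left : Tz ≤ J₀)).symm).exists_le_sylow
  set T₀ := (T' : Subgroup J₀).map J₀.subtype
  set S := T₀ ⊓ I
  have htT : t ∈ T₀ :=
    ⟨⟨t, Subgroup.mem_sup_left (Subgroup.mem_zpowers t)⟩, hT' (Subgroup.mem_zpowers t), rfl⟩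
  have hSp : IsPGroup 2 S := (T'.2.map _).to_le inf_le_left
  have hSi : ¬ 2 ∣ S.relIndex I := by
    intro hd
    have h1 := Coprime.relIndex_dvd_of_normalizes (Subgroup.map_subtype_le (T' : Subgroup J₀))
      (le_sup_right : I ≤ J₀) ((Subgroup.map_subtype_le _).trans hJn)
    refine T'.not_dvd_index ((hd.trans h1).trans (dvd_of_eq ?_))
    rw [Subgroup.relIndex, Subgroup.subgroupOf,
      Subgroup.comap_map_eq_self_of_injective J₀.subtype_injective]
  have htS : ∀ s ∈ S, t * s * t⁻¹ ∈ S := fun s hs =>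
    ⟨T₀.mul_mem (T₀.mul_mem htT hs.1) (T₀.inv_mem htT), (hconj s).2 hs.2⟩
  have hMS : M ⊓ S = ⊥ := by
    obtain ⟨j, hj⟩ := IsPGroup.iff_card.1 hSp
    refine Coprime.inf_eq_bot_of_coprime ?_
    rw [hj]
    exact (Nat.coprime_two_right.2 hodd).pow_right j
  obtain ⟨φ, h1, h2⟩ := exists_ext M S hMS l fun s hs => mem_stab.1 hs.2
  let J : Subgroup G := M ⊔ S
  have hJI : J ≤ I := sup_le hMI inf_le_right
  set J' := J.subgroupOf I
  let φ' : J' →* ℂˣ := φ.comp (Subgroup.subgroupOfEquivOfLe hJI).toMonoidHom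
  haveI := irrFintype I
  haveI := Fintype.ofFinite J'
  let τ : MulAut I :=
    { toFun := fun x => ⟨t * x * t⁻¹, (hconj x).2 x.2⟩
      invFun := fun x => ⟨t⁻¹ * x * t, (hconj _).1 (by simp [mul_assoc])⟩
      left_inv := fun x => Subtype.ext (by simp [mul_assoc])
      right_inv := fun x => Subtype.ext (by simp [mul_assoc])
      map_mul' := fun x y => Subtype.ext (by simp [mul_assoc]) }
  have htJ : ∀ x : G, t * x * t⁻¹ ∈ J ↔ x ∈ J := by
    have hS' : ∀ s ∈ S, t⁻¹ * s * t ∈ S := fun s hs =>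
      ⟨T₀.mul_mem (T₀.mul_mem (T₀.inv_mem htT) hs.1) htT, (hconj _).1 (by simpa [mul_assoc] using hs.2)⟩
    intro x
    constructor
    · intro h
      have h' : J ≤ J.comap (MulAut.conj t⁻¹).toMonoidHom := sup_le
        (fun y hy => Subgroup.mem_sup_left ((inferInstance : M.Normal).conj_mem y hy t⁻¹))
        (fun y hy => Subgroup.mem_sup_right (by simpa using hS' y hy))
      simpa [mul_assoc] using h' h
    · intro h
      have h' : J ≤ J.comap (MulAut.conj t).toMonoidHom := sup_le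
        (fun y hy => Subgroup.mem_sup_left ((inferInstance : M.Normal).conj_mem y hy t))
        (fun y hy => Subgroup.mem_sup_right (htS y hy))
      exact h' h
  have hτ : ∀ x : I, τ x ∈ J' ↔ x ∈ J' := fun x => htJ (x : G)
  have ht2I : t * t ∈ I := mem_stab.2 fun m => by
    rw [← conjBy_conjBy, ht, ht, inv_inv]
  set θ := indFun J' (CharsMore.linFun φ') with hθ
  have hφ' : ∀ y : J', CharsMore.linFun φ' ⟨τ (y : I), (hτ y).2 y.2⟩ =
      conj (CharsMore.linFun φ' y) := fun y =>
    ext_twist M S l φ h1 h2 t ht htS ((y : I) : G) y.2 ((htJ _).2 y.2)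
  have hθτ : ∀ x, θ (τ x) = conj (θ x) := fun x => by
    rw [hθ, ← indFun_comp_aut J' τ hτ, funext hφ', indFun_conj]
  have hθc : IsCharacter I θ := isCharacter_indFun J' (CharsMore.isCharacter_linFun φ').1
  choose m hm using fun ψ : IrrCharacter I => inner_irr_right_nat hθc ψ
  let σ : IrrCharacter I → IrrCharacter I := fun ψ =>
    ⟨fun x => conj ((ψ : I → ℂ) (τ x)),
      isIrrCharacter_conj (isIrrCharacter_comp τ.toMonoidHom τ.surjective ψ.2)⟩
  have hmσ : ∀ ψ, m (σ ψ) = m ψ := fun ψ => by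
    have e : classInner θ (σ ψ : I → ℂ) = conj (classInner θ (ψ : I → ℂ)) := by
      rw [inner_def, inner_def, map_mul, map_inv₀, map_natCast, map_sum]
      refine congrArg _ (Fintype.sum_equiv τ.toEquiv _ _ fun x => ?_)
      show θ x * conj (conj ((ψ : I → ℂ) (τ x))) = conj (θ (τ x) * conj ((ψ : I → ℂ) (τ x)))
      rw [map_mul, hθτ, Complex.conj_conj, Complex.conj_conj]
    rw [hm, hm, map_natCast] at e
    exact_mod_cast e
  have hσd : ∀ ψ, charDegree (σ ψ : I → ℂ) = charDegree (ψ : I → ℂ) := fun ψ => by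
    show ⌊(conj ((ψ : I → ℂ) (τ 1))).re⌋₊ = _
    rw [map_one, Complex.conj_re]
    rfl
  have hσσ : ∀ ψ, σ (σ ψ) = ψ := fun ψ => Subtype.ext (funext fun x => by
    show conj (conj ((ψ : I → ℂ) (τ (τ x)))) = (ψ : I → ℂ) x
    rw [Complex.conj_conj, show τ (τ x) = ⟨t * t, ht2I⟩ * x * ⟨t * t, ht2I⟩⁻¹ from
      Subtype.ext (by simp [τ, mul_assoc])]
    exact isClassFunction_irr ψ x _)
  have hsum : ∑ ψ : IrrCharacter I, m ψ * charDegree (ψ : I → ℂ) = J'.index := by
    have e : θ 1 = ((∑ ψ : IrrCharacter I, m ψ * charDegree (ψ : I → ℂ) : ℕ) : ℂ) := by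
      conv_lhs => rw [classFun_eq_sum (isClassFunction_of_isCharacter hθc)]
      simp [Finset.sum_apply, hm, CharApps.deg_eq]
    rw [hθ, indFun_one_apply, (CharsMore.isCharacter_linFun φ').2, mul_one] at e
    exact_mod_cast e.symm
  obtain ⟨ψ, hψσ, hψm⟩ : ∃ ψ, σ ψ = ψ ∧ m ψ ≠ 0 := by
    by_contra hno
    simp only [not_exists, not_and, not_not] at hno
    have h0 : ∑ ψ : IrrCharacter I, ((m ψ * charDegree (ψ : I → ℂ) : ℕ) : ZMod 2) = 0 := by
      refine Finset.sum_involution (fun ψ _ => σ ψ) (fun ψ _ => ?_) (fun ψ _ h hfix => h ?_)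
        (fun ψ _ => Finset.mem_univ _) (fun ψ _ => hσσ ψ)
      · rw [hmσ, hσd, ← two_mul, show (2 : ZMod 2) = 0 from CharTwo.two_eq_zero, zero_mul]
      · rw [hno ψ hfix, zero_mul, Nat.cast_zero]
    rw [← Nat.cast_sum, hsum, ZMod.natCast_eq_zero_iff_even, even_iff_two_dvd] at h0
    refine hSi (h0.trans ?_)
    exact Subgroup.relIndex_dvd_of_le_left I le_sup_right
  have hψθ : classInner (fun j : J' => (ψ : I → ℂ) j) (CharsMore.linFun φ') ≠ 0 := by
    have h : classInner θ (ψ : I → ℂ) ≠ 0 := by rw [hm]; exact_mod_cast hψm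
    rw [hθ, inner_indFun J' _ (isClassFunction_irr ψ)] at h
    rw [← inner_conj]
    simpa using h
  let ιM : M →* J' :=
    { toFun := fun n => ⟨⟨n, hMI n.2⟩, Subgroup.mem_sup_left n.2⟩
      map_one' := rfl
      map_mul' := fun _ _ => rfl }
  have hψl : classInner (fun n : M => (ψ : I → ℂ) ⟨n, hMI n.2⟩) (CharsMore.linFun l) ≠ 0 :=
    Blocks.constituent_trans J' ιM (χ := ψ)
      (ψ := ⟨_, CharsMore.isIrrCharacter_linFun φ'⟩) hψθ
      (φ := ⟨_, CharsMore.isIrrCharacter_linFun l⟩) (by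
      show classInner (fun k : M => CharsMore.linFun φ' (ιM k)) (CharsMore.linFun l) ≠ 0
      rw [show (fun k : M => CharsMore.linFun φ' (ιM k)) = CharsMore.linFun l from
        funext fun k => congrArg Units.val (h1 k _),
        inner_irr_self ⟨_, CharsMore.isIrrCharacter_linFun l⟩]
      exact one_ne_zero)
  have hirr := CharsMore.isIrr_indFun_of_over M hMI (CharsMore.isIrrCharacter_linFun l) (T := I)
    rfl ψ.2 hψl
  have hψt : ∀ x : I, (ψ : I → ℂ) ⟨MulAut.conj t x, (hconj x).2 x.2⟩ = conj ((ψ : I → ℂ) x) := by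
    intro x
    have e := congrFun (congrArg Subtype.val hψσ) x
    change conj ((ψ : I → ℂ) (τ x)) = (ψ : I → ℂ) x at e
    rw [← e, Complex.conj_conj]
    rfl
  refine ⟨⟨_, hirr⟩, fun g => im_indFun_eq_zero I t hconj _ hψt g, ?_⟩
  refine Blocks.constituent_trans I (Subgroup.inclusion hMI) (χ := ⟨_, hirr⟩) (ψ := ψ) ?_
    (φ := ⟨_, CharsMore.isIrrCharacter_linFun l⟩) hψl
  show classInner (fun i : I => indFun I (ψ : I → ℂ) i) (ψ : I → ℂ) ≠ 0
  rw [← inner_indFun_right I _ (isClassFunction_indFun I _), inner_irr_self ⟨_, hirr⟩]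
  exact one_ne_zero

omit [Fintype G] in
/-- An element acting as an involution inverts a nontrivial linear character. -/
theorem exists_inverted [Finite G] (M : Subgroup G) [M.Normal] [IsMulCommutative M] {g : G}
    (hg : g ∉ Subgroup.centralizer (M : Set G)) (hg2 : g * g ∈ Subgroup.centralizer (M : Set G)) :
    ∃ l : M →* ℂˣ, l ≠ 1 ∧ ∀ m, l (CharsMore.conjBy M g m) = (l m)⁻¹ := by
  obtain ⟨m₀, hm₀⟩ : ∃ m : M, CharsMore.conjBy M g m ≠ m := by
    by_contra hno
    simp only [not_exists, not_not] at hno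
    refine hg (Subgroup.mem_centralizer_iff.2 fun m hm => ?_)
    have h := congrArg Subtype.val (hno ⟨m, hm⟩)
    rw [CharsMore.coe_conjBy, mul_inv_eq_iff_eq_mul] at h
    exact h.symm
  letI : CommGroup M :=
    { (inferInstance : Group M) with mul_comm := fun a b => IsMulCommutative.is_comm.comm a b }
  haveI : NeZero (Monoid.exponent M : ℂ) :=
    ⟨Nat.cast_ne_zero.mpr Monoid.exponent_ne_zero_of_finite⟩
  obtain ⟨μ, hμ⟩ := CommGroup.exists_apply_ne_one_of_hasEnoughRootsOfUnity M ℂ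
    (fun e => hm₀ (mul_inv_eq_one.1 e) : CharsMore.conjBy M g m₀ * m₀⁻¹ ≠ 1)
  refine ⟨μ.comp (CharsMore.conjBy M g) * μ⁻¹, fun e => hμ ?_, fun m => ?_⟩
  · simpa using DFunLike.congr_fun e m₀
  · simp only [MonoidHom.mul_apply, MonoidHom.inv_apply, MonoidHom.comp_apply, conjBy_conjBy]
    rw [show CharsMore.conjBy M (g * g) m = m from Subtype.ext (by
      rw [CharsMore.coe_conjBy, ← Subgroup.mem_centralizer_iff.1 hg2 m m.2, mul_inv_cancel_right]),
      mul_inv, inv_inv, mul_comm]

omit [Fintype G] in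
/-- A `2`-element outside a subgroup has a power outside with square inside. -/
theorem exists_half (C : Subgroup G) {g : G} (hg : ∃ k, orderOf g = 2 ^ k) (hgC : g ∉ C) :
    ∃ h : G, (∃ k, orderOf h = 2 ^ k) ∧ h ∉ C ∧ h * h ∈ C := by
  obtain ⟨k, hk⟩ := hg
  induction k generalizing g with
  | zero =>
    rw [pow_zero, orderOf_eq_one_iff] at hk
    exact absurd (hk ▸ one_mem C) hgC
  | succ k ih =>
    by_cases h : g * g ∈ C
    · exact ⟨g, ⟨k + 1, hk⟩, hgC, h⟩
    · refine ih (g := g * g) h ?_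
      rw [← sq, orderOf_pow' g two_ne_zero, hk, Nat.gcd_eq_right (dvd_pow_self 2 k.succ_ne_zero),
        pow_succ, Nat.mul_div_cancel _ two_pos]

omit [Fintype G] in
theorem le_of_relIndex [Finite G] {p : ℕ} [hp : Fact p.Prime] {Q R U : Subgroup G} (hQR : Q ≤ R)
    (hRU : R ≤ U) (hR : IsPGroup p R) (hi : ¬ p ∣ Q.relIndex U) : R ≤ Q := by
  rw [← Subgroup.relIndex_eq_one]
  obtain ⟨k, hk⟩ := IsPGroup.iff_card.1 hR
  obtain ⟨i, -, hi'⟩ := (Nat.dvd_prime_pow hp.out).1 (hk ▸ Subgroup.relIndex_dvd_card Q R)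
  have hd : Q.relIndex R ∣ Q.relIndex U := ⟨_, (Subgroup.relIndex_mul_relIndex Q R U hQR hRU).symm⟩
  rcases i with _ | i
  · simpa using hi'
  · exact absurd ((hi' ▸ dvd_pow_self p i.succ_ne_zero).trans hd) hi

omit [Fintype G] in
theorem sylow_normal_aux {p : ℕ} [hp : Fact p.Prime] (n : ℕ) :
    ∀ {G : Type u} [Group G] [Finite G], Nat.card G ≤ n → Group.IsSolvable (powGen p G) →
    RealHyp p G → ∀ U : Subgroup G, U.Normal → powGen 2 G ≤ U →
    (∃ a, (powGen 2 G).relIndex U = p ^ a) →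
    ∀ Q : Subgroup G, Q ≤ U → IsPGroup p Q → ¬ p ∣ Q.relIndex U → Q.Normal := by
  induction n with
  | zero =>
    intro G _ _ hG
    exact absurd (Nat.card_pos (α := G)) (by omega)
  | succ n ih =>
    intro G _ _ hG hsolv hreal U hU hKU hUp Q hQU hQp hQi
    classical
    haveI := hU
    haveI := Fintype.ofFinite G
    haveI : Fact (Nat.Prime 2) := ⟨Nat.prime_two⟩
    haveI := powGen_normal (G := G) 2
    haveI := powGen_normal (G := G) p
    obtain ⟨a, ha⟩ := hUp
    by_cases hK : powGen 2 G = ⊥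
    · rw [hK, Subgroup.relIndex_bot_left] at ha
      rw [le_antisymm hQU (le_of_relIndex hQU le_rfl (IsPGroup.of_card ha) hQi)]
      infer_instance
    obtain ⟨M, hMK, hM⟩ := Base.exists_isMinimalNormal_le hK
    haveI := hM.normal
    have hMU : M ≤ U := hMK.trans hKU
    set π := QuotientGroup.mk' M
    have hπ : Function.Surjective π := QuotientGroup.mk'_surjective M
    have hlt : Nat.card (G ⧸ M) ≤ n := by
      have h1 := M.index_mul_card
      rw [Subgroup.index_eq_card] at h1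
      have h2 : 2 ≤ Nat.card M := by
        haveI : Nontrivial M := (Subgroup.nontrivial_iff_ne_bot M).2 hM.ne_bot
        exact Finite.one_lt_card
      have h3 : 0 < Nat.card (G ⧸ M) := Nat.card_pos
      nlinarith
    have hK' : powGen 2 (G ⧸ M) = (powGen 2 G).map π := (powGen_map π hπ Nat.prime_two).symm
    have hsolv' : Group.IsSolvable (powGen p (G ⧸ M)) := by
      rw [← powGen_map π hπ hp.out]
      exact Coprime.isSolvable_map π hsolv
    have hQn : (Q.map π).Normal := by
      refine ih hlt hsolv' (realHyp_quotient M hreal) (U.map π) (hU.map π hπ)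
        (hK' ▸ Subgroup.map_mono hKU) ?_ (Q.map π) (Subgroup.map_mono hQU) (hQp.map π)
        fun hd => hQi (hd.trans (Coprime.relIndex_map_dvd π Q U))
      rw [hK']
      obtain ⟨i, -, hi⟩ := (Nat.dvd_prime_pow hp.out).1
        (ha ▸ Coprime.relIndex_map_dvd π (powGen 2 G) U)
      exact ⟨i, hi⟩
    set T := Q ⊔ M
    haveI hTn : T.Normal := by
      have e : T = (Q.map π).comap π := by rw [Subgroup.comap_map_eq, QuotientGroup.ker_mk']
      rw [e]
      haveI := hQn
      infer_instance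
    have hTU : T ≤ U := sup_le hQU hMU
    have hQM : Q ≤ Subgroup.normalizer (M : Set G) := Subgroup.normalizer_eq_top (H := M) ▸ le_top
    -- Frattini
    set H := Subgroup.normalizer (Q : Set G)
    have hHT : M ⊔ H = ⊤ := by
      have hi : ¬ p ∣ (Q.subgroupOf T).index := fun hd => hQi (hd.trans
        ⟨_, (Subgroup.relIndex_mul_relIndex Q T U le_sup_left hTU).symm⟩)
      have h1 := Sylow.normalizer_sup_eq_top
        ((hQp.of_equiv (Subgroup.subgroupOfEquivOfLe (le_sup_left : Q ≤ T)).symm).toSylow hi)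
      have h2 : ((((hQp.of_equiv (Subgroup.subgroupOfEquivOfLe (le_sup_left : Q ≤ T)).symm).toSylow
          hi : Sylow p T) : Subgroup T).map T.subtype) = Q :=
        Subgroup.map_subgroupOf_eq_of_le le_sup_left
      rw [h2] at h1
      rw [eq_top_iff, ← h1]
      exact sup_le le_sup_right (sup_le (Subgroup.le_normalizer.trans le_sup_right) le_sup_left)
    have hdone : M ≤ H → Q.Normal := fun hle => by
      refine Subgroup.normalizer_eq_top_iff.1 ?_
      rw [eq_top_iff, ← hHT]
      exact sup_le hle le_rfl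
    rcases hM.le_or_inf_eq_bot (powGen p G) with hML | hML
    swap
    · -- `M` centralises the `p`-elements
      refine hdone fun m hm => Subgroup.centralizer_le_normalizer _ ?_
      rw [Subgroup.mem_centralizer_iff]
      intro x hx
      obtain ⟨j, hj⟩ := hQp ⟨x, hx⟩
      have hxL : x ∈ powGen p G := by
        obtain ⟨i, -, hi⟩ := (Nat.dvd_prime_pow hp.out).1
          (orderOf_dvd_of_pow_eq_one (show x ^ p ^ j = 1 from congrArg Subtype.val hj))
        exact Subgroup.subset_closure ⟨i, hi⟩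
      exact Subgroup.commute_of_normal_of_disjoint _ _ inferInstance inferInstance
        (disjoint_iff.2 (by rw [inf_comm]; exact hML)) x m hxL hm
    obtain ⟨r, hr, hMc, hMr, hMg⟩ := hM.exists_prime (Coprime.isSolvable_of_le hML hsolv)
    haveI := hMc
    haveI := Fact.mk hr
    by_cases hrp : r = p
    · subst hrp
      have : T ≤ Q := le_of_relIndex le_sup_left hTU (IsPGroup.to_sup_of_normal_right' hQp hMg hQM) hQi
      rw [← le_antisymm this le_sup_left]
      exact hTn
    have hmul : ∀ x ∈ M, ∀ y ∈ M, x * y = y * x := fun x hx y hy =>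
      congrArg Subtype.val (hMc.is_comm.comm ⟨x, hx⟩ ⟨y, hy⟩)
    have hn : (M ⊓ H).Normal := by
      refine Subgroup.normalizer_eq_top_iff.1 ?_
      rw [eq_top_iff, ← hHT]
      refine sup_le (fun m hm => ?_) (Coprime.le_normalizer_inf_inf
        (Subgroup.normalizer_eq_top (H := M) ▸ le_top) Subgroup.le_normalizer)
      exact Subgroup.centralizer_le_normalizer _ (Subgroup.mem_centralizer_iff.2
        fun x hx => hmul x hx.1 m hm)
    rcases hM.eq_bot_or_eq hn inf_le_left with hd | hd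
    swap
    · exact hdone (hd ▸ inf_le_right)
    -- `Q` fixes no nontrivial character of `M`
    haveI := Fintype.ofFinite Q
    letI : CommGroup M :=
      { (inferInstance : Group M) with mul_comm := fun x y => hMc.is_comm.comm x y }
    have hfix : ∀ l : M →* ℂˣ, (∀ q ∈ Q, ∀ m, l (CharsMore.conjBy M q m) = l m) → l = 1 := by
      intro l hl
      refine MonoidHom.ext fun m => ?_
      set A := ∏ q : Q, CharsMore.conjBy M (q : G) m with hA
      have hAQ : ∀ q : Q, CharsMore.conjBy M (q : G) A = A := fun q => by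
        rw [hA, map_prod]
        exact Fintype.prod_equiv (Equiv.mulLeft q) _ _ fun q' => by rw [conjBy_conjBy]; rfl
      have hA1 : A = 1 := by
        have hAH : (A : G) ∈ M ⊓ H := by
          refine ⟨A.2, Subgroup.centralizer_le_normalizer _ (Subgroup.mem_centralizer_iff.2
            fun q hq => ?_)⟩
          have h := congrArg Subtype.val (hAQ ⟨q, hq⟩)
          rw [CharsMore.coe_conjBy, mul_inv_eq_iff_eq_mul] at h
          exact h
        rw [hd, Subgroup.mem_bot] at hAH
        exact Subtype.ext hAH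
      have h1 : l m ^ Fintype.card Q = 1 := by
        rw [← Finset.card_univ, ← Finset.prod_const, ← map_one l, ← hA1, hA, map_prod]
        exact Finset.prod_congr rfl fun q _ => (hl q q.2 m).symm
      obtain ⟨b, hb⟩ := IsPGroup.iff_card.1 hQp
      rw [Fintype.card_eq_nat_card, hb] at h1
      rw [MonoidHom.one_apply, ← orderOf_eq_one_iff]
      exact Nat.eq_one_of_dvd_coprimes (((Nat.coprime_primes hp.out hr).2 (Ne.symm hrp)).pow_left b)
        (orderOf_dvd_of_pow_eq_one h1) (orderOf_dvd_of_pow_eq_one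
          (by rw [← map_pow, show m ^ r = 1 from Subtype.ext (hMr m m.2), map_one]))
    obtain ⟨l, hl1, t, htH, ht⟩ : ∃ l : M →* ℂˣ, l ≠ 1 ∧ ∃ t ∈ H,
        ∀ m, l (CharsMore.conjBy M t m) = (l m)⁻¹ := by
      by_cases hr2 : r = 2
      · obtain ⟨x, hx⟩ := (Subgroup.ne_bot_iff_exists_ne_one).1 hM.ne_bot
        haveI : NeZero (Monoid.exponent M : ℂ) :=
          ⟨Nat.cast_ne_zero.mpr Monoid.exponent_ne_zero_of_finite⟩
        obtain ⟨l, hl⟩ := CommGroup.exists_apply_ne_one_of_hasEnoughRootsOfUnity M ℂ hx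
        refine ⟨l, fun e => hl (by rw [e]; rfl), 1, one_mem _, fun m => ?_⟩
        rw [show CharsMore.conjBy M 1 m = m from Subtype.ext (by simp), eq_inv_iff_mul_eq_one,
          ← map_mul, ← sq, show m ^ 2 = 1 from Subtype.ext (hr2 ▸ hMr m m.2), map_one]
      obtain ⟨g, hgK, hgC⟩ : ∃ g, (∃ k, orderOf g = 2 ^ k) ∧
          g ∉ Subgroup.centralizer (M : Set G) := by
        by_contra hno
        simp only [not_exists, not_and, not_not] at hno
        -- `M` is central in `powGen 2 G`, so the `2`-elements lie in `H`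
        have hKH : powGen 2 G ≤ H := by
          rw [Subgroup.closure_le]
          intro g hg
          have hg' : g ∈ M ⊔ H := hHT ▸ Subgroup.mem_top g
          rw [← SetLike.mem_coe, Subgroup.normal_mul] at hg'
          obtain ⟨m, hm, h, hh, hmh⟩ := Set.mem_mul.1 hg'
          obtain ⟨k, hk⟩ := hg
          have hgm : Commute g m :=
            ((Subgroup.mem_centralizer_iff.1 (hno g ⟨k, hk⟩)) m hm).symm
          have hhm : Commute m h := by
            rw [show h = m⁻¹ * g from by rw [← hmh, inv_mul_cancel_left]]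
            exact (Commute.refl m).inv_right.mul_right hgm.symm
          have h1 : m ^ 2 ^ k * h ^ 2 ^ k = 1 := by
            rw [← hhm.mul_pow, hmh, ← hk, pow_orderOf_eq_one]
          have h2 : m ^ 2 ^ k ∈ M ⊓ H := ⟨pow_mem hm _, by
            rw [eq_inv_of_mul_eq_one_left h1]; exact H.inv_mem (H.pow_mem hh _)⟩
          rw [hd, Subgroup.mem_bot] at h2
          have h3 : m = 1 := by
            rw [← orderOf_eq_one_iff]
            exact Nat.eq_one_of_dvd_coprimes (((Nat.coprime_primes Nat.prime_two hr).2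
              (Ne.symm hr2)).pow_left k) (orderOf_dvd_of_pow_eq_one h2)
              (orderOf_dvd_of_pow_eq_one (hMr m hm))
          rw [h3, one_mul] at hmh
          exact hmh ▸ hh
        refine hM.ne_bot (le_bot_iff.1 ?_)
        rw [← hd]
        exact le_inf le_rfl (hMK.trans hKH)
      obtain ⟨g', -, hg'C, hg'2⟩ := exists_half _ hgK hgC
      obtain ⟨l, hl1, hl⟩ := exists_inverted M hg'C hg'2
      have hg' : g' ∈ M ⊔ H := hHT ▸ Subgroup.mem_top g'
      rw [← SetLike.mem_coe, Subgroup.normal_mul] at hg'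
      obtain ⟨x, hx, h, hh, rfl⟩ := Set.mem_mul.1 hg'
      refine ⟨l, hl1, h, hh, fun m => ?_⟩
      rw [← hl m, ← conjBy_conjBy]
      exact (mem_stab.1 (le_stab M l hx) _).symm
    obtain ⟨χ, hχr, hχd⟩ := exists_real_split M H hd hHT l htH ht
    have hI : ¬ p ∣ (stab M l).index := hχd ▸ hreal χ hχr
    set I := stab M l
    obtain ⟨P₀⟩ : Nonempty (Sylow p I) := inferInstance
    set P := (P₀ : Subgroup I).map I.subtype
    have hPi : ¬ p ∣ P.index := by
      rw [Subgroup.index_map_subtype]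
      exact hp.out.not_dvd_mul P₀.not_dvd_index hI
    set R := P ⊓ T
    have hRi : ¬ p ∣ R.relIndex T := fun hd' => hPi (hd'.trans (by
      have h := Coprime.relIndex_dvd_of_normalizes (M := P) (K := T) le_top le_top
        (Subgroup.normalizer_eq_top (H := T) ▸ le_top)
      rwa [Subgroup.relIndex_top_right] at h))
    have hRp : IsPGroup p R := (P₀.2.map _).to_le inf_le_left
    have hQi' : ¬ p ∣ Q.relIndex T := fun hd' => hQi (hd'.trans
      ⟨_, (Subgroup.relIndex_mul_relIndex Q T U le_sup_left hTU).symm⟩)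
    obtain ⟨c, hc⟩ := MulAction.exists_smul_eq T
      ((hRp.of_equiv (Subgroup.subgroupOfEquivOfLe (inf_le_right : R ≤ T)).symm).toSylow hRi)
      ((hQp.of_equiv (Subgroup.subgroupOfEquivOfLe (le_sup_left : Q ≤ T)).symm).toSylow hQi')
    have h1 := congrArg (fun S : Sylow p T => (S : Subgroup T).map T.subtype) hc
    simp only [Sylow.coe_subgroup_smul] at h1
    have h1' : MulAut.conj (c : G) • R = Q := by
      have h3 := Coprime.conj_smul_map T.subtype c (R.subgroupOf T)
      rw [Subgroup.map_subgroupOf_eq_of_le inf_le_right] at h3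
      exact h3.trans (h1.trans (Subgroup.map_subgroupOf_eq_of_le le_sup_left))
    have hQI : Q ≤ I := by
      obtain ⟨u, hu, m, hm, hum⟩ := (Coprime.mem_sup_iff_of_le_normalizer hQM).1 c.2
      rw [← hum, map_mul, mul_smul, ← eq_inv_smul_iff, ← map_inv,
        Coprime.conj_smul_eq_self_of_mem_normalizer (inv_mem (Subgroup.le_normalizer hu))] at h1'
      rw [← h1', Coprime.conj_smul_le_iff]
      intro y hy
      have hmI := le_stab M l hm
      exact mul_mem (mul_mem hmI ((inf_le_left.trans (Subgroup.map_subtype_le _) : R ≤ I) hy))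
        (inv_mem hmI)
    exact absurd (hfix l fun q hq m => mem_stab.1 (hQI hq) m) hl1

omit [Fintype G] in
/-- A Sylow subgroup of a normal subgroup over `powGen 2 G` with `p`-power index is normal. -/
theorem sylow_normal {p : ℕ} [Fact p.Prime] [Finite G] (hsolv : Group.IsSolvable (powGen p G))
    (hreal : RealHyp p G) (U : Subgroup G) (hU : U.Normal) (hKU : powGen 2 G ≤ U)
    (hUp : ∃ a, (powGen 2 G).relIndex U = p ^ a) (Q : Sylow p U) : (Q : Subgroup U).Normal := by
  have h := sylow_normal_aux _ le_rfl hsolv hreal U hU hKU hUp ((Q : Subgroup U).map U.subtype)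
    (Subgroup.map_subtype_le _) (Q.2.map _) (by
      rw [Subgroup.relIndex, Subgroup.subgroupOf,
        Subgroup.comap_map_eq_self_of_injective U.subtype_injective]
      exact Q.not_dvd_index)
  have h2 := h.comap U.subtype
  rwa [Subgroup.comap_map_eq_self_of_injective U.subtype_injective] at h2

omit [Fintype G] in
theorem centralizer_aux {p : ℕ} [hp : Fact p.Prime] (hp2 : p ≠ 2) (n : ℕ) :
    ∀ {G : Type u} [Group G] [Finite G], Nat.card G ≤ n → RealHyp p G → ∀ (P : Sylow p G)
    (M : Subgroup G), M.Normal → M ≤ ⁅(P : Subgroup G), (P : Subgroup G)⁆ →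
    powGen 2 G ≤ Subgroup.centralizer (M : Set G) := by
  induction n with
  | zero =>
    intro G _ _ hG
    exact absurd (Nat.card_pos (α := G)) (by omega)
  | succ n ih =>
    intro G _ _ hG hreal P M hMn hMP
    classical
    haveI := hMn
    haveI := Fintype.ofFinite G
    haveI : Fact (Nat.Prime 2) := ⟨Nat.prime_two⟩
    by_cases hM : M = ⊥
    · intro x _
      rw [Subgroup.mem_centralizer_iff]
      intro y hy
      rw [hM, SetLike.mem_coe, Subgroup.mem_bot] at hy
      rw [hy, one_mul, mul_one]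
    have hMP' : M ≤ (P : Subgroup G) := hMP.trans (Subgroup.commutator_le_self _)
    have hMp : IsPGroup p M := P.2.to_le hMP'
    obtain ⟨N, hNM, hN⟩ := Base.exists_isMinimalNormal_le hM
    haveI := hN.normal
    have hNp : IsPGroup p N := hMp.to_le hNM
    haveI := hNp.isNilpotent
    haveI := hN.isMulCommutative inferInstance
    haveI := Fintype.ofFinite N
    -- `N` is centralised
    have hNc : ∀ g : G, (∃ k, orderOf g = 2 ^ k) → g ∈ Subgroup.centralizer (N : Set G) := by
      intro g hg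
      by_contra hgC
      obtain ⟨t, ht2, htC, htt⟩ := exists_half _ hg hgC
      obtain ⟨l, hl1, hl⟩ := exists_inverted N htC htt
      have hodd : Odd (Nat.card N) := by
        obtain ⟨k, hk⟩ := IsPGroup.iff_card.1 hNp
        rw [hk]
        exact (hp.out.odd_of_ne_two hp2).pow
      obtain ⟨χ, hχr, hχl⟩ := exists_real_odd N hodd l ht2 hl
      haveI := Fintype.ofFinite (P : Subgroup G)
      obtain ⟨μ, hμ, hμd⟩ := Blocks.PPrimeKernel.exists_constituent_degree (p := p)
        (isCharacter_restrict (P : Subgroup G) (isCharacter_of_irr χ.2))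
        (n := charDegree (χ : G → ℂ))
        (by rw [← CharApps.deg_eq]; rfl) (hreal χ hχr)
      have hμ1 : (μ : ↥(P : Subgroup G) → ℂ) 1 = 1 := by
        obtain ⟨d, -, hd, hdvd⟩ := irr_degree_dvd_card μ.2
        obtain ⟨a, ha⟩ := IsPGroup.iff_card.1 P.2
        obtain ⟨i, -, rfl⟩ := (Nat.dvd_prime_pow hp.out).1 (ha ▸ hdvd)
        rcases i with _ | i
        · simpa using hd
        · refine absurd ?_ hμd
          have e : ((charDegree (μ : ↥(P : Subgroup G) → ℂ) : ℕ) : ℂ) = ((p ^ (i + 1) : ℕ) : ℂ) := by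
            rw [← CharApps.deg_eq, hd]
          rw [Nat.cast_injective e]
          exact dvd_pow_self p i.succ_ne_zero
      obtain ⟨φ, hφ⟩ := CharsMore.exists_hom_of_linear ⟨isCharacter_of_irr μ.2, hμ1⟩
      have hker : N.subgroupOf (P : Subgroup G) ≤ CharApps.charKer μ := by
        intro x hx
        refine CharApps.mem_charKer.2 ?_
        rw [hμ1, ← hφ]
        show ((φ x : ℂˣ) : ℂ) = 1
        have hxc : x ∈ commutator (P : Subgroup G) := by
          have h := (hNM.trans hMP) hx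
          rw [← Subgroup.map_subtype_commutator] at h
          exact (Subgroup.mem_map_iff_mem (P : Subgroup G).subtype_injective).1 h
        rw [MonoidHom.mem_ker.1 (Abelianization.commutator_subset_ker φ hxc), Units.val_one]
      have hNker := Blocks.PPrimeKernel.le_charKer_of_over (hNM.trans hMP') hμ hker
      apply hχl
      rw [show (fun n : N => (χ : G → ℂ) n) =
        (χ : G → ℂ) 1 • ((principal N : IrrCharacter N) : N → ℂ) from
          funext fun n => (CharApps.mem_charKer.1 (hNker n.2)).trans (mul_one _).symm,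
        Chars.inner_smul_left]
      refine mul_eq_zero_of_right _ (inner_irr_ne (χ := principal N)
        (ψ := ⟨_, CharsMore.isIrrCharacter_linFun l⟩) fun e => hl1 ?_)
      exact MonoidHom.ext fun x => Units.ext (congrFun (congrArg Subtype.val e) x).symm
    rw [Subgroup.closure_le]
    intro g hg
    rw [SetLike.mem_coe, Subgroup.mem_centralizer_iff]
    intro m hm
    set π := QuotientGroup.mk' N
    have hπ : Function.Surjective π := QuotientGroup.mk'_surjective N
    have hlt : Nat.card (G ⧸ N) ≤ n := by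
      have h1 := N.index_mul_card
      rw [Subgroup.index_eq_card] at h1
      have h2 : 2 ≤ Nat.card N := by
        haveI : Nontrivial N := (Subgroup.nontrivial_iff_ne_bot N).2 hN.ne_bot
        exact Finite.one_lt_card
      have h3 : 0 < Nat.card (G ⧸ N) := Nat.card_pos
      nlinarith
    have h1 := ih hlt (realHyp_quotient N hreal) (P.mapSurjective hπ) (M.map π) (hMn.map π hπ) (by
      show M.map π ≤ ⁅(P : Subgroup G).map π, (P : Subgroup G).map π⁆
      rw [← Subgroup.map_commutator]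
      exact Subgroup.map_mono hMP)
    rw [← powGen_map π hπ Nat.prime_two] at h1
    have h2 := Subgroup.mem_centralizer_iff.1 (h1 ⟨g, Subgroup.subset_closure hg, rfl⟩) (π m)
      ⟨m, hm, rfl⟩
    have ha : g * m * g⁻¹ * m⁻¹ ∈ N := by
      rw [← QuotientGroup.eq_one_iff]
      show π (g * m * g⁻¹ * m⁻¹) = 1
      rw [map_mul, map_mul, map_mul, ← h2, map_inv, map_inv, mul_inv_cancel_right, mul_inv_cancel]
    set a := g * m * g⁻¹ * m⁻¹ with hadef
    have hga : g * a * g⁻¹ = a := by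
      rw [← Subgroup.mem_centralizer_iff.1 (hNc g hg) a ha, mul_inv_cancel_right]
    have hpow : ∀ j : ℕ, g ^ j * m * (g ^ j)⁻¹ = a ^ j * m := by
      intro j
      induction j with
      | zero => simp
      | succ j ihj =>
        calc g ^ (j + 1) * m * (g ^ (j + 1))⁻¹ = g * (g ^ j * m * (g ^ j)⁻¹) * g⁻¹ := by
              rw [pow_succ']; group
          _ = g * (a ^ j * m) * g⁻¹ := by rw [ihj]
          _ = g * a ^ j * g⁻¹ * (g * m * g⁻¹) := by group
          _ = (g * a * g⁻¹) ^ j * (a * m) := by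
              have e : g * m * g⁻¹ = a * m := by rw [hadef, inv_mul_cancel_right]
              rw [conj_pow, e]
          _ = a ^ (j + 1) * m := by rw [hga, pow_succ]; exact (mul_assoc _ _ _).symm
    obtain ⟨k, hk⟩ := hg
    have ha1 : a = 1 := by
      have h3 := hpow (2 ^ k)
      rw [← hk, pow_orderOf_eq_one, one_mul, inv_one, mul_one, hk, eq_comm, mul_eq_right] at h3
      obtain ⟨b, hb⟩ := hNp ⟨a, ha⟩
      rw [← orderOf_eq_one_iff]
      exact Nat.eq_one_of_dvd_coprimes
        ((((Nat.coprime_primes Nat.prime_two hp.out).2 (Ne.symm hp2)).pow_left k).pow_right b)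
        (orderOf_dvd_of_pow_eq_one h3) (orderOf_dvd_of_pow_eq_one (congrArg Subtype.val hb))
    have h4 := hpow 1
    rw [ha1, pow_one, pow_one, one_mul, mul_inv_eq_iff_eq_mul] at h4
    exact h4.symm

omit [Fintype G] in
theorem le_centralizer {p : ℕ} [Fact p.Prime] [Finite G] (hp2 : p ≠ 2) (hreal : RealHyp p G)
    (P : Sylow p G) (M : Subgroup G) (hM : M.Normal)
    (hMP : M ≤ ⁅(P : Subgroup G), (P : Subgroup G)⁆) :
    powGen 2 G ≤ Subgroup.centralizer (M : Set G) :=
  centralizer_aux hp2 _ le_rfl hreal P M hM hMP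

end CfsgLib.BlockApps.RealDeg
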