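import Cfsg.Agent.Lib.Glauberman.Relative
import Cfsg.Agent.Lib.BlockApps.RealDegrees
import Cfsg.Agent.Lib.CharApps.RealOrbits

/-!
# The Sylow correspondence on a normal subgroup
-/

set_option autoImplicit false
set_option linter.unusedSectionVars false
set_option linter.style.haveILetI false

namespace CfsgLib.BlockApps.RealCorr

open Cfsg CfsgLib CfsgLib.CharsMore CfsgLib.Glauberman

universe u

variable {G : Type u} [Group G] {p : ℕ}

/-- The normalizer of a Sylow subgroup. -/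
abbrev nor (P : Sylow p G) : Subgroup G := Subgroup.normalizer ((P : Subgroup G) : Set G)

variable (K : Subgroup G) [K.Normal] (P : Sylow p G)

/-- Restriction from `K` to its intersection with the normalizer. -/
def res (θ : K → ℂ) : (K.subgroupOf (nor P)) → ℂ := fun d => θ ⟨((d : nor P) : G), d.2⟩

variable [Fintype G]

/-- Invariance under the Sylow subgroup of a function on `K`. -/
abbrev PInvK (θ : K → ℂ) : Prop := (P : Subgroup G) ≤ inertia K θ

/-- Invariance under the Sylow subgroup of a function on `K ∩ N`. -/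
abbrev PInvD [Fintype (nor P)] (β : (K.subgroupOf (nor P)) → ℂ) : Prop :=
  (P : Subgroup G).subgroupOf (nor P) ≤ inertia (K.subgroupOf (nor P)) β

variable [Fintype K] [Fintype (nor P)] [Fintype (K.subgroupOf (nor P))]

/-- The multiplicity is prime to `p`. -/
def Link (θ : IrrCharacter K) (β : IrrCharacter (K.subgroupOf (nor P))) : Prop :=
  ∃ m : ℕ, classInner (res K P (θ : K → ℂ)) (β : (K.subgroupOf (nor P)) → ℂ) = m ∧ ¬ p ∣ m

variable [hp : Fact p.Prime]

theorem link_spec (hR : ((P : Subgroup G) ⊓ K).Normal) :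
    (∀ θ : IrrCharacter K, PInvK K P (θ : K → ℂ) →
      ∃ β : IrrCharacter (K.subgroupOf (nor P)), PInvD K P (β : (K.subgroupOf (nor P)) → ℂ) ∧ Link K P θ β ∧
        (∀ β' : IrrCharacter (K.subgroupOf (nor P)), PInvD K P (β' : (K.subgroupOf (nor P)) → ℂ) →
          Link K P θ β' → β' = β) ∧
        ((charDegree (θ : K → ℂ) : ZMod p) = charDegree (β : (K.subgroupOf (nor P)) → ℂ) ∨
          (charDegree (θ : K → ℂ) : ZMod p) = -(charDegree (β : (K.subgroupOf (nor P)) → ℂ) : ZMod p))) ∧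
    (∀ β : IrrCharacter (K.subgroupOf (nor P)), PInvD K P (β : (K.subgroupOf (nor P)) → ℂ) →
      ∃ θ : IrrCharacter K, PInvK K P (θ : K → ℂ) ∧ Link K P θ β) ∧
    (∀ (θ θ' : IrrCharacter K) (β : IrrCharacter (K.subgroupOf (nor P))), PInvK K P (θ : K → ℂ) →
      PInvK K P (θ' : K → ℂ) → PInvD K P (β : (K.subgroupOf (nor P)) → ℂ) →
      Link K P θ β → Link K P θ' β → θ = θ') := by
  classical
  have hPK : (P : Subgroup G) ≤ Subgroup.normalizer (K : Set G) :=
    Subgroup.normalizer_eq_top (H := K) ▸ le_top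
  let φ := conjHom (P : Subgroup G) K hPK
  let Q := ((P : Subgroup G) ⊓ K).subgroupOf K
  let C := (nor P).subgroupOf K
  have hQn : Q.Normal := hR.subgroupOf K
  have h : RelFix p φ Q C := by
    refine ⟨P.2, (P.2.to_le inf_le_left).comap_of_injective K.subtype K.subtype_injective,
      fun hd => ?_, fun k => ⟨fun hk s => ?_, fun hk => ?_⟩, fun s n hn => ?_⟩
    · refine P.not_dvd_index (hd.trans ?_)
      rw [← (P : Subgroup G).relIndex_top_right]
      exact Coprime.relIndex_dvd_of_normalizes le_top le_top hPK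
    · refine ⟨?_, (φ (s : (P : Subgroup G)) k * k⁻¹).2⟩
      show (s : G) * k * (s : G)⁻¹ * (k : G)⁻¹ ∈ (P : Subgroup G)
      have h1 := (Subgroup.mem_normalizer_iff.1 hk ((s : G)⁻¹)).1 ((P : Subgroup G).inv_mem s.2)
      rw [mul_assoc, mul_assoc, ← mul_assoc (k : G)]
      exact (P : Subgroup G).mul_mem s.2 h1
    · refine Subgroup.mem_normalizer_fintype fun n hn => ?_
      have h1 : ((⟨n, hn⟩ : (P : Subgroup G))⁻¹ : (P : Subgroup G)) = ⟨n⁻¹, (P : Subgroup G).inv_mem hn⟩ := rfl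
      have h2 : n⁻¹ * (k : G) * n⁻¹⁻¹ * (k : G)⁻¹ ∈ (P : Subgroup G) :=
        (hk (⟨n, hn⟩ : (P : Subgroup G))⁻¹).1
      have h3 := (P : Subgroup G).mul_mem hn h2
      show (k : G) * n * (k : G)⁻¹ ∈ (P : Subgroup G)
      simpa [mul_assoc] using h3
    · exact hR.conj_mem _ hn (s : G)
  let e : (K.subgroupOf (nor P)) ≃* C :=
    { toFun := fun d => ⟨⟨((d : nor P) : G), d.2⟩, d.1.2⟩
      invFun := fun c => ⟨⟨((c : K) : G), c.2⟩, c.1.2⟩
      left_inv := fun d => rfl
      right_inv := fun c => rfl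
      map_mul' := fun a b => rfl }
  haveI := Fintype.ofFinite C
  let tr : IrrCharacter (K.subgroupOf (nor P)) → IrrCharacter C := fun β =>
    ⟨fun c => (β : (K.subgroupOf (nor P)) → ℂ) (e.symm c),
      Chars.isIrrCharacter_comp e.symm.toMonoidHom e.symm.surjective β.2⟩
  have htr : Function.Bijective tr := by
    refine ⟨fun a b hab => Subtype.ext (funext fun d => ?_), fun ξ =>
      ⟨⟨fun d => (ξ : C → ℂ) (e d), Chars.isIrrCharacter_comp e.toMonoidHom e.surjective ξ.2⟩,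
        Subtype.ext (funext fun c => rfl)⟩⟩
    exact congrFun (congrArg Subtype.val hab) (e d)
  have hK : ∀ θ : K → ℂ, Inv φ θ ↔ PInvK K P θ := fun θ =>
    ⟨fun hθ s hs => (mem_inertia K).2 fun k => hθ ⟨s, hs⟩ k,
      fun hθ s k => (mem_inertia K).1 (hθ s.2) k⟩
  have hD : ∀ β : IrrCharacter (K.subgroupOf (nor P)),
      Inv (restrictAct φ C h.stableC) (tr β : C → ℂ) ↔ PInvD K P (β : (K.subgroupOf (nor P)) → ℂ) :=
    fun β => ⟨fun hβ s hs => (mem_inertia _).2 fun d => hβ ⟨(s : G), hs⟩ (e d),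
      fun hβ s c => (mem_inertia _).1
        (hβ (x := (⟨(s : G), Subgroup.le_normalizer s.2⟩ : nor P)) s.2) (e.symm c)⟩
  have hlink : ∀ θ β, Link K P θ β ↔
      ¬ p ∣ multNat (resC C (θ : K → ℂ)) (tr β : C → ℂ) := by
    intro θ β
    have h1 : classInner (res K P (θ : K → ℂ)) (β : (K.subgroupOf (nor P)) → ℂ) =
        (multNat (resC C (θ : K → ℂ)) (tr β : C → ℂ) : ℂ) := by
      have hc : IsCharacter C (resC C (θ : K → ℂ)) :=
        Chars.isCharacter_restrict C (Chars.isCharacter_of_irr θ.2)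
      rw [← inner_eq_multNat hc (Chars.isCharacter_of_irr (tr β).2), ← inner_comp_equiv e]
      rfl
    exact ⟨fun ⟨m, hm, hd⟩ => by rwa [Nat.cast_injective (hm.symm.trans h1)] at hd,
      fun hd => ⟨_, h1, hd⟩⟩
  obtain ⟨h1, h2, h3⟩ := relative_correspondence h
  refine ⟨fun θ hθ => ?_, fun β hβ => ?_, fun θ θ' β hθ hθ' hβ hl hl' =>
    h3 θ θ' (tr β) ((hK _).2 hθ) ((hK _).2 hθ') ((hD β).2 hβ) ((hlink θ β).1 hl) ((hlink θ' β).1 hl')⟩
  · obtain ⟨ξ, hξ, hm, hall⟩ := h1 θ ((hK _).2 hθ)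
    obtain ⟨β, rfl⟩ := htr.2 ξ
    refine ⟨β, (hD β).1 hξ, (hlink θ β).2 fun hd => ?_, fun β' hβ' hl => ?_, ?_⟩
    · rw [(CharP.cast_eq_zero_iff (ZMod p) p _).2 hd] at hm
      exact hm.elim zero_ne_one fun e => one_ne_zero (neg_eq_zero.1 e.symm)
    · by_contra hne
      exact (hlink θ β').1 hl (hall _ ((hD β').2 hβ') fun e => hne (htr.1 e))
    · have hdeg : charDegree (tr β : C → ℂ) = charDegree (β : (K.subgroupOf (nor P)) → ℂ) := rfl
      rw [relative_degree h ((hK _).2 hθ) hξ hall, hdeg]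
      rcases hm with e | e <;> rw [e] <;> simp
  · obtain ⟨θ, hθ, hd⟩ := h2 (tr β) ((hD β).2 hβ)
    exact ⟨θ, (hK _).1 hθ, (hlink θ β).2 hd⟩

end CfsgLib.BlockApps.RealCorr
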