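import Cfsg.Agent.Lib.BlockApps.RealCorrLink

/-!
# Real characters and real classes against the normalizer of a Sylow subgroup
-/

set_option autoImplicit false
set_option linter.unusedSectionVars false
set_option linter.style.haveILetI false

namespace CfsgLib.BlockApps.RealCorr

open Cfsg CfsgLib CfsgLib.CharsMore CfsgLib.BlockApps.RealDeg CfsgLib.CharApps.RealOrbits
open scoped ComplexConjugate Pointwise

universe u

section Real

variable {H : Type*} [Group H] [Fintype H] (L : Subgroup H) [L.Normal] [Fintype L]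

theorem exists_real_under (hodd : Odd L.index) (χ : IrrCharacter H)
    (hχ : ∀ g, ((χ : H → ℂ) g).im = 0) :
    ∃ θ : IrrCharacter L, (∀ k, ((θ : L → ℂ) k).im = 0) ∧
      classInner (fun k : L => (χ : H → ℂ) k) (θ : L → ℂ) ≠ 0 := by
  obtain ⟨η, hη⟩ := Chars.exists_constituent
    (Chars.isCharacter_restrict L (Chars.isCharacter_of_irr χ.2)) fun h0 => by
      have := congrFun h0 1
      exact Chars.irr_degree_ne_zero χ.2 (by simpa using this)
  have h2 : classInner (fun k : L => (χ : H → ℂ) k) (Chars.conjIrr η : L → ℂ) ≠ 0 := by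
    have e : classInner (fun k : L => (χ : H → ℂ) k) (Chars.conjIrr η : L → ℂ) =
        conj (classInner (fun k : L => (χ : H → ℂ) k) (η : L → ℂ)) := by
      simp only [Chars.inner_def, map_mul, map_sum, map_inv₀, map_natCast]
      refine congrArg _ (Finset.sum_congr rfl fun k _ => ?_)
      rw [Complex.conj_eq_iff_im.mpr (hχ k)]
      rfl
    rw [e]
    exact (map_ne_zero _).mpr hη
  obtain ⟨g, hg⟩ := restrict_constituents_conj L χ.2 η.2 (Chars.conjIrr η).2 hη h2
  refine ⟨η, (Chars.conjIrr_eq_iff η).mp ?_, hη⟩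
  letI := irrAction L
  refine (fixed_of_twist L hodd (Chars.conjIrr (G := L)) Chars.conjIrr_conjIrr
    (conjIrr_smul L) (smul_irr_mem L) (g := g) (x := η) ?_).2
  have hg' : g⁻¹ • η = Chars.conjIrr η := Subtype.ext (by
    show conjFn L g⁻¹⁻¹ (η : L → ℂ) = _
    rw [inv_inv]
    exact hg)
  rw [← hg', smul_inv_smul]

theorem inner_real_over (hodd : Odd L.index) (θ : IrrCharacter L)
    (hθ : ∀ k, ((θ : L → ℂ) k).im = 0) (χ : IrrCharacter H) (hχ : ∀ g, ((χ : H → ℂ) g).im = 0)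
    (h : classInner (fun k : L => (χ : H → ℂ) k) (θ : L → ℂ) ≠ 0) :
    classInner (fun k : L => (χ : H → ℂ) k) (θ : L → ℂ) = 1 := by
  classical
  haveI := Chars.irrFintype H
  obtain ⟨χ₀, -, -, hν, huniq⟩ := existsUnique_real_over L hodd θ hθ
  obtain rfl := huniq χ hχ h
  have hcl := Chars.isClassFunction_irr χ
  have hsum := fsInd_eq_sum (Chars.isClassFunction_indFun L (θ : L → ℂ))
  rw [fsInd_indFun L hodd, Finset.sum_eq_single χ (fun b _ hb => ?_)
    (fun hh => absurd (Finset.mem_univ _) hh), hν] at hsum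
  · have hne : CharApps.fsInd (θ : L → ℂ) ≠ 0 := by
      rcases CharApps.fsInd_of_real θ (fun k => Complex.conj_eq_iff_im.mpr (hθ k)) with e | e <;>
        simp [e]
    have h1 : classInner (indFun L (θ : L → ℂ)) (χ : H → ℂ) = 1 :=
      (mul_eq_right₀ hne).1 hsum.symm
    rw [Chars.inner_indFun L _ hcl] at h1
    rw [← Chars.inner_conj, h1, map_one]
  · by_contra hne
    obtain ⟨h1, h2⟩ := mul_ne_zero_iff.mp hne
    refine hb (huniq b (fun g => Complex.conj_eq_iff_im.mp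
      (by_contra fun hc => h2 (CharApps.fsInd_eq_zero b ⟨g, hc⟩))) fun h0 => h1 ?_)
    rw [Chars.inner_indFun L _ (Chars.isClassFunction_irr b), ← Chars.inner_conj, h0, map_zero]

theorem charDegree_real_over (hodd : Odd L.index) (θ : IrrCharacter L)
    (hθ : ∀ k, ((θ : L → ℂ) k).im = 0) (χ : IrrCharacter H) (hχ : ∀ g, ((χ : H → ℂ) g).im = 0)
    (h : classInner (fun k : L => (χ : H → ℂ) k) (θ : L → ℂ) ≠ 0) :
    charDegree (χ : H → ℂ) = (inertia L (θ : L → ℂ)).index * charDegree (θ : L → ℂ) := by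
  apply Nat.cast_injective (R := ℂ)
  push_cast
  rw [← CharApps.deg_eq χ, ← CharApps.deg_eq θ, clifford_degree L χ.2 θ.2 h,
    inner_real_over L hodd θ hθ χ hχ h, one_mul]

/-- The conjugate of an irreducible character. -/
def cIrr (g : H) (θ : IrrCharacter L) : IrrCharacter L :=
  ⟨conjFn L g (θ : L → ℂ), isIrr_conjFn L g θ.2⟩

theorem charRel_iff_conjFn (θ η : {θ : IrrCharacter L // ∀ k, ((θ : L → ℂ) k).im = 0}) :
    CharRel L θ η ↔ ∃ g : H, cIrr L g η.1 = θ.1 :=
  ⟨fun ⟨g, hg⟩ => ⟨g, Subtype.ext (funext fun k => hg k _ rfl)⟩, fun ⟨g, hg⟩ => ⟨g, fun k k' e => by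
    rw [← hg, show k' = conjBy L g k from Subtype.ext e]
    rfl⟩⟩

theorem cIrr_cIrr (g h : H) (θ : IrrCharacter L) : cIrr L h (cIrr L g θ) = cIrr L (g * h) θ :=
  Subtype.ext (conjFn_mul L g h _).symm

theorem cIrr_one (θ : IrrCharacter L) : cIrr L 1 θ = θ := Subtype.ext (conjFn_one L _)

theorem charRel_equivalence : Equivalence (CharRel L) := by
  refine ⟨fun θ => (charRel_iff_conjFn L θ θ).2 ⟨1, cIrr_one L _⟩, fun {θ η} h => ?_,
    fun {a b c} h h' => ?_⟩
  · obtain ⟨g, hg⟩ := (charRel_iff_conjFn L θ η).1 h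
    exact (charRel_iff_conjFn L η θ).2 ⟨g⁻¹, by rw [← hg, cIrr_cIrr, mul_inv_cancel, cIrr_one]⟩
  · obtain ⟨g, hg⟩ := (charRel_iff_conjFn L a b).1 h
    obtain ⟨g', hg'⟩ := (charRel_iff_conjFn L b c).1 h'
    exact (charRel_iff_conjFn L a c).2 ⟨g' * g, by rw [← cIrr_cIrr, hg', hg]⟩

theorem elemRel_equivalence : Equivalence (ElemRel L) :=
  ⟨fun x => ⟨1, by simp⟩, fun ⟨g, hg⟩ => ⟨g⁻¹, by simp [hg, mul_assoc]⟩,
    fun ⟨g, hg⟩ ⟨g', hg'⟩ => ⟨g' * g, by simp [hg', hg, mul_assoc]⟩⟩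

end Real

section Fin

variable {G : Type u} [Group G] [Fintype G] {p : ℕ} [hp : Fact p.Prime]
variable (K : Subgroup G) [K.Normal] (P : Sylow p G)

theorem exists_mem_mul_mem_nor (I : Subgroup G) (hPI : (P : Subgroup G) ≤ I) {g : G}
    (hg : ∀ s ∈ (P : Subgroup G), g * s * g⁻¹ ∈ I) : ∃ h ∈ I, h * g ∈ nor P := by
  have hle : ((g • P : Sylow p G) : Subgroup G) ≤ I := by
    rw [Sylow.coe_subgroup_smul]
    rintro _ ⟨s, hs, rfl⟩
    simpa using hg s hs
  obtain ⟨h, hh⟩ := MulAction.exists_smul_eq I ((g • P).subtype hle) (P.subtype hPI)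
  refine ⟨h, h.2, ?_⟩
  rw [Sylow.smul_subtype] at hh
  have h2 := Sylow.subtype_injective hh
  rw [show h • (g • P) = ((h : G) * g) • P from (mul_smul (h : G) g P).symm] at h2
  exact Sylow.smul_eq_iff_mem_normalizer.1 h2

theorem index_modEq (I : Subgroup G) (hPI : (P : Subgroup G) ≤ I) :
    (I.index : ZMod p) = ((I.subgroupOf (nor P)).index : ZMod p) := by
  let f : (nor P) ⧸ I.subgroupOf (nor P) → MulAction.fixedPoints (P : Subgroup G) (G ⧸ I) :=
    Quotient.lift (fun n => ⟨((n : G) : G ⧸ I), fun s => by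
      show (((s : G) * n : G) : G ⧸ I) = ((n : G) : G ⧸ I)
      rw [QuotientGroup.eq]
      apply hPI
      have h1 := (Subgroup.mem_normalizer_iff''.1 n.2 ((s : G)⁻¹)).1
        ((P : Subgroup G).inv_mem s.2)
      simpa [mul_assoc] using h1⟩) fun a b hab => Subtype.ext (QuotientGroup.eq.2
        (by simpa [Subgroup.mem_subgroupOf] using QuotientGroup.leftRel_apply.1 hab))
  have hf : Function.Bijective f := by
    constructor
    · intro x y
      induction x using QuotientGroup.induction_on with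
      | H a =>
        induction y using QuotientGroup.induction_on with
        | H b =>
          intro h
          refine QuotientGroup.eq.2 ?_
          have h' := QuotientGroup.eq.1 (congrArg Subtype.val h : ((a : G) : G ⧸ I) = (b : G))
          exact h'
    · rintro ⟨x, hx⟩
      induction x using QuotientGroup.induction_on with
      | H g =>
        obtain ⟨h, hh, hn⟩ := exists_mem_mul_mem_nor P I hPI (g := g⁻¹) fun s hs => by
          have h1 : (((s : G) * g : G) : G ⧸ I) = (g : G ⧸ I) := hx ⟨s, hs⟩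
          have h2 := QuotientGroup.eq.1 h1.symm
          simpa [mul_assoc] using h2
        refine ⟨((⟨(h * g⁻¹)⁻¹, (nor P).inv_mem hn⟩ : nor P) : (nor P) ⧸ I.subgroupOf (nor P)),
          Subtype.ext (QuotientGroup.eq.2 ?_)⟩
        simpa [mul_assoc] using hh
  rw [ZMod.natCast_eq_natCast_iff, Subgroup.index_eq_card, Subgroup.index_eq_card,
    Nat.card_congr (Equiv.ofBijective f hf)]
  exact P.2.card_modEq_card_fixedPoints (G ⧸ I)

/-- The standing hypotheses. -/
structure Hyp : Prop where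
  odd : Odd K.index
  inter : ((P : Subgroup G) ⊓ K).Normal
  real : RealHyp p G

theorem odd_nor (hodd : Odd K.index) : Odd (K.subgroupOf (nor P)).index :=
  hodd.of_dvd_nat (Subgroup.relIndex_dvd_index_of_normal K (nor P))

variable [Fintype K]

theorem real_prime_to (h : Hyp K P) (θ : IrrCharacter K) (hθ : ∀ k, ((θ : K → ℂ) k).im = 0) :
    ¬ p ∣ (inertia K (θ : K → ℂ)).index ∧ ¬ p ∣ charDegree (θ : K → ℂ) := by
  obtain ⟨χ, hχ, hov, -, -⟩ := existsUnique_real_over K h.odd θ hθ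
  have h1 := h.real χ hχ
  rw [charDegree_real_over K h.odd θ hθ χ hχ hov] at h1
  exact ⟨fun hd => h1 (hd.mul_right _), fun hd => h1 (hd.mul_left _)⟩

theorem exists_pinv_conj (h : Hyp K P) (θ : IrrCharacter K) (hθ : ∀ k, ((θ : K → ℂ) k).im = 0) :
    ∃ g : G, PInvK K P (cIrr K g θ : K → ℂ) := by
  set I := inertia K (θ : K → ℂ)
  obtain ⟨Q⟩ : Nonempty (Sylow p I) := inferInstance
  have hQ : IsPGroup p ((Q : Subgroup I).map I.subtype) := Q.2.map _
  have hQi : ¬ p ∣ ((Q : Subgroup I).map I.subtype).index := by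
    rw [Subgroup.index_map_subtype]
    exact hp.out.not_dvd_mul Q.not_dvd_index (real_prime_to K P h θ hθ).1
  obtain ⟨g, hg⟩ := MulAction.exists_smul_eq G P (hQ.toSylow hQi)
  refine ⟨g, fun s hs => (mem_inertia K).2 fun k => ?_⟩
  have h1 : g * s * g⁻¹ ∈ I := by
    apply Subgroup.map_subtype_le (Q : Subgroup I)
    have h2 : g * s * g⁻¹ ∈ ((g • P : Sylow p G) : Subgroup G) := by
      rw [Sylow.coe_subgroup_smul]
      exact ⟨s, hs, by simp⟩
    rwa [hg, IsPGroup.toSylow_coe] at h2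
  show (θ : K → ℂ) (conjBy K g (conjBy K s k)) = (θ : K → ℂ) (conjBy K g k)
  rw [show conjBy K g (conjBy K s k) = conjBy K (g * s * g⁻¹) (conjBy K g k) from
    Subtype.ext (by simp [mul_assoc])]
  exact (mem_inertia K).1 h1 _

theorem fusion {θ : IrrCharacter K} (hθ : PInvK K P (θ : K → ℂ)) {g : G}
    (hg : PInvK K P (cIrr K g θ : K → ℂ)) : ∃ n : nor P, cIrr K (n : G) θ = cIrr K g θ := by
  obtain ⟨h, hh, hn⟩ := exists_mem_mul_mem_nor P (inertia K (θ : K → ℂ)) hθ (g := g)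
    fun s hs => (mem_inertia K).2 fun k => by
      have h1 : (θ : K → ℂ) (conjBy K g (conjBy K s (conjBy K g⁻¹ k))) =
          (θ : K → ℂ) (conjBy K g (conjBy K g⁻¹ k)) := (mem_inertia K).1 (hg hs) _
      rw [show conjBy K (g * s * g⁻¹) k = conjBy K g (conjBy K s (conjBy K g⁻¹ k)) from
        Subtype.ext (by simp [mul_assoc]), h1]
      exact congrArg _ (Subtype.ext (by simp [mul_assoc]))
  refine ⟨⟨h * g, hn⟩, ?_⟩
  rw [← cIrr_cIrr]
  exact congrArg _ (Subtype.ext hh)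

variable [Fintype (nor P)] [Fintype (K.subgroupOf (nor P))]

theorem link_conj (n : nor P) {θ : IrrCharacter K} {β : IrrCharacter (K.subgroupOf (nor P))}
    (h : Link K P θ β) : Link K P (cIrr K (n : G) θ) (cIrr (K.subgroupOf (nor P)) n β) := by
  obtain ⟨m, hm, hd⟩ := h
  refine ⟨m, ?_, hd⟩
  show classInner (conjFn (K.subgroupOf (nor P)) n (res K P (θ : K → ℂ))) _ = _
  rw [← hm]
  exact inner_conjFn _ n _ _

theorem pinvK_conj (n : nor P) {θ : IrrCharacter K} (h : PInvK K P (θ : K → ℂ)) :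
    PInvK K P (cIrr K (n : G) θ : K → ℂ) := fun s hs => (mem_inertia K).2 fun k => by
  have hs' : (n : G) * s * (n : G)⁻¹ ∈ (P : Subgroup G) :=
    (Subgroup.mem_normalizer_iff.1 n.2 s).1 hs
  show (θ : K → ℂ) (conjBy K n (conjBy K s k)) = (θ : K → ℂ) (conjBy K n k)
  rw [show conjBy K (n : G) (conjBy K s k) = conjBy K ((n : G) * s * (n : G)⁻¹) (conjBy K n k) from
    Subtype.ext (by simp [mul_assoc])]
  exact (mem_inertia K).1 (h hs') _

theorem pinvD_conj (n : nor P) {β : IrrCharacter (K.subgroupOf (nor P))}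
    (h : PInvD K P (β : (K.subgroupOf (nor P)) → ℂ)) :
    PInvD K P (cIrr (K.subgroupOf (nor P)) n β : (K.subgroupOf (nor P)) → ℂ) := fun s hs =>
  (mem_inertia _).2 fun d => by
  have hs' : n * s * n⁻¹ ∈ (P : Subgroup G).subgroupOf (nor P) :=
    (Subgroup.mem_normalizer_iff.1 n.2 (s : G)).1 hs
  show (β : (K.subgroupOf (nor P)) → ℂ) (conjBy _ n (conjBy _ s d)) =
    (β : (K.subgroupOf (nor P)) → ℂ) (conjBy _ n d)
  rw [show conjBy (K.subgroupOf (nor P)) n (conjBy _ s d) =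
    conjBy _ (n * s * n⁻¹) (conjBy _ n d) from Subtype.ext (by simp [mul_assoc])]
  exact (mem_inertia _).1 (h hs') _

theorem link_real (hR : ((P : Subgroup G) ⊓ K).Normal) {θ : IrrCharacter K}
    {β : IrrCharacter (K.subgroupOf (nor P))} (hθ : PInvK K P (θ : K → ℂ))
    (hβ : PInvD K P (β : (K.subgroupOf (nor P)) → ℂ)) (h : Link K P θ β) :
    (∀ k, ((θ : K → ℂ) k).im = 0) ↔ ∀ d, ((β : (K.subgroupOf (nor P)) → ℂ) d).im = 0 := by
  have hflip : Link K P (Chars.conjIrr θ) (Chars.conjIrr β) := by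
    obtain ⟨m, hm, hd⟩ := h
    refine ⟨m, ?_, hd⟩
    rw [← Complex.conj_natCast m, ← hm]
    simp only [Chars.inner_def, map_mul, map_sum, map_inv₀, map_natCast]
    exact congrArg _ (Finset.sum_congr rfl fun d _ => rfl)
  have hθ' : PInvK K P (Chars.conjIrr θ : K → ℂ) := fun s hs => (mem_inertia K).2 fun k =>
    congrArg conj ((mem_inertia K).1 (hθ hs) k)
  have hβ' : PInvD K P (Chars.conjIrr β : (K.subgroupOf (nor P)) → ℂ) := fun s hs =>
    (mem_inertia _).2 fun k => congrArg conj ((mem_inertia _).1 (hβ hs) k)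
  obtain ⟨hto, -, hinj⟩ := link_spec K P hR
  refine ⟨fun hr => (Chars.conjIrr_eq_iff β).1 ?_, fun hr => (Chars.conjIrr_eq_iff θ).1 ?_⟩
  · rw [(Chars.conjIrr_eq_iff θ).2 hr] at hflip
    obtain ⟨γ, -, -, huniq, -⟩ := hto θ hθ
    rw [huniq _ hβ' hflip, huniq _ hβ h]
  · rw [(Chars.conjIrr_eq_iff β).2 hr] at hflip
    exact hinj _ _ β hθ' hθ hβ hflip h

theorem inertia_link (hR : ((P : Subgroup G) ⊓ K).Normal) {θ : IrrCharacter K}
    {β : IrrCharacter (K.subgroupOf (nor P))} (hθ : PInvK K P (θ : K → ℂ))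
    (hβ : PInvD K P (β : (K.subgroupOf (nor P)) → ℂ)) (h : Link K P θ β) :
    inertia (K.subgroupOf (nor P)) (β : (K.subgroupOf (nor P)) → ℂ) =
      (inertia K (θ : K → ℂ)).subgroupOf (nor P) := by
  obtain ⟨hto, -, hinj⟩ := link_spec K P hR
  ext n
  rw [Subgroup.mem_subgroupOf]
  constructor
  · intro hn
    have h1 := link_conj K P n h
    rw [show cIrr (K.subgroupOf (nor P)) n β = β from Subtype.ext hn] at h1
    exact congrArg Subtype.val (hinj _ _ β (pinvK_conj K P n hθ) hθ hβ h1 h)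
  · intro hn
    have h1 := link_conj K P n h
    rw [show cIrr K (n : G) θ = θ from Subtype.ext hn] at h1
    obtain ⟨γ, -, -, huniq, -⟩ := hto θ hθ
    exact congrArg Subtype.val ((huniq _ (pinvD_conj K P n hβ) h1).trans (huniq _ hβ h).symm)

theorem not_dvd_index_sylow_in_nor : ¬ p ∣ ((P : Subgroup G).subgroupOf (nor P)).index :=
  (P.subtype Subgroup.le_normalizer).not_dvd_index

theorem pinvD_of_not_dvd (β : IrrCharacter (K.subgroupOf (nor P)))
    (h : ¬ p ∣ (inertia (K.subgroupOf (nor P)) (β : (K.subgroupOf (nor P)) → ℂ)).index) :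
    PInvD K P (β : (K.subgroupOf (nor P)) → ℂ) := by
  set I := inertia (K.subgroupOf (nor P)) (β : (K.subgroupOf (nor P)) → ℂ)
  set S := (P : Subgroup G).subgroupOf (nor P)
  haveI : S.Normal := Subgroup.normal_in_normalizer
  have hd := Coprime.relIndex_dvd_of_normalizes (M := I) (K := S) (L := ⊤) le_top le_top
    (Subgroup.normalizer_eq_top (H := S) ▸ le_top)
  rw [Subgroup.relIndex_top_right] at hd
  have hS : IsPGroup p S := P.2.comap_of_injective _ (nor P).subtype_injective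
  obtain ⟨k, hk⟩ := IsPGroup.iff_card.1 hS
  obtain ⟨i, -, hi⟩ := (Nat.dvd_prime_pow hp.out).1 (hk ▸ (I ⊓ S).relIndex_dvd_card S)
  have h1 : (I ⊓ S).relIndex S = 1 := by
    rcases Nat.eq_zero_or_pos i with h0 | h0
    · rw [hi, h0, pow_zero]
    · exact absurd ((dvd_pow_self p h0.ne').trans (hi ▸ hd)) h
  exact (Subgroup.relIndex_eq_one.1 h1).trans inf_le_left

/-- Real characters of the group against those of degree prime to `p` of the normalizer. -/
theorem exists_bijection (h : Hyp K P) :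
    ∃ f : {χ : IrrCharacter G // ∀ g : G, ((χ : G → ℂ) g).im = 0} →
        {ξ : IrrCharacter (nor P) // (∀ n, ((ξ : nor P → ℂ) n).im = 0) ∧
          ¬ p ∣ charDegree (ξ : nor P → ℂ)},
      Function.Bijective f ∧ ∀ χ,
        ((charDegree ((f χ).1 : nor P → ℂ) : ZMod p) = (charDegree (χ.1 : G → ℂ) : ZMod p) ∨
          (charDegree ((f χ).1 : nor P → ℂ) : ZMod p) = -(charDegree (χ.1 : G → ℂ) : ZMod p)) := by
  classical
  set D := K.subgroupOf (nor P) with hD
  obtain ⟨hto, hfrom, hinj⟩ := link_spec K P h.inter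
  have hoddD := odd_nor K P h.odd
  have hex : ∀ χ : {χ : IrrCharacter G // ∀ g : G, ((χ : G → ℂ) g).im = 0},
      ∃ (ξ : {ξ : IrrCharacter (nor P) // (∀ n, ((ξ : nor P → ℂ) n).im = 0) ∧
          ¬ p ∣ charDegree (ξ : nor P → ℂ)}) (θ : IrrCharacter K) (β : IrrCharacter D),
        (∀ k, ((θ : K → ℂ) k).im = 0) ∧ PInvK K P (θ : K → ℂ) ∧ PInvD K P (β : D → ℂ) ∧
        Link K P θ β ∧ classInner (fun k : K => (χ.1 : G → ℂ) k) (θ : K → ℂ) ≠ 0 ∧
        classInner (fun d : D => (ξ.1 : nor P → ℂ) d) (β : D → ℂ) ≠ 0 ∧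
        ((charDegree (ξ.1 : nor P → ℂ) : ZMod p) = (charDegree (χ.1 : G → ℂ) : ZMod p) ∨
          (charDegree (ξ.1 : nor P → ℂ) : ZMod p) = -(charDegree (χ.1 : G → ℂ) : ZMod p)) := by
    intro χ
    obtain ⟨θ₀, hθ₀, hov₀⟩ := exists_real_under K h.odd χ.1 χ.2
    obtain ⟨g, hg⟩ := exists_pinv_conj K P h θ₀ hθ₀
    have hθ : ∀ k, ((cIrr K g θ₀ : K → ℂ) k).im = 0 := fun k => hθ₀ _
    have hov : classInner (fun k : K => (χ.1 : G → ℂ) k) (cIrr K g θ₀ : K → ℂ) ≠ 0 := by
      show classInner _ (conjFn K g (θ₀ : K → ℂ)) ≠ 0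
      rw [inner_restrict_conjFn K (Chars.isClassFunction_irr χ.1)]
      exact hov₀
    obtain ⟨β, hβ, hl, -, hdeg⟩ := hto _ hg
    have hβr := (link_real K P h.inter hg hβ hl).1 hθ
    obtain ⟨ξ, hξ, hξov, -, -⟩ := existsUnique_real_over D hoddD β hβr
    have hξd := charDegree_real_over D hoddD β hβr ξ hξ hξov
    have hχd := charDegree_real_over K h.odd _ hθ χ.1 χ.2 hov
    have hI := inertia_link K P h.inter hg hβ hl
    have hmod : (charDegree (ξ : nor P → ℂ) : ZMod p) = (charDegree (χ.1 : G → ℂ) : ZMod p) ∨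
        (charDegree (ξ : nor P → ℂ) : ZMod p) = -(charDegree (χ.1 : G → ℂ) : ZMod p) := by
      rw [hξd, hχd, hI, Nat.cast_mul, Nat.cast_mul, ← index_modEq P _ hg]
      rcases hdeg with e | e
      · exact Or.inl (by rw [e])
      · exact Or.inr (by rw [e]; ring)
    have hnd : ¬ p ∣ charDegree (ξ : nor P → ℂ) := fun hd => h.real χ.1 χ.2 (by
      rw [← CharP.cast_eq_zero_iff (ZMod p)] at hd ⊢
      rcases hmod with e | e <;> rw [hd] at e
      · exact e.symm
      · exact neg_eq_zero.1 e.symm)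
    exact ⟨⟨ξ, hξ, hnd⟩, _, β, hθ, hg, hβ, hl, hov, hξov, hmod⟩
  choose f θf βf hθr hθ hβ hl hovG hovN hmod using hex
  refine ⟨f, ⟨fun χ χ' e => ?_, fun ξ => ?_⟩, hmod⟩
  · have hN := hovN χ'
    rw [← e] at hN
    obtain ⟨n, hn⟩ := restrict_constituents_conj D (f χ).1.2 (βf χ).2 (βf χ').2 (hovN χ) hN
    have hl' := link_conj K P n (hl χ)
    rw [show cIrr D n (βf χ) = βf χ' from Subtype.ext hn] at hl'
    have hθe := hinj _ _ _ (pinvK_conj K P n (hθ χ)) (hθ χ') (hβ χ') hl' (hl χ')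
    obtain ⟨χ₀, -, -, -, huniq⟩ := existsUnique_real_over K h.odd (θf χ') (hθr χ')
    have hov : classInner (fun k : K => (χ.1 : G → ℂ) k) (θf χ' : K → ℂ) ≠ 0 := by
      rw [← hθe]
      show classInner _ (conjFn K (n : G) _) ≠ 0
      rw [inner_restrict_conjFn K (Chars.isClassFunction_irr χ.1)]
      exact hovG χ
    exact Subtype.ext ((huniq _ χ.2 hov).trans (huniq _ χ'.2 (hovG χ')).symm)
  · obtain ⟨β, hβr, hξov⟩ := exists_real_under D hoddD ξ.1 ξ.2.1
    have hξd := charDegree_real_over D hoddD β hβr ξ.1 ξ.2.1 hξov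
    have hβp : PInvD K P (β : D → ℂ) :=
      pinvD_of_not_dvd K P β fun hd => ξ.2.2 (hξd ▸ hd.mul_right _)
    obtain ⟨θ, hθp, hlθ⟩ := hfrom β hβp
    have hθreal := (link_real K P h.inter hθp hβp hlθ).2 hβr
    obtain ⟨χ, hχ, hov, -, -⟩ := existsUnique_real_over K h.odd θ hθreal
    refine ⟨⟨χ, hχ⟩, ?_⟩
    obtain ⟨g, hg⟩ := restrict_constituents_conj K χ.2 θ.2 (θf ⟨χ, hχ⟩).2 hov (hovG ⟨χ, hχ⟩)
    have hg' : cIrr K g θ = θf ⟨χ, hχ⟩ := Subtype.ext hg
    obtain ⟨n, hn⟩ := fusion K P hθp (g := g) (hg' ▸ hθ ⟨χ, hχ⟩)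
    have hln := link_conj K P n hlθ
    rw [hn, hg'] at hln
    obtain ⟨γ, -, -, huniq, -⟩ := hto _ (hθ ⟨χ, hχ⟩)
    have hβe : cIrr D n β = βf ⟨χ, hχ⟩ :=
      (huniq _ (pinvD_conj K P n hβp) hln).trans (huniq _ (hβ _) (hl _)).symm
    obtain ⟨ξ₀, -, -, -, hu⟩ := existsUnique_real_over D hoddD (βf ⟨χ, hχ⟩)
      ((link_real K P h.inter (hθ _) (hβ _) (hl _)).1 (hθr _))
    refine Subtype.ext ((hu _ (f _).2.1 (hovN _)).trans (hu _ ξ.2.1 ?_).symm)
    rw [← hβe]
    show classInner _ (conjFn D n (β : D → ℂ)) ≠ 0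
    rw [inner_restrict_conjFn D (Chars.isClassFunction_irr ξ.1)]
    exact hξov

/-- Real elements meet the fixed points when `p` does not divide the order of `K`. -/
theorem exists_conj_mem_nor (h : Hyp K P) (htriv : (P : Subgroup G) ⊓ K = ⊥) {x : G}
    (hx : IsConj x x⁻¹) : ∃ y ∈ nor P, IsConj x y := by
  classical
  set D := K.subgroupOf (nor P) with hD
  obtain ⟨hto, -, hinj⟩ := link_spec K P h.inter
  have hcomm : ∀ (d : D) (s : G), s ∈ (P : Subgroup G) →
      s * ((d : nor P) : G) = ((d : nor P) : G) * s := by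
    intro d s hs
    rw [← mul_inv_eq_one, ← Subgroup.mem_bot, ← htriv]
    refine ⟨?_, ?_⟩
    · have h1 := (Subgroup.mem_normalizer_iff.1 (d : nor P).2 s⁻¹).1 ((P : Subgroup G).inv_mem hs)
      show s * ((d : nor P) : G) * (((d : nor P) : G) * s)⁻¹ ∈ (P : Subgroup G)
      simpa [mul_assoc] using (P : Subgroup G).mul_mem hs h1
    · have h1 := (inferInstance : K.Normal).conj_mem _ d.2 s
      simpa [mul_assoc] using K.mul_mem h1 (K.inv_mem d.2)
  have hall : ∀ β : IrrCharacter D, PInvD K P (β : D → ℂ) := fun β s hs =>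
    (mem_inertia _).2 fun d => congrArg _ (Subtype.ext (Subtype.ext (by
      show (s : G) * ((d : nor P) : G) * (s : G)⁻¹ = _
      rw [hcomm d s hs, mul_inv_cancel_right])))
  have hex : ∀ q : Quot (CharRel K), ∃ (θ : {θ : IrrCharacter K // ∀ k, ((θ : K → ℂ) k).im = 0})
      (β : {β : IrrCharacter D // ∀ d, ((β : D → ℂ) d).im = 0}),
      Quot.mk _ θ = q ∧ PInvK K P (θ.1 : K → ℂ) ∧ Link K P θ.1 β.1 := by
    refine fun q => Quot.induction_on q fun θ => ?_
    obtain ⟨g, hg⟩ := exists_pinv_conj K P h θ.1 θ.2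
    obtain ⟨β, hβ, hl, -, -⟩ := hto _ hg
    have hθr : ∀ k, ((cIrr K g θ.1 : K → ℂ) k).im = 0 := fun k => θ.2 _
    exact ⟨⟨_, hθr⟩, ⟨β, (link_real K P h.inter hg hβ hl).1 hθr⟩,
      Quot.sound ((charRel_iff_conjFn K _ _).2 ⟨g, rfl⟩), hg, hl⟩
  choose θq βq hq hθq hlq using hex
  have hle : Nat.card (Quot (CharRel K)) ≤ Nat.card (Quot (CharRel D)) := by
    refine Nat.card_le_card_of_injective (fun q => Quot.mk _ (βq q)) fun q q' e => ?_
    have e' := (charRel_equivalence D).eqvGen_iff.1 (Quot.eqvGen_exact e)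
    obtain ⟨n, hn⟩ := (charRel_iff_conjFn D _ _).1 e'
    have hl' := link_conj K P n (hlq q')
    rw [hn] at hl'
    have e1 := hinj _ _ _ (pinvK_conj K P n (hθq q')) (hθq q) (hall _) hl' (hlq q)
    rw [← hq q, ← hq q']
    exact Quot.sound ((charRel_iff_conjFn K _ _).2 ⟨n, e1⟩)
  let ι : D →* K := (nor P).subtype.subgroupComap K
  let f : Quot (ElemRel D) → Quot (ElemRel K) :=
    Quot.map (fun d => ⟨ι d.1, by simpa using ι.map_isConj d.2⟩)
      fun a b ⟨n, hn⟩ => ⟨(n : G), congrArg Subtype.val hn⟩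
  have hfi : Function.Injective f := by
    refine fun a b => Quot.induction_on a fun u => Quot.induction_on b fun v e => ?_
    obtain ⟨g, hg⟩ := (elemRel_equivalence K).eqvGen_iff.1 (Quot.eqvGen_exact e)
    have hg' : ((v.1 : nor P) : G) = g * ((u.1 : nor P) : G) * g⁻¹ := hg
    set C := Subgroup.centralizer {((v.1 : nor P) : G)}
    have hc : ∀ z : G, z ∈ C ↔ ((v.1 : nor P) : G) * z = z * ((v.1 : nor P) : G) := fun z => by
      simp [C, Subgroup.mem_centralizer_singleton_iff, eq_comm]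
    obtain ⟨z, hz, hn⟩ := exists_mem_mul_mem_nor P C (fun s hs => (hc s).2 (hcomm v.1 s hs).symm)
      (g := g) fun s hs => (hc _).2 (by
        rw [hg']
        calc g * ((u.1 : nor P) : G) * g⁻¹ * (g * s * g⁻¹)
            = g * (((u.1 : nor P) : G) * s) * g⁻¹ := by group
          _ = g * (s * ((u.1 : nor P) : G)) * g⁻¹ := by rw [← hcomm u.1 s hs]
          _ = g * s * g⁻¹ * (g * ((u.1 : nor P) : G) * g⁻¹) := by group)
    refine Quot.sound ⟨⟨z * g, hn⟩, Subtype.ext ?_⟩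
    show ((v.1 : nor P) : G) = z * g * ((u.1 : nor P) : G) * (z * g)⁻¹
    rw [show z * g * ((u.1 : nor P) : G) * (z * g)⁻¹ =
      z * (g * ((u.1 : nor P) : G) * g⁻¹) * z⁻¹ by group, ← hg', ← (hc z).1 hz,
      mul_inv_cancel_right]
  rw [card_charOrbits_eq_card_elemOrbits K h.odd,
    card_charOrbits_eq_card_elemOrbits D (odd_nor K P h.odd)] at hle
  have hbij := hfi.bijective_of_nat_card_le hle
  obtain ⟨hxK, hxr⟩ := real_inside K h.odd hx
  obtain ⟨q, hq'⟩ := hbij.2 (Quot.mk _ ⟨⟨x, hxK⟩, hxr⟩)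
  induction q using Quot.ind with
  | _ d =>
    obtain ⟨g, hg⟩ := (elemRel_equivalence K).eqvGen_iff.1 (Quot.eqvGen_exact hq')
    exact ⟨((d.1 : nor P) : G), (d.1 : nor P).2, (isConj_iff.2 ⟨g, hg.symm⟩).symm⟩

end Fin

section Whole

variable {G : Type u} [Group G] [Finite G] {p : ℕ} [hp : Fact p.Prime] (P : Sylow p G)

theorem odd_index_powGen : Odd (powGen 2 G).index := by
  haveI : Fact (Nat.Prime 2) := ⟨Nat.prime_two⟩
  obtain ⟨T⟩ : Nonempty (Sylow 2 G) := inferInstance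
  have hle : (T : Subgroup G) ≤ powGen 2 G := fun t ht => by
    obtain ⟨k, hk⟩ := T.2 ⟨t, ht⟩
    obtain ⟨i, -, hi⟩ := (Nat.dvd_prime_pow Nat.prime_two).1
      (orderOf_dvd_of_pow_eq_one (congrArg Subtype.val hk : t ^ 2 ^ k = 1))
    exact Subgroup.subset_closure ⟨i, hi⟩
  rw [Nat.odd_iff, ← Nat.two_dvd_ne_zero]
  exact fun hd => T.not_dvd_index (hd.trans (Subgroup.index_dvd_of_le hle))

theorem inter_normal (hsolv : Group.IsSolvable (powGen p G)) (hreal : RealHyp p G) :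
    ((P : Subgroup G) ⊓ powGen 2 G).Normal := by
  haveI := powGen_normal (G := G) 2
  refine sylow_normal_aux _ le_rfl hsolv hreal (powGen 2 G) (powGen_normal 2) le_rfl
    ⟨0, by rw [Subgroup.relIndex_self, pow_zero]⟩ _ inf_le_right (P.2.to_le inf_le_left) fun hd => ?_
  refine P.not_dvd_index (hd.trans ?_)
  rw [← (P : Subgroup G).relIndex_top_right]
  exact Coprime.relIndex_dvd_of_normalizes le_top le_top
    (Subgroup.normalizer_eq_top (H := powGen 2 G) ▸ le_top)

theorem real_meets_normalizer (hsolv : Group.IsSolvable (powGen p G))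
    (hreal : RealHyp p G) {x : G} (hx : IsConj x x⁻¹) : ∃ y ∈ nor P, IsConj x y := by
  haveI := powGen_normal (G := G) 2
  haveI hR := inter_normal P hsolv hreal
  set R := (P : Subgroup G) ⊓ powGen 2 G with hRdef
  let π := QuotientGroup.mk' R
  have hπ : Function.Surjective π := QuotientGroup.mk'_surjective R
  let P' : Sylow p (G ⧸ R) := P.mapSurjective hπ
  haveI := powGen_normal (G := G ⧸ R) 2
  have htriv : (P' : Subgroup (G ⧸ R)) ⊓ powGen 2 (G ⧸ R) = ⊥ := by
    rw [← powGen_map π hπ Nat.prime_two, eq_bot_iff]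
    rintro _ ⟨⟨s, hs, rfl⟩, ⟨k, hk, e⟩⟩
    have h1 : k⁻¹ * s ∈ R := QuotientGroup.eq.1 e
    have h2 : s ∈ powGen 2 G := by
      simpa using (powGen 2 G).mul_mem hk h1.2
    rw [Subgroup.mem_bot]
    exact (QuotientGroup.eq_one_iff s).2 ⟨hs, h2⟩
  letI := Fintype.ofFinite (G ⧸ R)
  letI := Fintype.ofFinite (powGen 2 (G ⧸ R))
  letI := Fintype.ofFinite (nor P')
  letI := Fintype.ofFinite ((powGen 2 (G ⧸ R)).subgroupOf (nor P'))
  obtain ⟨y, hy, hc⟩ := exists_conj_mem_nor (powGen 2 (G ⧸ R)) P'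
    ⟨odd_index_powGen, htriv ▸ inferInstance, realHyp_quotient R hreal⟩ htriv
    (by simpa using π.map_isConj hx : IsConj (π x) (π x)⁻¹)
  obtain ⟨c, rfl⟩ := isConj_iff.1 hc
  obtain ⟨g, rfl⟩ := hπ c
  refine ⟨g * x * g⁻¹, Subgroup.mem_normalizer_fintype fun s hs => ?_, isConj_iff.2 ⟨g, rfl⟩⟩
  have h1 := (Subgroup.mem_normalizer_iff.1 hy (π s)).1 ⟨s, hs, rfl⟩
  rw [← map_inv, ← map_mul, ← map_mul, ← map_inv, ← map_mul, ← map_mul] at h1
  obtain ⟨t, ht, e⟩ := h1
  have h2 : t⁻¹ * (g * x * g⁻¹ * s * (g * x * g⁻¹)⁻¹) ∈ R := QuotientGroup.eq.1 e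
  show g * x * g⁻¹ * s * (g * x * g⁻¹)⁻¹ ∈ (P : Subgroup G)
  simpa using (P : Subgroup G).mul_mem ht h2.1

end Whole

end CfsgLib.BlockApps.RealCorr
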