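import Cfsg.Agent.Lib.Blocks.PPrimeKernel
import Cfsg.Agent.Lib.Blocks.PSolvableFong
import Cfsg.Agent.Lib.Blocks.PrincipalBlock
import Cfsg.Agent.Lib.PLocal.Constrained
import Cfsg.Agent.Lib.Transfer.Tate
import Mathlib.GroupTheory.Transfer

/-!
# Height zero sets of the principal blocks at two primes
-/

set_option autoImplicit false
set_option linter.unusedSectionVars false
set_option linter.style.haveILetI false

namespace CfsgLib.BlockApps.SameZero

open Cfsg CfsgLib.Chars CfsgLib.Blocks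

universe u

variable {G : Type u} [Group G]

/-- In a `p`-solvable group the characters trivial on `O_{p'}` form part of the principal block. -/
theorem mem_principalBlock_of_ker [Fintype G] {p : ℕ} [Fact p.Prime] {M : Ideal AlgInt} [M.IsPrime]
    (hpM : (p : AlgInt) ∈ M) (hsolv : IsPSolvable p G) {χ : IrrCharacter G}
    (hχ : pPrimeCore p G ≤ CharApps.charKer χ) : χ ∈ principalBlock M G := by
  classical
  set N := pPrimeCore p G with hN
  haveI := Fintype.ofFinite N
  have hNp : ¬ p ∣ Nat.card N := Base.not_dvd_card_pPrimeCore p G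
  haveI := PLocal.pPrimePCore_normal p G
  obtain ⟨S⟩ : Nonempty (Sylow p ↥(pPrimePCore p G)) := inferInstance
  obtain ⟨k, hk⟩ := IsPGroup.iff_card.mp (Base.isPGroup_pCore p (G ⧸ pPrimeCore p G))
  have hrel : N.relIndex (pPrimePCore p G) = p ^ k := by
    rw [hN, ← hk, ← PLocal.card_map_mk'_eq_relIndex, pPrimePCore,
      Subgroup.map_comap_eq_self_of_surjective (QuotientGroup.mk'_surjective _)]
  have hRS : ¬ p ∣ ((S : Subgroup ↥(pPrimePCore p G)).map (pPrimePCore p G).subtype).relIndex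
      (pPrimePCore p G) := by
    rw [Subgroup.relIndex, Subgroup.subgroupOf,
      Subgroup.comap_map_eq_self_of_injective (pPrimePCore p G).subtype_injective]
    exact S.not_dvd_index
  obtain ⟨hB', -⟩ := Blocks.fong_single_block hpM N hNp (pPrimePCore p G)
    (Base.pPrimeCore_le_pPrimePCore p G) hrel
    (Subgroup.map_subtype_le _) (S.2.map _) hRS
    ((PLocal.isPConstrained_of_isPSolvable hsolv) S) (principal N) (fun _ _ => rfl)
  have h1 : classInner (fun n : N => ((principal G : IrrCharacter G) : G → ℂ) n)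
      ((principal N : IrrCharacter N) : N → ℂ) ≠ 0 := by
    rw [show (fun n : N => ((principal G : IrrCharacter G) : G → ℂ) n) =
      ((principal N : IrrCharacter N) : N → ℂ) from rfl, inner_irr_self]
    exact one_ne_zero
  rw [IsPBlock.eq_of_mem (isPBlock_principalBlock M) hB' (principal_mem_principalBlock M) h1]
  show classInner (fun n : N => (χ : G → ℂ) n) ((principal N : IrrCharacter N) : N → ℂ) ≠ 0
  rw [show (fun n : N => (χ : G → ℂ) n) = (χ : G → ℂ) 1 • ((principal N : IrrCharacter N) : N → ℂ)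
    from funext fun n => (CharApps.mem_charKer.1 (hχ n.2)).trans (mul_one _).symm,
    Chars.inner_smul_left, inner_irr_self, mul_one]
  exact irr_degree_ne_zero χ.2

/-- One inclusion of height zero sets puts `P ∩ O_{q'}(G)` into `P'`. -/
theorem inf_core_le_commutator [Fintype G] {p q : ℕ} [hp : Fact p.Prime] [Fact q.Prime]
    {Mp Mq : Ideal AlgInt} [Mp.IsPrime] [Mq.IsPrime] (hpM : (p : AlgInt) ∈ Mp)
    (hqM : (q : AlgInt) ∈ Mq) (hsolv : IsPSolvable p G)
    (h : ∀ χ : IrrCharacter G, χ ∈ principalBlock Mp G → ¬ p ∣ charDegree (χ : G → ℂ) →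
      χ ∈ principalBlock Mq G) (P : Sylow p G) :
    pPrimeCore q G ⊓ (P : Subgroup G) ≤ ⁅(P : Subgroup G), (P : Subgroup G)⁆ := by
  classical
  set K := pPrimeCore p G
  set π := QuotientGroup.mk' K
  have hπ : Function.Surjective π := QuotientGroup.mk'_surjective K
  rintro x ⟨hxL, hxP⟩
  set P' := P.mapSurjective hπ
  have hxP' : π x ∈ (P' : Subgroup (G ⧸ K)) := ⟨x, hxP, rfl⟩
  have hc := Blocks.PPrimeKernel.mem_commutator_of_forall P' (x := ⟨π x, hxP'⟩) fun ψ hψ => by
    let χ : IrrCharacter G := ⟨fun g => (ψ : G ⧸ K → ℂ) g, isIrrCharacter_inflate K ψ.2⟩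
    have hdeg : charDegree (χ : G → ℂ) = charDegree (ψ : G ⧸ K → ℂ) := rfl
    have hK : K ≤ CharApps.charKer χ := fun n hn => CharApps.mem_charKer.2 (by
      show (ψ : G ⧸ K → ℂ) (n : G ⧸ K) = (ψ : G ⧸ K → ℂ) ((1 : G) : G ⧸ K)
      rw [(QuotientGroup.eq_one_iff n).2 hn, QuotientGroup.mk_one])
    exact CharApps.mem_charKer.2 (principalBlock_apply_normal hqM
      (Base.not_dvd_card_pPrimeCore q G) (h χ (mem_principalBlock_of_ker hpM hsolv hK) hψ) hxL)
  have hmem : π x ∈ ⁅(P' : Subgroup (G ⧸ K)), (P' : Subgroup (G ⧸ K))⁆ := by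
    rw [← Subgroup.map_subtype_commutator]
    exact ⟨_, hc, rfl⟩
  rw [show (P' : Subgroup (G ⧸ K)) = (P : Subgroup G).map π from rfl,
    ← Subgroup.map_commutator] at hmem
  obtain ⟨y, hy, hyx⟩ := hmem
  have hyP : y ∈ (P : Subgroup G) := Subgroup.commutator_le_self _ hy
  have hK : x⁻¹ * y ∈ K := QuotientGroup.eq.1 hyx.symm
  have h1 : x⁻¹ * y = 1 := by
    obtain ⟨j, hj⟩ := P.2 ⟨x⁻¹ * y, mul_mem (inv_mem hxP) hyP⟩
    have hj' : (x⁻¹ * y) ^ p ^ j = 1 := congrArg Subtype.val hj
    rw [← orderOf_eq_one_iff]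
    refine Nat.eq_one_of_dvd_coprimes
      ((Base.pPrimeCore_coprime p G).pow_right j) ?_ (orderOf_dvd_of_pow_eq_one hj')
    exact Subgroup.orderOf_dvd_natCard _ hK
  rwa [inv_mul_eq_one.1 h1]

section Pure

variable [Finite G]

/-- `L ⊔ P₁` is a Sylow subgroup for a Sylow subgroup `P₁` of a supplement of `U`. -/
theorem exists_sylow_sup {p : ℕ} [hp : Fact p.Prime] (U L : Subgroup G) [U.Normal] [hL : L.Normal]
    (hLU : L ≤ U) (hLp : IsPGroup p L) (hLi : ¬ p ∣ L.relIndex U) (N : Subgroup G)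
    (hsup : U ⊔ N = ⊤) :
    ∃ P : Sylow p G, ∃ P₁ : Subgroup G, P₁ ≤ N ∧ (P : Subgroup G) = L ⊔ P₁ := by
  obtain ⟨P₁⟩ : Nonempty (Sylow p N) := inferInstance
  set P₁' := (P₁ : Subgroup N).map N.subtype
  have h1 : IsPGroup p ↥(L ⊔ P₁') := IsPGroup.to_sup_of_normal_left hLp (P₁.2.map _)
  have hi : ¬ p ∣ (L ⊔ P₁').index := by
    rw [← Subgroup.relIndex_mul_index (sup_le_sup_left (Subgroup.map_subtype_le _) L :
      L ⊔ P₁' ≤ L ⊔ N)]
    refine hp.out.not_dvd_mul ?_ ?_
    · intro hd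
      refine P₁.not_dvd_index ?_
      have hidx : (P₁ : Subgroup N).index = P₁'.relIndex N := by
        rw [Subgroup.relIndex, Subgroup.subgroupOf,
          Subgroup.comap_map_eq_self_of_injective N.subtype_injective]
      refine hd.trans ?_
      let f : N →* G ⧸ L := (QuotientGroup.mk' L).comp N.subtype
      have e1 : (P₁'.map (QuotientGroup.mk' L)).relIndex (N.map (QuotientGroup.mk' L)) =
          (L ⊔ P₁').relIndex (L ⊔ N) := by
        rw [Subgroup.relIndex_map_map, QuotientGroup.ker_mk', sup_comm P₁', sup_comm N]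
      have hr : f.range = N.map (QuotientGroup.mk' L) := by
        rw [MonoidHom.range_comp, Subgroup.range_subtype]
      have hm : (P₁ : Subgroup N).map f = P₁'.map (QuotientGroup.mk' L) :=
        (Subgroup.map_map _ _ _).symm
      have e2 := Subgroup.index_map (H := (P₁ : Subgroup N)) f
      have e3 : ((P₁ : Subgroup N).map f).relIndex f.range =
          ((P₁ : Subgroup N) ⊔ f.ker).index := by
        refine Nat.eq_of_mul_eq_mul_right (Nat.pos_of_ne_zero (Subgroup.index_ne_zero_of_finite (H := f.range))) ?_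
        rw [Subgroup.relIndex_mul_index (Subgroup.map_le_range f _), e2]
      rw [hm, hr, e1] at e3
      show (L ⊔ P₁').relIndex (L ⊔ N) ∣ _
      rw [e3]
      exact Subgroup.index_dvd_of_le le_sup_left
    · have hU : U.relIndex (L ⊔ N) = U.index := by
        rw [← Subgroup.relIndex_sup_left (K := U) (H := L ⊔ N),
          show U ⊔ (L ⊔ N) = ⊤ by rw [← sup_assoc, sup_comm U L, sup_assoc, hsup, sup_top_eq],
          Subgroup.relIndex_top_right]
      have e1 := Subgroup.relIndex_mul_index (inf_le_left : U ⊓ (L ⊔ N) ≤ U)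
      have e2 := Subgroup.relIndex_mul_index (inf_le_right : U ⊓ (L ⊔ N) ≤ L ⊔ N)
      rw [Subgroup.inf_relIndex_right, hU] at e2
      rw [inf_comm, Subgroup.inf_relIndex_right, inf_comm] at e1
      intro hd
      refine hLi (hd.trans ?_)
      have e : (L ⊔ N).index = (L ⊔ N).relIndex U :=
        Nat.eq_of_mul_eq_mul_left (Nat.pos_of_ne_zero (Subgroup.index_ne_zero_of_finite (H := U)))
          (e2.trans (e1.symm.trans (mul_comm _ _)))
      rw [e]
      exact Subgroup.relIndex_dvd_of_le_left U le_sup_left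
  exact ⟨h1.toSylow hi, P₁', Subgroup.map_subtype_le _, rfl⟩

/-- A normal subgroup inside the Frattini subgroup of every Sylow subgroup lies in supplements. -/
theorem le_of_frattini {p : ℕ} [hp : Fact p.Prime] (U L : Subgroup G) [U.Normal] [L.Normal]
    (hLU : L ≤ U) (hLp : IsPGroup p L) (hLi : ¬ p ∣ L.relIndex U) (N : Subgroup G)
    (hsup : U ⊔ N = ⊤)
    (hΦ : ∀ P : Sylow p G, L ≤ (frattini (P : Subgroup G)).map (P : Subgroup G).subtype) :
    L ≤ N := by
  obtain ⟨P, P₁, hP₁, hP⟩ := exists_sylow_sup U L hLU hLp hLi N hsup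
  have hLP : L ≤ (P : Subgroup G) := hP ▸ le_sup_left
  have hP₁P : P₁ ≤ (P : Subgroup G) := hP ▸ le_sup_right
  have htop : P₁.subgroupOf (P : Subgroup G) ⊔ frattini (P : Subgroup G) = ⊤ := by
    refine eq_top_iff.2 ?_
    have h2 : L.subgroupOf (P : Subgroup G) ≤ frattini (P : Subgroup G) := fun y hy => by
      obtain ⟨z, hz, hzy⟩ := hΦ P (Subgroup.mem_subgroupOf.1 hy)
      rwa [← Subtype.ext hzy]
    refine le_trans (le_of_eq ?_) (sup_le_sup_left h2 _)
    rw [← Subgroup.subgroupOf_sup hP₁P hLP, sup_comm, ← hP, Subgroup.subgroupOf_self]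
  have h3 := frattini_nongenerating htop
  rw [Subgroup.subgroupOf_eq_top] at h3
  exact hLP.trans (h3.trans hP₁)

/-- The case of a normal subgroup which is a `q`-group over `L`. -/
theorem layer_false {p q : ℕ} [hp : Fact p.Prime] [hq : Fact q.Prime] (hpq : p ≠ q)
    (L K U : Subgroup G) [L.Normal] [K.Normal] [U.Normal] (hL : IsPGroup p L) (hKU : K ≤ U)
    (hLU : L ≤ U) (hUi : ∃ j, (L ⊔ K).relIndex U = q ^ j) (hK : IsPGroup q K)
    (hlt : ¬ U ≤ L ⊔ K) (hmax : ∀ Q₀ : Subgroup G, Q₀.Normal → IsPGroup q Q₀ → Q₀ ≤ K)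
    (hΦ : ∀ P : Sylow p G, L ≤ (frattini (P : Subgroup G)).map (P : Subgroup G).subtype) :
    False := by
  obtain ⟨j, hj⟩ := hUi
  have hLi : ∃ i, L.relIndex U = q ^ i := by
    obtain ⟨b, hb⟩ := IsPGroup.iff_card.1 hK
    have e := Subgroup.relIndex_mul_relIndex L (L ⊔ K) U le_sup_left (sup_le hLU hKU)
    have h1 : L.relIndex (L ⊔ K) ∣ q ^ b := by
      rw [sup_comm, Subgroup.relIndex_sup_right, ← hb]
      exact Subgroup.relIndex_dvd_card _ _
    obtain ⟨i, -, hi⟩ := (Nat.dvd_prime_pow hq.out).1 h1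
    exact ⟨i + j, by rw [← e, hi, hj, pow_add]⟩
  obtain ⟨i, hi⟩ := hLi
  have hpi : ¬ p ∣ L.relIndex U := hi ▸ fun h =>
    hpq ((Nat.prime_dvd_prime_iff_eq hp.out hq.out).1 (hp.out.dvd_of_dvd_pow h))
  obtain ⟨Q₀⟩ : Nonempty (Sylow q U) := inferInstance
  set R := (Q₀ : Subgroup U).map U.subtype
  have hRU : R ≤ U := Subgroup.map_subtype_le _
  have hsup : U ⊔ Subgroup.normalizer (R : Set G) = ⊤ := by
    rw [sup_comm]
    exact Sylow.normalizer_sup_eq_top Q₀
  have hLN := le_of_frattini U L hLU hL hpi _ hsup hΦ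
  -- `U = L R`
  have hUR : U ≤ L ⊔ R := by
    intro x hx
    have hidx : ((L ⊔ R).subgroupOf U).index = 1 := by
      have h1 : ((L ⊔ R).subgroupOf U).index ∣ q ^ i := hi ▸
        Subgroup.index_dvd_of_le (Subgroup.comap_mono le_sup_left)
      have h2 : ((L ⊔ R).subgroupOf U).index ∣ (Q₀ : Subgroup U).index :=
        Subgroup.index_dvd_of_le fun y hy => Subgroup.mem_subgroupOf.2 (le_sup_right (a := L) ⟨y, hy, rfl⟩)
      exact Nat.eq_one_of_dvd_coprimes
        ((hq.out.coprime_iff_not_dvd.2 Q₀.not_dvd_index).symm.pow_right i) h2 h1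
    exact Subgroup.mem_subgroupOf.1
      (show (⟨x, hx⟩ : U) ∈ (L ⊔ R).subgroupOf U by rw [Subgroup.index_eq_one.1 hidx]; exact Subgroup.mem_top _)
  haveI hRn : R.Normal := by
    refine Subgroup.normalizer_eq_top_iff.1 (eq_top_iff.2 ?_)
    rw [← hsup]
    exact sup_le (hUR.trans (sup_le hLN Subgroup.le_normalizer)) le_rfl
  exact hlt (hUR.trans (sup_le_sup_left (hmax R hRn (Q₀.2.map _)) L))

/-- A pure group-theoretic consequence: the Frattini conditions are contradictory. -/
theorem pure_false {p q : ℕ} [hp : Fact p.Prime] [hq : Fact q.Prime] (hpq : p ≠ q)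
    (hdvd : p ∣ Nat.card G) (hps : IsPSolvable p G) (hqs : IsPSolvable q G)
    (hbot : pPrimeCore p G ⊓ pPrimeCore q G = ⊥)
    (hP : ∀ P : Sylow p G, pPrimeCore q G ⊓ (P : Subgroup G) ≤
      ⁅(P : Subgroup G), (P : Subgroup G)⁆)
    (hQ : ∀ Q : Sylow q G, pPrimeCore p G ⊓ (Q : Subgroup G) ≤
      ⁅(Q : Subgroup G), (Q : Subgroup G)⁆) : False := by
  classical
  -- the cores are the `p`-core and the `q`-core
  have hcore : ∀ (r s : ℕ) [Fact r.Prime] [Fact s.Prime],
      pPrimeCore r G ⊓ pPrimeCore s G = ⊥ →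
      (∀ R : Sylow r G, pPrimeCore s G ⊓ (R : Subgroup G) ≤
        ⁅(R : Subgroup G), (R : Subgroup G)⁆) →
      IsPGroup r (pPrimeCore s G) ∧ ∀ R : Sylow r G,
        pPrimeCore s G ≤ (frattini (R : Subgroup G)).map (R : Subgroup G).subtype := by
    intro r s _ _ hbot hR
    have hΦ : ∀ R : Sylow r G, pPrimeCore s G ⊓ (R : Subgroup G) ≤
        (frattini (R : Subgroup G)).map (R : Subgroup G).subtype := fun R x hx => by
      obtain ⟨y, hy, rfl⟩ := (Subgroup.map_subtype_commutator (R : Subgroup G)).symm ▸ hR R hx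
      exact ⟨y, PGroups.commutator_le_frattini R.2 hy, rfl⟩
    obtain ⟨R⟩ : Nonempty (Sylow r G) := inferInstance
    have hc := Transfer.hasNormalPComplement_of_inf_le_frattini R (pPrimeCore s G) (hΦ R)
    rw [Transfer.hasNormalPComplement_iff_pResidual] at hc
    haveI := Transfer.pResidual_characteristic (G := (pPrimeCore s G)) (p := r)
    set H := (pResidual r (pPrimeCore s G)).map (pPrimeCore s G).subtype with hH
    haveI : H.Normal := inferInstance
    have hH1 : H ≤ pPrimeCore r G ⊓ pPrimeCore s G :=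
      le_inf (Base.le_pPrimeCore_of_not_dvd (by rwa [hH, Subgroup.card_subtype]))
        (Subgroup.map_subtype_le _)
    rw [hbot, le_bot_iff, hH, Subgroup.map_eq_bot_iff_of_injective _
      (pPrimeCore s G).subtype_injective] at hH1
    haveI := Transfer.pResidual_normal (G := (pPrimeCore s G)) (p := r)
    obtain ⟨k, hk⟩ := Transfer.exists_index_pResidual (G := (pPrimeCore s G)) (p := r)
    rw [hH1, Subgroup.index_bot] at hk
    have hpg : IsPGroup r (pPrimeCore s G) := IsPGroup.of_card hk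
    refine ⟨hpg, fun R' => ?_⟩
    have hle : pPrimeCore s G ≤ (R' : Subgroup G) :=
      (Base.le_pCore hpg).trans (Base.pCore_le_sylow R')
    exact le_trans (le_inf le_rfl hle) (hΦ R')
  obtain ⟨hLp, hLΦ⟩ := hcore p q hbot hP
  obtain ⟨hKq, hKΦ⟩ := hcore q p (by rwa [inf_comm]) hQ
  set L := pPrimeCore q G
  set K := pPrimeCore p G
  set F := L ⊔ K
  haveI : F.Normal := Subgroup.sup_normal L K
  have hmaxK : ∀ Q₀ : Subgroup G, Q₀.Normal → IsPGroup q Q₀ → Q₀ ≤ K := fun Q₀ hn h => by
    haveI := hn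
    obtain ⟨b, hb⟩ := IsPGroup.iff_card.1 h
    exact Base.le_pPrimeCore (hb ▸ (((Nat.coprime_primes hq.out hp.out).2 hpq.symm).pow_left b))
  have hmaxL : ∀ P₀ : Subgroup G, P₀.Normal → IsPGroup p P₀ → P₀ ≤ L := fun P₀ hn h => by
    haveI := hn
    obtain ⟨b, hb⟩ := IsPGroup.iff_card.1 h
    exact Base.le_pPrimeCore (hb ▸ (((Nat.coprime_primes hp.out hq.out).2 hpq).pow_left b))
  have hlift : ∀ Ū : Subgroup (G ⧸ F), Ū.Normal → Ū ≠ ⊥ →
      ∃ U : Subgroup G, U.Normal ∧ L ≤ U ∧ K ≤ U ∧ ¬ U ≤ F ∧ F.relIndex U = Nat.card Ū := by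
    intro Ū hn hne
    haveI := hn
    refine ⟨Ū.comap (QuotientGroup.mk' F), inferInstance,
      le_sup_left.trans (QuotientGroup.le_comap_mk' F Ū),
      le_sup_right.trans (QuotientGroup.le_comap_mk' F Ū), fun hle => hne ?_, ?_⟩
    · rw [← Subgroup.map_comap_eq_self_of_surjective (QuotientGroup.mk'_surjective F) Ū, eq_bot_iff,
        Subgroup.map_le_iff_le_comap]
      refine hle.trans ?_
      rw [MonoidHom.comap_bot, QuotientGroup.ker_mk']
    · rw [← PLocal.card_map_mk'_eq_relIndex,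
        Subgroup.map_comap_eq_self_of_surjective (QuotientGroup.mk'_surjective _)]
  by_cases hFtop : F = ⊤
  · obtain ⟨P⟩ : Nonempty (Sylow p G) := inferInstance
    have hLN := le_of_frattini (⊤ : Subgroup G) L le_top hLp (by
      rw [Subgroup.relIndex_top_right]
      intro hd
      have h1 : L.index ∣ Nat.card K := by
        rw [← Subgroup.relIndex_top_right L, ← hFtop, show F = K ⊔ L from sup_comm L K,
          Subgroup.relIndex_sup_right]
        exact Subgroup.relIndex_dvd_card _ _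
      exact Base.not_dvd_card_pPrimeCore p G (hd.trans h1)) ⊥ (by simp) hLΦ
    have hL1 : L = ⊥ := le_bot_iff.1 hLN
    have hKtop : K = ⊤ := by rw [← hFtop]; simp [F, hL1]
    exact Base.not_dvd_card_pPrimeCore p G
      (show p ∣ Nat.card K by rwa [hKtop, Subgroup.card_top])
  haveI : Nontrivial (G ⧸ F) := by
    refine Finite.one_lt_card_iff_nontrivial.1 ?_
    rw [← Subgroup.index_eq_card]
    have h0 : F.index ≠ 0 := Subgroup.index_ne_zero_of_finite
    have h1 : F.index ≠ 1 := fun h => hFtop (Subgroup.index_eq_one.1 h)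
    omega
  rcases PLocal.pCore_ne_bot_or_pPrimeCore_ne_bot (PLocal.isPSolvable_quotient hps F) with h | h
  · obtain ⟨U, hUn, hLU, hKU, hU, hUi⟩ := hlift _ inferInstance h
    haveI := hUn
    obtain ⟨j, hj⟩ := IsPGroup.iff_card.1 (Base.isPGroup_pCore p (G ⧸ F))
    exact layer_false (p := q) (q := p) hpq.symm K L U hKq hLU hKU
      ⟨j, by rw [sup_comm]; exact hUi.trans hj⟩ hLp
      (fun hle => hU (hle.trans_eq (sup_comm K L))) hmaxL hKΦ
  · set R := pPrimeCore p (G ⧸ F)
    haveI : Nontrivial R := (Subgroup.nontrivial_iff_ne_bot R).2 h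
    rcases PLocal.pCore_ne_bot_or_pPrimeCore_ne_bot (p := q)
      (PLocal.isPSolvable_subgroup (PLocal.isPSolvable_quotient hqs F) R) with h' | h'
    · haveI : (pCore q R).Characteristic := inferInstance
      obtain ⟨U, hUn, hLU, hKU, hU, hUi⟩ := hlift ((pCore q R).map R.subtype)
        (Base.normal_map_subtype _) (by rwa [Ne, Subgroup.map_eq_bot_iff_of_injective _ R.subtype_injective])
      haveI := hUn
      obtain ⟨j, hj⟩ := IsPGroup.iff_card.1 (Base.isPGroup_pCore q R)
      exact layer_false hpq L K U hLp hKU hLU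
        ⟨j, by rw [hUi, Subgroup.card_subtype, hj]⟩ hKq hU hmaxK hLΦ
    · obtain ⟨U, hUn, hLU, hKU, hU, hUi⟩ := hlift ((pPrimeCore q R).map R.subtype)
        (Base.normal_map_subtype _) (by rwa [Ne, Subgroup.map_eq_bot_iff_of_injective _ R.subtype_injective])
      haveI := hUn
      rw [Subgroup.card_subtype] at hUi
      have hUq : ¬ q ∣ F.relIndex U := hUi ▸ Base.not_dvd_card_pPrimeCore q R
      have hUp : ¬ p ∣ F.relIndex U := hUi ▸ fun hd => Base.not_dvd_card_pPrimeCore p (G ⧸ F)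
        (hd.trans ((Subgroup.card_subgroup_dvd_card _).trans dvd_rfl))
      have hne1 : F.relIndex U ≠ 1 := fun h1 => hU (Subgroup.relIndex_eq_one.1 h1)
      obtain ⟨r, hr, hrd⟩ := Nat.exists_prime_and_dvd hne1
      haveI := Fact.mk hr
      have hrp : r ≠ p := fun e => hUp (e ▸ hrd)
      have hrq : r ≠ q := fun e => hUq (e ▸ hrd)
      have hLi : ¬ p ∣ L.relIndex U := by
        rw [← Subgroup.relIndex_mul_relIndex L F U le_sup_left (sup_le hLU hKU)]
        refine hp.out.not_dvd_mul (fun hd => ?_) hUp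
        rw [show F = K ⊔ L from sup_comm L K, Subgroup.relIndex_sup_right] at hd
        exact Base.not_dvd_card_pPrimeCore p G (hd.trans (Subgroup.relIndex_dvd_card _ _))
      have hKi : ¬ q ∣ K.relIndex U := by
        rw [← Subgroup.relIndex_mul_relIndex K F U le_sup_right (sup_le hLU hKU)]
        refine hq.out.not_dvd_mul (fun hd => ?_) hUq
        rw [show F = L ⊔ K from rfl, Subgroup.relIndex_sup_right] at hd
        exact Base.not_dvd_card_pPrimeCore q G (hd.trans (Subgroup.relIndex_dvd_card _ _))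
      obtain ⟨S⟩ : Nonempty (Sylow r U) := inferInstance
      set R₀ := (S : Subgroup U).map U.subtype
      have hsup : U ⊔ Subgroup.normalizer (R₀ : Set G) = ⊤ := by
        rw [sup_comm]; exact Sylow.normalizer_sup_eq_top S
      have hLN := le_of_frattini U L hLU hLp hLi _ hsup hLΦ
      have hKN := le_of_frattini U K hKU hKq hKi _ hsup hKΦ
      -- coprime mutual normalisation
      have hcen : ∀ (s : ℕ) [Fact s.Prime] (A : Subgroup G) [A.Normal], IsPGroup s A → r ≠ s →
          A ≤ Subgroup.normalizer (R₀ : Set G) → A ≤ Subgroup.centralizer (R₀ : Set G) := by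
        intro s _ A hA hAs hrs hAN a ha
        rw [Subgroup.mem_centralizer_iff]
        intro u hu
        have h1 : a * u * a⁻¹ * u⁻¹ ∈ A := by
          rw [mul_assoc a, mul_assoc a]
          exact mul_mem ha (hA.conj_mem _ (inv_mem ha) u)
        have h2 : a * u * a⁻¹ * u⁻¹ ∈ R₀ :=
          mul_mem ((Subgroup.mem_normalizer_iff.1 (hAN ha) u).1 hu) (inv_mem hu)
        have h3 := IsPGroup.disjoint_of_ne r s hrs _ _ (S.2.map U.subtype) hAs
        have h4 : a * u * a⁻¹ * u⁻¹ = 1 := Subgroup.mem_bot.1 (h3.le_bot ⟨h2, h1⟩)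
        calc u * a = (a * u * a⁻¹ * u⁻¹)⁻¹ * (a * u) := by group
          _ = a * u := by rw [h4, inv_one, one_mul]
      have hRL : R₀ ≤ Subgroup.centralizer (L : Set G) := Subgroup.le_centralizer_iff.1
        (hcen p L hLp hrp hLN)
      set D := U ⊓ Subgroup.centralizer (L : Set G)
      haveI : D.Normal := Subgroup.normal_inf_normal _ _
      have hR₀D : R₀ ≤ D := le_inf (Subgroup.map_subtype_le _) hRL
      obtain ⟨T⟩ : Nonempty (Sylow p D) := inferInstance
      have hTL : (T : Subgroup D).map D.subtype ≤ L := by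
        intro x hx
        have hxU : x ∈ U := (Subgroup.map_subtype_le _ hx).1
        let Y := ((T : Subgroup D).map D.subtype).subgroupOf U
        have hYle : (⟨x, hxU⟩ : U) ∈ L.subgroupOf U := by
          obtain ⟨j, hj⟩ := T.2.map D.subtype ⟨x, hx⟩
          have hj' : x ^ p ^ j = 1 := congrArg Subtype.val hj
          rw [← QuotientGroup.eq_one_iff, ← orderOf_eq_one_iff]
          exact Nat.eq_one_of_dvd_coprimes
            ((hp.out.coprime_iff_not_dvd.2 hLi).pow_left j)
            (orderOf_dvd_of_pow_eq_one (by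
              rw [← QuotientGroup.mk_pow, show (⟨x, hxU⟩ : U) ^ p ^ j = 1 from Subtype.ext hj',
                QuotientGroup.mk_one]))
            (orderOf_dvd_natCard _)
        exact Subgroup.mem_subgroupOf.1 hYle
      have hTc : Subgroup.normalizer ((T : Subgroup D) : Set D) ≤
          Subgroup.centralizer ((T : Subgroup D) : Set D) := by
        intro d _
        rw [Subgroup.mem_centralizer_iff]
        intro t ht
        exact Subtype.ext (Subgroup.mem_centralizer_iff.1 d.2.2 t (hTL ⟨t, ht, rfl⟩))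
      set W := (MonoidHom.transferSylow T hTc).ker
      have hW : W.IsComplement' (T : Subgroup D) := MonoidHom.ker_transferSylow_isComplement' T hTc
      haveI : W.Normal := MonoidHom.normal_ker _
      have hWp : ¬ p ∣ Nat.card W := MonoidHom.not_dvd_card_ker_transferSylow T hTc
      have hRW : ∀ u ∈ R₀, u ∈ (pPrimeCore p D).map D.subtype := by
        intro u hu
        refine ⟨⟨u, hR₀D hu⟩, Base.le_pPrimeCore_of_not_dvd (N := W) hWp ?_, rfl⟩
        obtain ⟨a, ha⟩ := IsPGroup.iff_card.1 T.2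
        refine Transfer.mem_of_coprime_orderOf_of_index ⟨a, by rw [← ha]; exact hW.symm.index_eq_card⟩ ?_
        obtain ⟨j, hj⟩ := S.2.map U.subtype ⟨u, hu⟩
        refine Nat.Coprime.coprime_dvd_left ?_ (((Nat.coprime_primes hr hp.out).2 hrp).pow_left j)
        rw [← Subgroup.orderOf_coe]
        exact orderOf_dvd_of_pow_eq_one (congrArg Subtype.val hj)
      have hR₀K : R₀ ≤ K := fun u hu => by
        haveI : ((pPrimeCore p D).map D.subtype).Normal := Base.normal_map_subtype _
        exact Base.le_pPrimeCore (Base.coprime_card_map_pPrimeCore D) (hRW u hu)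
      have hrU : r ∣ Nat.card U := hrd.trans (Subgroup.relIndex_dvd_card _ _)
      have hrR : r ∣ Nat.card R₀ := by
        rw [Subgroup.card_subtype]; exact Sylow.dvd_card_of_dvd_card S hrU
      obtain ⟨b, hb⟩ := IsPGroup.iff_card.1 hKq
      exact hrq ((Nat.prime_dvd_prime_iff_eq hr hq.out).1
        (hr.dvd_of_dvd_pow (hb ▸ hrR.trans (Subgroup.card_dvd_of_le hR₀K))))

end Pure

/-- Equal height zero sets force equal primes. -/
theorem main [Fintype G] {p q : ℕ} [hp : Fact p.Prime] [hq : Fact q.Prime] {Mp Mq : Ideal AlgInt}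
    [Mp.IsPrime] [Mq.IsPrime] (hpM : (p : AlgInt) ∈ Mp) (hqM : (q : AlgInt) ∈ Mq)
    (hd : p ∣ Nat.card G) (hps : IsPSolvable p G) (hqs : IsPSolvable q G)
    (h₁ : ∀ χ : IrrCharacter G, χ ∈ principalBlock Mp G → ¬ p ∣ charDegree (χ : G → ℂ) →
      χ ∈ principalBlock Mq G)
    (h₂ : ∀ χ : IrrCharacter G, χ ∈ principalBlock Mq G → ¬ q ∣ charDegree (χ : G → ℂ) →
      χ ∈ principalBlock Mp G) : p = q := by
  classical
  by_contra hpq
  set E := pPrimeCore p G ⊓ pPrimeCore q G
  haveI : E.Normal := Subgroup.normal_inf_normal _ _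
  have hEp : (Nat.card E).Coprime p :=
    (Base.pPrimeCore_coprime p G).coprime_dvd_left (Subgroup.card_dvd_of_le inf_le_left)
  have hEq : (Nat.card E).Coprime q :=
    (Base.pPrimeCore_coprime q G).coprime_dvd_left (Subgroup.card_dvd_of_le inf_le_right)
  set π := QuotientGroup.mk' E
  have hπ : Function.Surjective π := QuotientGroup.mk'_surjective E
  have hd' : p ∣ Nat.card (G ⧸ E) := by
    rw [← E.index_mul_card] at hd
    rw [← Subgroup.index_eq_card]
    exact (Nat.Coprime.dvd_of_dvd_mul_right hEp.symm hd)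
  have hmap : ∀ (r s : ℕ) [Fact r.Prime] [Fact s.Prime], (Nat.card E).Coprime s →
      E ≤ pPrimeCore s G →
      (∀ R : Sylow r G, pPrimeCore s G ⊓ (R : Subgroup G) ≤
        ⁅(R : Subgroup G), (R : Subgroup G)⁆) →
      ∀ R' : Sylow r (G ⧸ E), pPrimeCore s (G ⧸ E) ⊓ (R' : Subgroup (G ⧸ E)) ≤
        ⁅(R' : Subgroup (G ⧸ E)), (R' : Subgroup (G ⧸ E))⁆ := by
    intro r s _ _ hEs hEs' h R'
    obtain ⟨R, rfl⟩ := Sylow.mapSurjective_surjective hπ r R'
    rintro _ ⟨hL, ⟨u, hu, rfl⟩⟩
    have huL : u ∈ pPrimeCore s G := by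
      rw [← Base.comap_mk'_pPrimeCore E hEs]
      exact hL
    rw [show ((R.mapSurjective hπ : Sylow r (G ⧸ E)) : Subgroup (G ⧸ E)) =
      (R : Subgroup G).map π from rfl, ← Subgroup.map_commutator]
    exact ⟨u, h R ⟨huL, hu⟩, rfl⟩
  refine pure_false (G := G ⧸ E) hpq hd' (PLocal.isPSolvable_quotient hps E)
    (PLocal.isPSolvable_quotient hqs E) ?_
    (hmap p q hEq inf_le_right fun R => inf_core_le_commutator hpM hqM hps h₁ R)
    (hmap q p hEp inf_le_left fun R => inf_core_le_commutator hqM hpM hqs h₂ R)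
  refine Subgroup.comap_injective hπ ?_
  rw [Subgroup.comap_inf, Base.comap_mk'_pPrimeCore E hEp, Base.comap_mk'_pPrimeCore E hEq,
    MonoidHom.comap_bot, QuotientGroup.ker_mk']

end CfsgLib.BlockApps.SameZero
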