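import Cfsg.Agent.Lib.FgsB.NormalTwoRank
import Cfsg.Agent.Lib.BlockApps.SylowSymGen
import Cfsg.Agent.Lib.Classical.SL2Sylow
import Cfsg.Agent.Lib.Coprime.Action
import Mathlib.GroupTheory.SpecificGroups.Quaternion

/-!
# Abelianisations of the Sylow `2`-subgroups of `Sp_{2n}(q)` and `SL_n(q)`, `q` odd
-/

set_option autoImplicit false
set_option linter.style.haveILetI false
set_option linter.unusedSectionVars false

namespace CfsgLib.BlockApps.SylowClassical

open CfsgLib.FgsB.NormalTwoRank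
open scoped Pointwise commutatorElement

universe u

section Basic

variable {G H : Type*} [Group G] [Group H]

/-- The squares of `T` lie in its derived subgroup. -/
def Sq (T : Subgroup G) : Prop := ∀ x ∈ T, x ^ 2 ∈ ⁅T, T⁆

theorem sq_map (f : G →* H) {T : Subgroup G} (h : Sq T) : Sq (T.map f) := by
  rintro _ ⟨x, hx, rfl⟩
  rw [← map_pow, ← Subgroup.map_commutator]
  exact Subgroup.mem_map_of_mem f (h x hx)

theorem sq_of_map (f : G →* H) (hf : Function.Injective f) {T : Subgroup G} (h : Sq (T.map f)) :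
    Sq T := by
  intro x hx
  have h1 := h (f x) (Subgroup.mem_map_of_mem f hx)
  rw [← map_pow, ← Subgroup.map_commutator] at h1
  exact (Subgroup.mem_map_iff_mem hf).1 h1

theorem sq_of_closure (T : Subgroup G)
    (h : T ≤ Subgroup.closure {g | g ∈ T ∧ g ^ 2 ∈ ⁅T, T⁆}) : Sq T := by
  intro x hx
  have hle : Subgroup.closure {g | g ∈ T ∧ g ^ 2 ∈ ⁅T, T⁆} ≤
      ((powMonoidHom 2).comp (Abelianization.of (G := T))).ker.map T.subtype := by
    rw [Subgroup.closure_le]
    rintro g ⟨hg, hg2⟩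
    refine ⟨⟨g, hg⟩, ?_, rfl⟩
    rw [SetLike.mem_coe, MonoidHom.mem_ker, MonoidHom.comp_apply, powMonoidHom_apply, ← map_pow,
      ← MonoidHom.mem_ker, Abelianization.ker_of]
    rw [← Subgroup.map_subtype_commutator] at hg2
    exact (Subgroup.mem_map_iff_mem T.subtype_injective).1 hg2
  obtain ⟨y, hy, hyx⟩ := hle (h hx)
  rw [SetLike.mem_coe, MonoidHom.mem_ker, MonoidHom.comp_apply, powMonoidHom_apply, ← map_pow,
    ← MonoidHom.mem_ker, Abelianization.ker_of] at hy
  rw [← Subgroup.map_subtype_commutator]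
  exact ⟨y ^ 2, hy, by rw [map_pow, hyx]⟩

theorem sq_equiv {Q : Type*} [Group Q] {T : Subgroup G} (e : T ≃* Q)
    (h : ∀ y : Q, y ^ 2 ∈ commutator Q) : Sq T := by
  intro x hx
  rw [← Subgroup.map_subtype_commutator]
  exact ⟨⟨x, hx⟩ ^ 2, SylowSymGen.pow_mem_commutator_of_equiv e.symm 2 h ⟨x, hx⟩, rfl⟩

theorem sq_sylow_eq (P Q : Sylow 2 G) [Finite G] (h : Sq (P : Subgroup G)) :
    Sq (Q : Subgroup G) := by
  haveI : Fact (Nat.Prime 2) := ⟨Nat.prime_two⟩
  obtain ⟨g, rfl⟩ := MulAction.exists_smul_eq G P Q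
  exact sq_map (MulAut.conj g).toMonoidHom h

theorem sq_inf_sylow_eq (N : Subgroup G) [N.Normal] [Finite G] (P Q : Sylow 2 G)
    (h : Sq ((P : Subgroup G) ⊓ N)) : Sq ((Q : Subgroup G) ⊓ N) := by
  haveI : Fact (Nat.Prime 2) := ⟨Nat.prime_two⟩
  obtain ⟨g, rfl⟩ := MulAction.exists_smul_eq G P Q
  have h1 := sq_map (MulAut.conj g).toMonoidHom h
  rw [Subgroup.map_inf _ _ _ (MulAut.conj g).injective] at h1
  have hN : N.map (MulAut.conj g).toMonoidHom = N := by
    ext x
    refine ⟨?_, fun hx => ⟨g⁻¹ * x * g, ?_, by simp [mul_assoc]⟩⟩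
    · rintro ⟨y, hy, rfl⟩
      exact Subgroup.Normal.conj_mem inferInstance y hy g
    · simpa using Subgroup.Normal.conj_mem (inferInstance : N.Normal) x hx g⁻¹
  rw [hN] at h1
  exact h1

theorem pow_mem_commutator [Finite G] (T : Sylow 2 G) (h : Sq (T : Subgroup G)) (P : Sylow 2 G)
    (x : (P : Subgroup G)) : x ^ 2 ∈ commutator (P : Subgroup G) := by
  have h1 := sq_sylow_eq T P h (x : G) x.2
  rw [← Subgroup.map_subtype_commutator, ← SubmonoidClass.coe_pow] at h1
  exact (Subgroup.mem_map_iff_mem (P : Subgroup G).subtype_injective).1 h1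

theorem sq_quaternion {n : ℕ} (hn : Even n) (x : QuaternionGroup n) :
    x ^ 2 ∈ commutator (QuaternionGroup n) := by
  have key : ∀ i : ZMod (2 * n), QuaternionGroup.a (2 * i) ∈ commutator (QuaternionGroup n) := by
    intro i
    have e : ⁅QuaternionGroup.a i, QuaternionGroup.xa (0 : ZMod (2 * n))⁆ =
        QuaternionGroup.a (2 * i) := by
      rw [commutatorElement_def, mul_inv_eq_iff_eq_mul, mul_inv_eq_iff_eq_mul]
      simp [two_mul]
    rw [← e, commutator_def]
    exact Subgroup.commutator_mem_commutator (Subgroup.mem_top _) (Subgroup.mem_top _)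
  rcases x with i | i
  · rw [sq, QuaternionGroup.a_mul_a, ← two_mul]
    exact key i
  · rw [sq, QuaternionGroup.xa_mul_xa, add_sub_cancel_right]
    obtain ⟨c, hc⟩ := hn
    rw [show (n : ZMod (2 * n)) = 2 * (c : ZMod (2 * n)) by rw [hc, Nat.cast_add]; ring]
    exact key _

end Basic

section Wreath

variable {K : Type*} [Group K] {m : ℕ} {A : Type*} [CommGroup A] (δ : K →* A)

/-- The product of `δ` over the base. -/
def Δ : (Fin m → K) ⋊[permAct K m] Equiv.Perm (Fin m) →* A where
  toFun x := ∏ i, δ (x.left i)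
  map_one' := by simp
  map_mul' x y := by
    simp only [SemidirectProduct.mul_left, Pi.mul_apply, map_mul, Finset.prod_mul_distrib]
    congr 1
    exact Equiv.prod_comp x.right.symm (fun i => δ (y.left i))

/-- The subgroup `P ≀ S`. -/
def wr (P : Subgroup K) (S : Subgroup (Equiv.Perm (Fin m))) :
    Subgroup ((Fin m → K) ⋊[permAct K m] Equiv.Perm (Fin m)) where
  carrier := {x | (∀ i, x.left i ∈ P) ∧ x.right ∈ S}
  one_mem' := ⟨fun i => P.one_mem, S.one_mem⟩
  mul_mem' {x y} hx hy := ⟨fun i => P.mul_mem (hx.1 i) (hy.1 (x.right.symm i)), S.mul_mem hx.2 hy.2⟩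
  inv_mem' {x} hx := ⟨fun i => by
    rw [SemidirectProduct.inv_left]
    exact P.inv_mem (hx.1 _), S.inv_mem hx.2⟩

theorem card_wr (P : Subgroup K) (S : Subgroup (Equiv.Perm (Fin m))) :
    Nat.card (wr P S) = Nat.card P ^ m * Nat.card S := by
  let e : wr P S ≃ (Fin m → P) × S :=
    { toFun := fun x => (fun i => ⟨x.1.left i, x.2.1 i⟩, ⟨x.1.right, x.2.2⟩)
      invFun := fun y => ⟨⟨fun i => y.1 i, y.2⟩, fun i => (y.1 i).2, y.2.2⟩
      left_inv := fun x => rfl
      right_inv := fun y => rfl }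
  rw [Nat.card_congr e, Nat.card_prod, Nat.card_fun, Nat.card_fin]

theorem single_mem (P : Subgroup K) (S : Subgroup (Equiv.Perm (Fin m))) (i : Fin m) {g : K}
    (hg : g ∈ P) : SemidirectProduct.inl (Pi.mulSingle i g) ∈ wr P S := by
  refine ⟨fun j => ?_, S.one_mem⟩
  rw [SemidirectProduct.left_inl]
  rcases eq_or_ne j i with rfl | h
  · rwa [Pi.mulSingle_eq_same]
  · rw [Pi.mulSingle_eq_of_ne h]
    exact P.one_mem

theorem Δ_single (i : Fin m) (g : K) :
    Δ δ (SemidirectProduct.inl (Pi.mulSingle i g) : (Fin m → K) ⋊[permAct K m] Equiv.Perm (Fin m)) =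
      δ g := by
  show ∏ j, δ ((Pi.mulSingle i g : Fin m → K) j) = δ g
  rw [Finset.prod_eq_single i (fun j _ h => by rw [Pi.mulSingle_eq_of_ne h, map_one])
    (fun h => absurd (Finset.mem_univ i) h), Pi.mulSingle_eq_same]

/-- The kernel of `Δ` on `P ≀ S`. -/
theorem sq_wr_ker (P : Subgroup K) (hP : Sq (P ⊓ δ.ker)) (S : Subgroup (Equiv.Perm (Fin m)))
    (hS : Sq S)
    (hu : (∀ i j : Fin m, i ≠ j → Equiv.swap i j ∈ S) ∨
      ∀ g ∈ P, ∃ u ∈ P, u ^ 2 = 1 ∧ δ u = δ g) :
    Sq (wr P S ⊓ (Δ δ).ker) := by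
  classical
  set T := wr P S ⊓ (Δ δ).ker
  set C := Subgroup.closure {g | g ∈ T ∧ g ^ 2 ∈ ⁅T, T⁆}
  refine sq_of_closure T fun x hx => ?_
  have hinr : ∀ s ∈ S, (SemidirectProduct.inr s : (Fin m → K) ⋊[permAct K m] Equiv.Perm (Fin m)) ∈ T :=
    fun s hs => ⟨⟨fun i => P.one_mem, hs⟩, MonoidHom.mem_ker.2 (by simp [Δ])⟩
  have hperm : (SemidirectProduct.inr x.right :
      (Fin m → K) ⋊[permAct K m] Equiv.Perm (Fin m)) ∈ C := by
    refine Subgroup.subset_closure ⟨hinr _ hx.1.2, ?_⟩
    have h1 := Subgroup.mem_map_of_mem (SemidirectProduct.inr :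
      Equiv.Perm (Fin m) →* (Fin m → K) ⋊[permAct K m] Equiv.Perm (Fin m)) (hS _ hx.1.2)
    rw [map_pow, Subgroup.map_commutator] at h1
    refine Subgroup.commutator_mono ?_ ?_ h1 <;> exact Subgroup.map_le_iff_le_comap.2 hinr
  have hsingle : ∀ i, ∀ g ∈ P ⊓ δ.ker, (SemidirectProduct.inl (Pi.mulSingle i g) :
      (Fin m → K) ⋊[permAct K m] Equiv.Perm (Fin m)) ∈ C := by
    intro i g hg
    let f : K →* (Fin m → K) ⋊[permAct K m] Equiv.Perm (Fin m) :=
      SemidirectProduct.inl.comp (MonoidHom.mulSingle (fun _ : Fin m => K) i)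
    have hf : (P ⊓ δ.ker).map f ≤ T := by
      rintro _ ⟨h, hh, rfl⟩
      exact ⟨single_mem P S i hh.1, MonoidHom.mem_ker.2 ((Δ_single δ i h).trans hh.2)⟩
    refine Subgroup.subset_closure ⟨hf ⟨g, hg, rfl⟩, ?_⟩
    have h1 := sq_map f hP (f g) ⟨g, hg, rfl⟩
    exact Subgroup.commutator_mono hf hf h1
  have hpair : ∀ i j, i ≠ j → ∀ g ∈ P, ∃ u ∈ P, δ u = δ g ∧ (SemidirectProduct.inl
      (Pi.mulSingle i u * Pi.mulSingle j u⁻¹) :
        (Fin m → K) ⋊[permAct K m] Equiv.Perm (Fin m)) ∈ C := by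
    intro i j hij g hg
    have hmemT : ∀ u ∈ P, (SemidirectProduct.inl (Pi.mulSingle i u * Pi.mulSingle j u⁻¹) :
        (Fin m → K) ⋊[permAct K m] Equiv.Perm (Fin m)) ∈ T := by
      intro u hu
      refine ⟨?_, MonoidHom.mem_ker.2 ?_⟩
      · rw [map_mul]
        exact mul_mem (single_mem P S i hu) (single_mem P S j (inv_mem hu))
      · rw [map_mul, map_mul, Δ_single, Δ_single, map_inv, mul_inv_cancel]
    have hcomm : ∀ a b : K, Commute (Pi.mulSingle i a : Fin m → K) (Pi.mulSingle j b) := fun a b =>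
      Pi.mulSingle_commute (f := fun _ : Fin m => K) hij a b
    rcases hu with hu | hu
    · refine ⟨g, hg, rfl, Subgroup.subset_closure ⟨hmemT g hg, ?_⟩⟩
      set e : Fin m → K := Pi.mulSingle i g * Pi.mulSingle j g⁻¹ with he
      have hsw : permAct K m (Equiv.swap i j) e = e⁻¹ := by
        funext k
        show e ((Equiv.swap i j).symm k) = (e k)⁻¹
        rw [Equiv.symm_swap, he]
        rcases eq_or_ne k i with rfl | hki
        · rw [Equiv.swap_apply_left]
          simp [hij, hij.symm]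
        rcases eq_or_ne k j with rfl | hkj
        · rw [Equiv.swap_apply_right]
          simp [hij, hij.symm]
        rw [Equiv.swap_apply_of_ne_of_ne hki hkj]
        simp [hki, hkj]
      have hkey : ⁅(SemidirectProduct.inl e : (Fin m → K) ⋊[permAct K m] Equiv.Perm (Fin m)),
          (SemidirectProduct.inr (Equiv.swap i j) :
            (Fin m → K) ⋊[permAct K m] Equiv.Perm (Fin m))⁆ = SemidirectProduct.inl e ^ 2 := by
        rw [commutatorElement_def, mul_assoc (SemidirectProduct.inl e), mul_assoc (SemidirectProduct.inl e),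
          ← map_inv (SemidirectProduct.inr : Equiv.Perm (Fin m) →* _),
          ← map_inv (SemidirectProduct.inl : (Fin m → K) →* _), ← SemidirectProduct.inl_aut,
          map_inv, hsw, inv_inv, sq]
      rw [← hkey]
      exact Subgroup.commutator_mem_commutator (hmemT g hg) (hinr _ (hu i j hij))
    · obtain ⟨u, huP, hu2, hδ⟩ := hu g hg
      refine ⟨u, huP, hδ, Subgroup.subset_closure ⟨hmemT u huP, ?_⟩⟩
      rw [← map_pow, (hcomm u u⁻¹).mul_pow, ← Pi.mulSingle_pow, ← Pi.mulSingle_pow, inv_pow, hu2,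
        inv_one, Pi.mulSingle_one, Pi.mulSingle_one, one_mul, map_one]
      exact one_mem _
  have hbase : ∀ (s : Finset (Fin m)) (f : Fin m → K), (∀ i, f i ∈ P) → ∏ i, δ (f i) = 1 →
      (∀ i ∉ s, δ (f i) = 1) →
      (SemidirectProduct.inl f : (Fin m → K) ⋊[permAct K m] Equiv.Perm (Fin m)) ∈ C := by
    intro s
    induction s using Finset.induction with
    | empty =>
      intro f hf _ h1
      exact Subgroup.pi_mem_of_mulSingle_mem (H := C.comap SemidirectProduct.inl) f
        fun i => hsingle i (f i) ⟨hf i, h1 i (Finset.notMem_empty i)⟩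
    | insert i s his ih =>
      intro f hf hprod h1
      by_cases hs : ∀ j ∈ s, δ (f j) = 1
      · refine ih f hf hprod fun k hk => ?_
        rcases eq_or_ne k i with rfl | hki
        · rw [← hprod]
          refine (Finset.prod_eq_single (f := fun l => δ (f l)) k (fun l _ hl => ?_)
            fun h => absurd (Finset.mem_univ k) h).symm
          by_cases hls : l ∈ s
          · exact hs l hls
          · exact h1 l (by simp [hl, hls])
        · exact h1 k (by simp [hki, hk])
      simp only [not_forall] at hs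
      obtain ⟨j, hj, -⟩ := hs
      have hij : i ≠ j := fun e => his (e ▸ hj)
      obtain ⟨u, huP, hδ, he⟩ := hpair i j hij (f i) (hf i)
      set e : Fin m → K := Pi.mulSingle i u * Pi.mulSingle j u⁻¹ with hedef
      have hfe : f = e * (e⁻¹ * f) := (mul_inv_cancel_left e f).symm
      rw [hfe, map_mul]
      refine mul_mem he (ih _ (fun k => ?_) ?_ fun k hk => ?_)
      · refine mul_mem (inv_mem ?_) (hf k)
        refine mul_mem ?_ ?_
        · rcases eq_or_ne k i with rfl | h
          · simpa using huP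
          · simp [h]
        · rcases eq_or_ne k j with rfl | h
          · simpa using huP
          · simp [h]
      · have h2 : ∏ k, δ (e k) = 1 := by
          have := Δ_single δ i u
          have h3 := Δ_single δ j u⁻¹
          simp only [Δ, MonoidHom.coe_mk, OneHom.coe_mk, SemidirectProduct.left_inl] at this h3
          simp only [hedef, Pi.mul_apply, map_mul, Finset.prod_mul_distrib, this, h3]
          simp
        simp only [Pi.mul_apply, Pi.inv_apply, map_mul, map_inv, Finset.prod_mul_distrib,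
          Finset.prod_inv_distrib, h2, hprod, inv_one, one_mul]
      · rcases eq_or_ne k i with rfl | hki
        · simp [hedef, hij, hδ]
        · have hkj : k ≠ j := fun e => hk (e ▸ hj)
          simp [hedef, hki, hkj, h1 k (by simp [hki, hk])]
  have hx2 : ∏ i, δ (x.left i) = 1 := hx.2
  rw [show x = SemidirectProduct.inl x.left * SemidirectProduct.inr x.right from
    (SemidirectProduct.inl_left_mul_inr_right x).symm]
  exact mul_mem (hbase Finset.univ x.left hx.1.1 hx2 fun i hi => absurd (Finset.mem_univ i) hi) hperm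

theorem sq_wr (P : Subgroup K) (hP : Sq P) (S : Subgroup (Equiv.Perm (Fin m))) (hS : Sq S) :
    Sq (wr P S) := by
  have h := sq_wr_ker (1 : K →* PUnit.{1}) P (by simpa using hP) S hS
    (Or.inr fun g _ => ⟨1, one_mem P, one_pow 2, Subsingleton.elim _ _⟩)
  rwa [show (Δ (1 : K →* PUnit.{1}) : (Fin m → K) ⋊[permAct K m] Equiv.Perm (Fin m) →* PUnit.{1}).ker
    = ⊤ from eq_top_iff.2 fun x _ => Subsingleton.elim _ _, inf_top_eq] at h

end Wreath

theorem exists_perm_sylow (m : ℕ) : ∃ S : Subgroup (Equiv.Perm (Fin m)), Sq S ∧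
    (∃ T : Sylow 2 (Equiv.Perm (Fin m)), (T : Subgroup (Equiv.Perm (Fin m))) = S) := by
  classical
  haveI : Fact (Nat.Prime 2) := ⟨Nat.prime_two⟩
  obtain ⟨W, hWp, hWc, hWgen, -⟩ := SylowSymGen.exists_good 2 m
  rw [Fintype.card_fin] at hWc
  obtain ⟨T, hT⟩ := hWp.exists_le_sylow
  have hTW : W = (T : Subgroup (Equiv.Perm (Fin m))) :=
    Subgroup.eq_of_le_of_card_ge hT (le_trans (le_of_eq (by
      rw [T.card_eq_multiplicity, Nat.card_perm, Nat.card_fin,
        Nat.factorization_def _ Nat.prime_two])) hWc)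
  refine ⟨W, sq_of_closure W ?_, T, hTW.symm⟩
  refine hWgen.trans (Subgroup.closure_mono fun g hg => ⟨hg.1, ?_⟩)
  rw [hg.2]
  exact one_mem _

section Model

variable {K : Type*} [Group K] [Finite K] {G : Type*} [Group G] [Finite G] {F : Type u} [Field F]
  [Finite F] {m ε : ℕ}

/-- The Sylow subgroup of the model goes to a Sylow subgroup. -/
theorem exists_sylow_image (ψ : Model K m ε F →* G) (hψ : Function.Injective ψ)
    (hv : (Nat.card G).factorization 2 = m * (Nat.card K).factorization 2 +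
      padicValNat 2 m.factorial + ε * (Nat.card F - 1).factorization 2)
    (P : Sylow 2 K) (S : Sylow 2 (Equiv.Perm (Fin m))) (E : Sylow 2 (Fin ε → Fˣ)) :
    ∃ T : Sylow 2 G, (T : Subgroup G) =
      ((wr (P : Subgroup K) (S : Subgroup (Equiv.Perm (Fin m)))).prod
        (E : Subgroup (Fin ε → Fˣ))).map ψ := by
  haveI : Fact (Nat.Prime 2) := ⟨Nat.prime_two⟩
  have hcard : Nat.card (Fin ε → Fˣ) = (Nat.card F - 1) ^ ε := by
    rw [Nat.card_fun, Nat.card_fin, Nat.card_units]
  have hc : Nat.card (((wr (P : Subgroup K) (S : Subgroup (Equiv.Perm (Fin m)))).prod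
      (E : Subgroup (Fin ε → Fˣ))).map ψ) = 2 ^ (Nat.card G).factorization 2 := by
    rw [Subgroup.card_map_of_injective hψ, Nat.card_congr (Subgroup.prodEquiv _ _).toEquiv,
      Nat.card_prod, card_wr, P.card_eq_multiplicity, S.card_eq_multiplicity, E.card_eq_multiplicity,
      hcard, Nat.factorization_pow, Finsupp.smul_apply, smul_eq_mul, Nat.card_perm, Nat.card_fin,
      Nat.factorization_def m.factorial Nat.prime_two, ← pow_mul, ← pow_add, ← pow_add, hv]
    ring_nf
  exact ⟨Sylow.ofCard _ hc, rfl⟩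

end Model

section GLn

variable {F : Type u} [Field F]

/-- The monomial model in `GL_n`, with its determinant. -/
theorem exists_gl_embedding {n b m ε : ℕ} (hb : 0 < b) (hbe : Even b) (hn : m * b + ε = n) :
    ∃ ψ : Model (GL (Fin b) F) m ε F →* GL (Fin n) F, Function.Injective ψ ∧
      ∀ x, Matrix.GeneralLinearGroup.det (ψ x) =
        Δ Matrix.GeneralLinearGroup.det x.1 * ∏ i, x.2 i := by
  classical
  let r : GL (Fin b) F →* ((Fin b → F) ≃ₗ[F] (Fin b → F)) :=
    ((LinearMap.GeneralLinearGroup.generalLinearEquiv F (Fin b → F)).toMonoidHom).comp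
      Matrix.GeneralLinearGroup.toLin.toMonoidHom
  have hr : Function.Injective r := fun x y h =>
    Matrix.GeneralLinearGroup.toLin.injective
      ((LinearMap.GeneralLinearGroup.generalLinearEquiv F _).injective h)
  haveI : Nonempty (Fin b) := ⟨⟨0, hb⟩⟩
  haveI : Nontrivial (Fin b → F) := Function.nontrivial
  have hd : Module.finrank F ((Fin m → (Fin b → F)) × (Fin ε → F)) = n := by
    rw [Module.finrank_prod, Module.finrank_pi_fintype, Finset.sum_const, Finset.card_univ,
      Fintype.card_fin, Module.finrank_fin_fun, Module.finrank_fin_fun, smul_eq_mul, hn]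
  let bas := Module.finBasisOfFinrankEq F _ hd
  let ψ : Model (GL (Fin b) F) m ε F →* GL (Fin n) F :=
    (((Matrix.GeneralLinearGroup.toLin' bas).trans
      (LinearMap.GeneralLinearGroup.generalLinearEquiv F _)).symm.toMonoidHom).comp (modelRep r)
  have hψ : Function.Injective ψ := fun x y h => modelRep_injective r hr
    (((Matrix.GeneralLinearGroup.toLin' bas).trans
      (LinearMap.GeneralLinearGroup.generalLinearEquiv F _)).symm.injective h)
  -- permutations of `F^m` have determinant `±1`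
  let χ : Equiv.Perm (Fin m) →* Fˣ :=
    { toFun := fun π => LinearEquiv.det (LinearEquiv.funCongrLeft F F π.symm)
      map_one' := by
        rw [show LinearEquiv.funCongrLeft F F (1 : Equiv.Perm (Fin m)).symm =
          (1 : (Fin m → F) ≃ₗ[F] (Fin m → F)) from LinearEquiv.ext fun v => rfl, map_one]
      map_mul' := fun π π' => by
        rw [← map_mul]
        exact congrArg _ (LinearEquiv.ext fun v => rfl) }
  have hχ : ∀ π, χ π ^ 2 = 1 := by
    intro π
    induction π using Equiv.Perm.swap_induction_on with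
    | one => rw [map_one, one_pow]
    | swap_mul f x y _ ih =>
      rw [map_mul, mul_pow, ih, mul_one, ← map_pow, sq, Equiv.swap_mul_self, map_one]
  have hperm : ∀ π : Equiv.Perm (Fin m),
      LinearMap.det (LinearMap.funLeft F (Fin b → F) (⇑π.symm)) = 1 := by
    intro π
    let c : (Fin m → Fin b → F) ≃ₗ[F] (Fin b → Fin m → F) :=
      { toFun := fun v j i => v i j
        invFun := fun v i j => v j i
        map_add' := fun _ _ => rfl
        map_smul' := fun _ _ => rfl
        left_inv := fun _ => rfl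
        right_inv := fun _ => rfl }
    rw [← LinearMap.det_conj _ c]
    rw [show (c : (Fin m → Fin b → F) →ₗ[F] (Fin b → Fin m → F)).comp
        ((LinearMap.funLeft F (Fin b → F) (⇑π.symm)).comp
        (c.symm : (Fin b → Fin m → F) →ₗ[F] (Fin m → Fin b → F))) =
      LinearMap.pi fun j : Fin b => (LinearMap.funLeft F F (⇑π.symm)).comp (LinearMap.proj j) from
        LinearMap.ext fun v => rfl, LinearMap.det_pi, Finset.prod_const, Finset.card_univ,
      Fintype.card_fin]
    obtain ⟨k, hk⟩ := hbe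
    have h1 := congrArg Units.val (hχ π)
    rw [Units.val_pow_eq_pow_val, Units.val_one] at h1
    rw [hk, ← two_mul, pow_mul]
    have h2 : LinearMap.det (LinearMap.funLeft F F (⇑π.symm)) = (χ π : F) := by
      show _ = ((LinearEquiv.det (LinearEquiv.funCongrLeft F F π.symm) : Fˣ) : F)
      rw [LinearEquiv.coe_det]
      rfl
    rw [h2, h1, one_pow]
  refine ⟨ψ, hψ, fun x => Units.ext ?_⟩
  have hψdet : (Matrix.GeneralLinearGroup.det (ψ x) : F) =
      LinearMap.det ((modelRep r x : ((Fin m → (Fin b → F)) × (Fin ε → F)) ≃ₗ[F] _) :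
        ((Fin m → (Fin b → F)) × (Fin ε → F)) →ₗ[F] _) := by
    rw [Matrix.GeneralLinearGroup.val_det_apply, ← LinearMap.det_toMatrix bas]
    rfl
  rw [hψdet]
  show LinearMap.det (LinearMap.prodMap
    (blockRep r x.1 : (Fin m → Fin b → F) →ₗ[F] (Fin m → Fin b → F))
    (diagRep x.2 : (Fin ε → F) →ₗ[F] (Fin ε → F))) = _
  rw [LinearMap.det_prodMap]
  have hblock : (blockRep r x.1 : (Fin m → Fin b → F) →ₗ[F] (Fin m → Fin b → F)) =
      (LinearMap.pi fun i => (r (x.1.left i) : (Fin b → F) →ₗ[F] (Fin b → F)).comp (LinearMap.proj i)).comp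
        (LinearMap.funLeft F (Fin b → F) (⇑x.1.right.symm)) :=
    LinearMap.ext fun v => funext fun i => blockRep_apply r x.1 v i
  have hdiag : (diagRep x.2 : (Fin ε → F) →ₗ[F] (Fin ε → F)) =
      LinearMap.pi fun i => ((x.2 i : F) • LinearMap.id).comp (LinearMap.proj i) :=
    LinearMap.ext fun v => funext fun i => rfl
  rw [hblock, LinearMap.det_comp, hperm, mul_one, hdiag, LinearMap.det_pi, LinearMap.det_pi,
    Units.val_mul, Units.coe_prod]
  congr 1
  · show _ = ((∏ i, Matrix.GeneralLinearGroup.det (x.1.left i) : Fˣ) : F)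
    rw [Units.coe_prod]
    refine Finset.prod_congr rfl fun i _ => ?_
    rw [Matrix.GeneralLinearGroup.val_det_apply, ← LinearMap.det_toLin']
    rfl
  · simp

variable [Fintype F]

/-- The determinant `1` part of a Sylow subgroup of `GL_n` has squares in its derived group. -/
theorem gl_step (hodd : Odd (Fintype.card F)) {n b m ε : ℕ} (hε : ε ≤ 1) (hb : 0 < b)
    (hbe : Even b) (hn : m * b + ε = n)
    (hv : vGL (Fintype.card F) n = m * vGL (Fintype.card F) b + padicValNat 2 m.factorial +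
      ε * padicValNat 2 (Fintype.card F - 1))
    (P : Sylow 2 (GL (Fin b) F))
    (hP : Sq ((P : Subgroup (GL (Fin b) F)) ⊓ Matrix.GeneralLinearGroup.det.ker))
    (hu : m ≤ 2 ∨ ∀ g ∈ (P : Subgroup (GL (Fin b) F)), ∃ u ∈ (P : Subgroup (GL (Fin b) F)),
      u ^ 2 = 1 ∧ Matrix.GeneralLinearGroup.det u = Matrix.GeneralLinearGroup.det g)
    (hfull : ε = 1 → Sq (P : Subgroup (GL (Fin b) F))) :
    ∃ T : Sylow 2 (GL (Fin n) F),
      Sq ((T : Subgroup (GL (Fin n) F)) ⊓ Matrix.GeneralLinearGroup.det.ker) := by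
  classical
  haveI : Fact (Nat.Prime 2) := ⟨Nat.prime_two⟩
  obtain ⟨ψ, hψ, hdet⟩ := exists_gl_embedding (F := F) hb hbe hn
  obtain ⟨S, hS, S', hS'⟩ := exists_perm_sylow m
  obtain ⟨E⟩ : Nonempty (Sylow 2 (Fin ε → Fˣ)) := inferInstance
  obtain ⟨T, hT⟩ := exists_sylow_image ψ hψ (by
    rw [factorization_GL hodd, factorization_GL hodd, Nat.card_eq_fintype_card (α := F),
      Nat.factorization_def _ Nat.prime_two, hv]) P S' E
  refine ⟨T, ?_⟩
  rw [hS'] at hT
  set W := wr (P : Subgroup (GL (Fin b) F)) S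
  rcases Nat.le_one_iff_eq_zero_or_eq_one.1 hε with rfl | rfl
  · have hu' : (∀ i j : Fin m, i ≠ j → Equiv.swap i j ∈ S) ∨
        ∀ g ∈ (P : Subgroup (GL (Fin b) F)), ∃ u ∈ (P : Subgroup (GL (Fin b) F)),
          u ^ 2 = 1 ∧ Matrix.GeneralLinearGroup.det u = Matrix.GeneralLinearGroup.det g := by
      rcases hu with hm | hu
      · left
        have hp : IsPGroup 2 (Equiv.Perm (Fin m)) := by
          have : Nat.card (Equiv.Perm (Fin m)) = 1 ∨ Nat.card (Equiv.Perm (Fin m)) = 2 := by
            rw [Nat.card_perm, Nat.card_fin]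
            interval_cases m <;> simp
          rcases this with h | h
          · exact IsPGroup.of_card (n := 0) h
          · exact IsPGroup.of_card (n := 1) h
        intro i j _
        rw [← hS']
        have htop : (S' : Subgroup (Equiv.Perm (Fin m))) = ⊤ :=
          (S'.is_maximal' (hp.to_subgroup ⊤) le_top).symm
        rw [htop]
        exact Subgroup.mem_top _
      · exact Or.inr hu
    have h := sq_wr_ker (m := m) (Matrix.GeneralLinearGroup.det : GL (Fin b) F →* Fˣ)
      (P : Subgroup (GL (Fin b) F)) hP S hS hu'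
    suffices e : (T : Subgroup (GL (Fin n) F)) ⊓ Matrix.GeneralLinearGroup.det.ker =
        (W ⊓ (Δ Matrix.GeneralLinearGroup.det).ker).map
          (ψ.comp (MonoidHom.inl ((Fin m → GL (Fin b) F) ⋊[permAct (GL (Fin b) F) m]
            Equiv.Perm (Fin m)) (Fin 0 → Fˣ))) by
      rw [e]; exact sq_map _ h
    rw [hT]
    ext g
    constructor
    · rintro ⟨⟨⟨w, e⟩, ⟨hw, -⟩, rfl⟩, hg⟩
      have he : e = 1 := funext fun i => i.elim0
      subst he
      refine ⟨w, ⟨hw, MonoidHom.mem_ker.2 ?_⟩, rfl⟩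
      have h1 := hdet (w, 1)
      rw [MonoidHom.mem_ker.1 hg] at h1
      simpa using h1.symm
    · rintro ⟨w, ⟨hw, hwk⟩, rfl⟩
      refine ⟨⟨(w, 1), ⟨hw, one_mem _⟩, rfl⟩, MonoidHom.mem_ker.2 ?_⟩
      show Matrix.GeneralLinearGroup.det (ψ (w, 1)) = 1
      rw [hdet, MonoidHom.mem_ker.1 hwk]
      simp
  · let ι : (Fin m → GL (Fin b) F) ⋊[permAct (GL (Fin b) F) m] Equiv.Perm (Fin m) →*
        Model (GL (Fin b) F) m 1 F :=
      (MonoidHom.id _).prod (MonoidHom.pi fun _ => (Δ Matrix.GeneralLinearGroup.det)⁻¹)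
    have h := sq_map (ψ.comp ι) (sq_wr (P : Subgroup (GL (Fin b) F)) (hfull rfl) S hS)
    have hW : IsPGroup 2 W := by
      obtain ⟨a, ha⟩ := IsPGroup.iff_card.1 P.2
      obtain ⟨c, hc⟩ := IsPGroup.iff_card.1 (hS' ▸ S'.2)
      exact IsPGroup.of_card (n := a * m + c) (by rw [card_wr, ha, hc, pow_add, pow_mul])
    have hE : ∀ w ∈ W, (ι w).2 ∈ (E : Subgroup (Fin 1 → Fˣ)) := by
      intro w hw
      have h1 : IsPGroup 2 (W.map ((MonoidHom.snd _ _).comp ι)) := hW.map _
      exact (Base.le_pCore h1).trans (Base.pCore_le_sylow E) ⟨w, hw, rfl⟩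
    suffices e : (T : Subgroup (GL (Fin n) F)) ⊓ Matrix.GeneralLinearGroup.det.ker =
        W.map (ψ.comp ι) by
      rw [e]; exact h
    rw [hT]
    ext g
    constructor
    · rintro ⟨⟨⟨w, e⟩, ⟨hw, -⟩, rfl⟩, hg⟩
      refine ⟨w, hw, ?_⟩
      have h1 := hdet (w, e)
      rw [MonoidHom.mem_ker.1 hg, Fin.prod_univ_one] at h1
      show ψ (ι w) = ψ (w, e)
      congr 1
      refine Prod.ext rfl (funext fun i => ?_)
      rw [Subsingleton.elim i 0]
      exact inv_eq_of_mul_eq_one_right h1.symm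
    · rintro ⟨w, hw, rfl⟩
      refine ⟨⟨ι w, ⟨hw, hE w hw⟩, rfl⟩, MonoidHom.mem_ker.2 ?_⟩
      show Matrix.GeneralLinearGroup.det (ψ (ι w)) = 1
      rw [hdet]
      simp [ι]

theorem range_toGL {n : ℕ} :
    (Matrix.SpecialLinearGroup.toGL : Matrix.SpecialLinearGroup (Fin n) F →* GL (Fin n) F).range =
      Matrix.GeneralLinearGroup.det.ker := by
  ext g
  constructor
  · rintro ⟨s, rfl⟩
    exact MonoidHom.mem_ker.2 (Units.ext s.2)
  · intro hg
    exact ⟨⟨g, by simpa using congrArg Units.val (MonoidHom.mem_ker.1 hg)⟩, Units.ext rfl⟩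

/-- A Sylow subgroup of `SL_n` from one of `GL_n`. -/
theorem exists_sylow_comap {n : ℕ} (T : Sylow 2 (GL (Fin n) F)) :
    ∃ Q : Sylow 2 (Matrix.SpecialLinearGroup (Fin n) F),
      (Q : Subgroup (Matrix.SpecialLinearGroup (Fin n) F)).map Matrix.SpecialLinearGroup.toGL =
        (T : Subgroup (GL (Fin n) F)) ⊓ Matrix.GeneralLinearGroup.det.ker := by
  haveI : Fact (Nat.Prime 2) := ⟨Nat.prime_two⟩
  let f : Matrix.SpecialLinearGroup (Fin n) F →* GL (Fin n) F := Matrix.SpecialLinearGroup.toGL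
  have hp : IsPGroup 2 ((T : Subgroup (GL (Fin n) F)).comap f) :=
    T.2.comap_of_injective f Matrix.SpecialLinearGroup.toGL_injective
  have hi : ¬ 2 ∣ ((T : Subgroup (GL (Fin n) F)).comap f).index := by
    rw [Subgroup.index_comap, range_toGL]
    intro hd
    refine T.not_dvd_index (hd.trans ?_)
    rw [← Subgroup.inf_relIndex_right, ← Subgroup.relIndex_top_right (T : Subgroup (GL (Fin n) F))]
    exact Coprime.relIndex_dvd_of_normalizes le_top le_top
      (Subgroup.normalizer_eq_top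
        (H := (Matrix.GeneralLinearGroup.det : GL (Fin n) F →* Fˣ).ker) ▸ le_top)
  refine ⟨hp.toSylow hi, ?_⟩
  show ((T : Subgroup (GL (Fin n) F)).comap f).map f = _
  rw [Subgroup.map_comap_eq, range_toGL, inf_comm]

theorem sl_of_gl {n : ℕ} (h : ∃ T : Sylow 2 (GL (Fin n) F),
    Sq ((T : Subgroup (GL (Fin n) F)) ⊓ Matrix.GeneralLinearGroup.det.ker))
    (P : Sylow 2 (Matrix.SpecialLinearGroup (Fin n) F))
    (x : (P : Subgroup (Matrix.SpecialLinearGroup (Fin n) F))) :
    x ^ 2 ∈ commutator (P : Subgroup (Matrix.SpecialLinearGroup (Fin n) F)) := by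
  obtain ⟨T, hT⟩ := h
  obtain ⟨Q, hQ⟩ := exists_sylow_comap T
  exact pow_mem_commutator Q
    (sq_of_map _ Matrix.SpecialLinearGroup.toGL_injective (hQ ▸ hT)) P x

theorem sq_sylow_SL2 (hodd : Odd (Fintype.card F))
    (P : Sylow 2 (Matrix.SpecialLinearGroup (Fin 2) F)) :
    Sq (P : Subgroup (Matrix.SpecialLinearGroup (Fin 2) F)) := by
  have h2 := CfsgLib.Geometry.two_ne_zero_of_odd_card (F := F) rfl hodd
  obtain ⟨k, hk, ⟨e⟩⟩ := CfsgLib.Classical.sylow_two_SL2 h2 P
  exact sq_equiv e fun y => sq_quaternion (Nat.even_pow.2 ⟨even_two, by omega⟩) y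

theorem sq_sylow_GL2 (hodd : Odd (Fintype.card F)) (P : Sylow 2 (GL (Fin 2) F)) :
    Sq ((P : Subgroup (GL (Fin 2) F)) ⊓ Matrix.GeneralLinearGroup.det.ker) := by
  obtain ⟨Q, hQ⟩ := exists_sylow_comap P
  exact hQ ▸ sq_map _ (sq_sylow_SL2 hodd Q)

/-- For `q ≡ 3 (mod 4)`: a Sylow subgroup of `GL_2` split by an involution of determinant `-1`. -/
theorem exists_sylow_GL2_three (hodd : Odd (Fintype.card F)) (h3 : Fintype.card F % 4 = 3) :
    ∃ P : Sylow 2 (GL (Fin 2) F), (∀ g ∈ (P : Subgroup (GL (Fin 2) F)),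
      ∃ u ∈ (P : Subgroup (GL (Fin 2) F)), u ^ 2 = 1 ∧
        Matrix.GeneralLinearGroup.det u = Matrix.GeneralLinearGroup.det g) ∧
      Sq (P : Subgroup (GL (Fin 2) F)) := by
  classical
  haveI : Fact (Nat.Prime 2) := ⟨Nat.prime_two⟩
  let u : GL (Fin 2) F := Matrix.GeneralLinearGroup.mkOfDetNeZero (Matrix.diagonal ![(-1 : F), 1])
    (by simp [Matrix.det_diagonal])
  have hu2 : u ^ 2 = 1 := Units.ext (by
    rw [Units.val_pow_eq_pow_val, Units.val_one]
    show (Matrix.diagonal ![(-1 : F), 1]) ^ 2 = 1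
    rw [Matrix.diagonal_pow, ← Matrix.diagonal_one]
    congr 1
    funext i
    fin_cases i <;> simp)
  have hdu : (Matrix.GeneralLinearGroup.det u : F) = -1 := by
    rw [Matrix.GeneralLinearGroup.val_det_apply]
    show (Matrix.diagonal ![(-1 : F), 1]).det = -1
    simp [Matrix.det_diagonal]
  have hup : IsPGroup 2 (Subgroup.zpowers u) := by
    obtain ⟨k, -, hk⟩ := (Nat.dvd_prime_pow Nat.prime_two).1
      (orderOf_dvd_of_pow_eq_one (show u ^ (2 ^ 1) = 1 by simpa using hu2))
    exact IsPGroup.of_card (n := k) (by rw [Nat.card_zpowers, hk])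
  obtain ⟨P, hP⟩ := hup.exists_le_sylow
  have huP : u ∈ (P : Subgroup (GL (Fin 2) F)) := hP (Subgroup.mem_zpowers u)
  have hdet : ∀ g ∈ (P : Subgroup (GL (Fin 2) F)), Matrix.GeneralLinearGroup.det g = 1 ∨
      Matrix.GeneralLinearGroup.det g = Matrix.GeneralLinearGroup.det u := by
    intro g hg
    obtain ⟨k, hk⟩ := P.2 ⟨g, hg⟩
    set c := Matrix.GeneralLinearGroup.det g
    have h1 : c ^ 2 ^ k = 1 := by
      rw [← map_pow, show g ^ 2 ^ k = 1 from congrArg Subtype.val hk, map_one]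
    have h2 : orderOf c ∣ 2 := by
      obtain ⟨i, -, hi⟩ := (Nat.dvd_prime_pow Nat.prime_two).1 (orderOf_dvd_of_pow_eq_one h1)
      have h4 : orderOf c ∣ Fintype.card F - 1 := by
        rw [← Fintype.card_units, ← Nat.card_eq_fintype_card]
        exact orderOf_dvd_natCard c
      rw [hi] at h4 ⊢
      rcases i with _ | _ | i
      · simp
      · simp
      · exfalso
        have : 4 ∣ Fintype.card F - 1 := (dvd_mul_left 4 (2 ^ i)).trans (by
          rw [show 2 ^ i * 4 = 2 ^ (i + 1 + 1) by ring]; exact h4)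
        omega
    rw [orderOf_dvd_iff_pow_eq_one] at h2
    have h5 : (c : F) = 1 ∨ (c : F) = -1 := by
      rw [← sq_eq_one_iff, ← Units.val_pow_eq_pow_val, h2, Units.val_one]
    rcases h5 with h5 | h5
    · exact Or.inl (Units.ext h5)
    · exact Or.inr (Units.ext (h5.trans hdu.symm))
  refine ⟨P, fun g hg => ?_, sq_of_closure _ fun g hg => ?_⟩
  · rcases hdet g hg with h | h
    · exact ⟨1, one_mem _, one_pow 2, by rw [map_one, h]⟩
    · exact ⟨u, huP, hu2, h.symm⟩
  · set T := (P : Subgroup (GL (Fin 2) F))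
    have hker : ∀ y ∈ T ⊓ Matrix.GeneralLinearGroup.det.ker,
        y ∈ Subgroup.closure {g | g ∈ T ∧ g ^ 2 ∈ ⁅T, T⁆} := fun y hy =>
      Subgroup.subset_closure ⟨hy.1,
        Subgroup.commutator_mono inf_le_left inf_le_left (sq_sylow_GL2 hodd P y hy)⟩
    rcases hdet g hg with h | h
    · exact hker g ⟨hg, MonoidHom.mem_ker.2 h⟩
    · rw [show g = (g * u⁻¹) * u by group]
      refine mul_mem (hker _ ⟨mul_mem hg (T.inv_mem huP), MonoidHom.mem_ker.2 ?_⟩)
        (Subgroup.subset_closure ⟨huP, by rw [hu2]; exact one_mem _⟩)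
      rw [map_mul, map_inv, h, mul_inv_cancel]

theorem val_factorial_two_pow (k : ℕ) : padicValNat 2 (2 ^ k).factorial + 1 = 2 ^ k := by
  haveI : Fact (Nat.Prime 2) := ⟨Nat.prime_two⟩
  induction k with
  | zero => simp
  | succ k ih =>
    rw [pow_succ', padicValNat_factorial_mul]
    omega

theorem sl_even (hodd : Odd (Fintype.card F)) {m : ℕ}
    (hq : Fintype.card F % 4 = 3 ∨ (Fintype.card F % 4 = 1 ∧ ∃ j : ℕ, m = 2 ^ j)) :
    ∃ T : Sylow 2 (GL (Fin (2 * m)) F),
      Sq ((T : Subgroup (GL (Fin (2 * m)) F)) ⊓ Matrix.GeneralLinearGroup.det.ker) := by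
  haveI : Fact (Nat.Prime 2) := ⟨Nat.prime_two⟩
  have hq1 : 1 < Fintype.card F := Fintype.one_lt_card
  rcases hq with h3 | ⟨h1, j, rfl⟩
  · obtain ⟨P, hu, -⟩ := exists_sylow_GL2_three hodd h3
    refine gl_step hodd (ε := 0) zero_le_one two_pos even_two (by rw [add_zero, mul_comm]) ?_ P
      (sq_sylow_GL2 hodd P) (Or.inr hu) fun h => absurd h zero_ne_one
    have e1 := (vGL_three hq1 h3 m).1
    have e2 := (vGL_three hq1 h3 1).1
    rw [mul_one, one_mul, Nat.factorial_one, padicValNat.one, add_zero] at e2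
    rw [e1, e2, zero_mul, add_zero]
  · induction j with
    | zero =>
      obtain ⟨P⟩ : Nonempty (Sylow 2 (GL (Fin 2) F)) := inferInstance
      rw [pow_zero, mul_one]
      exact ⟨P, sq_sylow_GL2 hodd P⟩
    | succ j ih =>
      obtain ⟨P, hP⟩ := ih
      refine gl_step hodd (ε := 0) (m := 2) zero_le_one (Nat.mul_pos two_pos (pow_pos two_pos j))
        (even_two_mul _) (by rw [add_zero, pow_succ']) ?_ P hP (Or.inl le_rfl)
        fun h => absurd h zero_ne_one
      have f1 := val_factorial_two_pow (j + 1)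
      have f2 := val_factorial_two_pow (j + 2)
      rw [vGL_one hq1 h1, vGL_one hq1 h1, ← pow_succ' 2 j, ← pow_succ' 2 (j + 1),
        Nat.factorial_two, padicValNat.self (by norm_num), zero_mul, add_zero]
      have : 2 ^ (j + 2) = 2 * 2 ^ (j + 1) := pow_succ' 2 (j + 1)
      rw [show j + 1 + 1 = j + 2 from rfl]
      rw [this] at f2 ⊢
      ring_nf at f1 f2 ⊢
      omega

theorem sl_odd (hodd : Odd (Fintype.card F)) (h3 : Fintype.card F % 4 = 3) (m : ℕ) :
    ∃ T : Sylow 2 (GL (Fin (2 * m + 1)) F),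
      Sq ((T : Subgroup (GL (Fin (2 * m + 1)) F)) ⊓ Matrix.GeneralLinearGroup.det.ker) := by
  haveI : Fact (Nat.Prime 2) := ⟨Nat.prime_two⟩
  have hq1 : 1 < Fintype.card F := Fintype.one_lt_card
  obtain ⟨P, hu, hP⟩ := exists_sylow_GL2_three hodd h3
  refine gl_step hodd (ε := 1) le_rfl two_pos even_two (by rw [mul_comm]) ?_ P
    (sq_sylow_GL2 hodd P) (Or.inr hu) fun _ => hP
  have e1 := (vGL_three hq1 h3 m).2
  have e2 := (vGL_three hq1 h3 1).1
  rw [mul_one, one_mul, Nat.factorial_one, padicValNat.one, add_zero] at e2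
  rw [e1, e2, (val_pred_of_three h3).1, one_mul]

end GLn

section Sp

variable {F : Type u} [Field F] [Fintype F]

theorem sp_sylow (hodd : Odd (Fintype.card F)) (n : ℕ) :
    ∃ T : Sylow 2 (Matrix.symplecticGroup (Fin n) F),
      Sq (T : Subgroup (Matrix.symplecticGroup (Fin n) F)) := by
  classical
  haveI : Fact (Nat.Prime 2) := ⟨Nat.prime_two⟩
  let r : Matrix.SpecialLinearGroup (Fin 2) F →* ((Fin 2 → F) ≃ₗ[F] (Fin 2 → F)) :=
    Matrix.SpecialLinearGroup.toLin'
  have hr : Function.Injective r := Matrix.SpecialLinearGroup.toLin'_injective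
  let B : LinearMap.BilinForm F ((Fin n → (Fin 2 → F)) × (Fin 0 → F)) :=
    LinearMap.mk₂ F (fun x y => ∑ i, (x.1 i 0 * y.1 i 1 - x.1 i 1 * y.1 i 0))
      (fun x x' y => by
        rw [← Finset.sum_add_distrib]
        exact Finset.sum_congr rfl fun i _ => by simp only [Prod.fst_add, Pi.add_apply]; ring)
      (fun c x y => by
        rw [smul_eq_mul, Finset.mul_sum]
        exact Finset.sum_congr rfl fun i _ => by
          simp only [Prod.smul_fst, Pi.smul_apply, smul_eq_mul]; ring)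
      (fun x y y' => by
        rw [← Finset.sum_add_distrib]
        exact Finset.sum_congr rfl fun i _ => by simp only [Prod.fst_add, Pi.add_apply]; ring)
      (fun c x y => by
        rw [smul_eq_mul, Finset.mul_sum]
        exact Finset.sum_congr rfl fun i _ => by
          simp only [Prod.smul_fst, Pi.smul_apply, smul_eq_mul]; ring)
  obtain ⟨ψ, hψ⟩ := CfsgLib.KnownB.RestrictScalars.alt_embed (F := F)
    (modelRep (m := n) (ε := 0) r) (modelRep_injective r hr) B (fun x => by simp [B, mul_comm])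
    (fun x hx => by
      refine Prod.ext (funext fun i => funext fun j => ?_) (Subsingleton.elim _ _)
      have h0 := hx (Pi.single i (Pi.single 0 1), 0)
      have h1 := hx (Pi.single i (Pi.single 1 1), 0)
      simp [B, Pi.single_apply, ite_apply, Finset.sum_sub_distrib, mul_ite] at h0 h1
      fin_cases j
      · simpa using h1
      · simpa using h0)
    (fun g x y => by
      show ∑ i, (blockRep r g.1 x.1 i 0 * blockRep r g.1 y.1 i 1 -
        blockRep r g.1 x.1 i 1 * blockRep r g.1 y.1 i 0) = ∑ i, (x.1 i 0 * y.1 i 1 - x.1 i 1 * y.1 i 0)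
      rw [← Equiv.sum_comp g.1.right.symm (fun i => x.1 i 0 * y.1 i 1 - x.1 i 1 * y.1 i 0)]
      refine Finset.sum_congr rfl fun i _ => ?_
      simp only [blockRep_apply, r, Matrix.SpecialLinearGroup.toLin'_apply, Matrix.toLin'_apply,
        Matrix.mulVec, dotProduct, Fin.sum_univ_two]
      have hdet := (g.1.left i).2
      rw [Matrix.det_fin_two] at hdet
      linear_combination ((x.1 (g.1.right.symm i) 0 * y.1 (g.1.right.symm i) 1 -
        x.1 (g.1.right.symm i) 1 * y.1 (g.1.right.symm i) 0)) * hdet)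
    (m := n) (by rw [Module.finrank_prod, Module.finrank_pi_fintype]; simp [mul_comm])
  obtain ⟨S, hS, S', hS'⟩ := exists_perm_sylow n
  obtain ⟨E⟩ : Nonempty (Sylow 2 (Fin 0 → Fˣ)) := inferInstance
  obtain ⟨P⟩ : Nonempty (Sylow 2 (Matrix.SpecialLinearGroup (Fin 2) F)) := inferInstance
  obtain ⟨T, hT⟩ := exists_sylow_image ψ hψ (by
    rw [factorization_Sp hodd, factorization_SL2 hodd, zero_mul, add_zero]) P S' E
  refine ⟨T, ?_⟩
  have h := sq_map (ψ.comp (MonoidHom.inl _ _)) (sq_wr _ (sq_sylow_SL2 hodd P) S hS)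
  rw [hT, hS']
  suffices e : ((wr (P : Subgroup (Matrix.SpecialLinearGroup (Fin 2) F)) S).prod
      (E : Subgroup (Fin 0 → Fˣ))).map ψ =
      (wr (P : Subgroup (Matrix.SpecialLinearGroup (Fin 2) F)) S).map
        (ψ.comp (MonoidHom.inl _ _)) by
    rw [e]; exact h
  rw [← Subgroup.map_map]
  congr 1
  ext ⟨w, e⟩
  have he : e = 1 := funext fun i => i.elim0
  subst he
  exact ⟨fun h => ⟨w, h.1, rfl⟩, fun ⟨w', hw', e⟩ => ⟨(congrArg Prod.fst e) ▸ hw', one_mem _⟩⟩

end Sp

end CfsgLib.BlockApps.SylowClassical
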